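import Cfsg.Agent.Lib.Bicyclic.Derived
import Cfsg.Agent.Lib.TwoGroups.MetacyclicTwo

/-!
Subgroups of a bicyclic nonmetacyclic 2-group with noncyclic derived subgroup.
-/

set_option autoImplicit false
set_option linter.style.haveILetI false
set_option linter.unusedSectionVars false

namespace Cfsg.Agent.Lib.Bicyclic

open Subgroup
open scoped commutatorElement

variable {X : Type*} [Group X]

/-- Metacyclic groups of exponent two have order at most four. -/
theorem card_le_four_of_sq_one {Y : Type*} [Group Y] [Finite Y] (hm : Cfsg.IsMetacyclic Y)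
    (h : ∀ y : Y, y ^ 2 = 1) : Nat.card Y ≤ 4 := by
  obtain ⟨N, hN, hNc, hQc⟩ := hm
  haveI := hNc
  haveI := hQc
  have hle : ∀ (Z : Type _) [Group Z] [Finite Z] [IsCyclic Z], (∀ z : Z, z ^ 2 = 1) → Nat.card Z ≤ 2 := by
    intro Z _ _ hZc hz
    obtain ⟨g, hg⟩ := hZc.exists_generator
    rw [← orderOf_eq_card_of_forall_mem_zpowers hg]
    exact orderOf_le_of_pow_eq_one two_pos (hz g)
  rw [← N.card_mul_index, N.index_eq_card]
  refine (Nat.mul_le_mul (hle N fun z => Subtype.ext (h z)) (hle (Y ⧸ N) ?_)).trans (by norm_num)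
  intro q
  obtain ⟨y, rfl⟩ := QuotientGroup.mk_surjective q
  rw [← QuotientGroup.mk_pow, h y, QuotientGroup.mk_one]

theorem mk_form (N : Subgroup X) [N.Normal] {u v : X} (h : u⁻¹ * v ∈ N) :
    (u : X ⧸ N) = (v : X ⧸ N) := QuotientGroup.eq.2 h

namespace Data

variable (S : Data X)

/-- The Frattini subgroup `⟨a ^ 2⟩ X'`. -/
def Phi : Subgroup X := zpowers (S.a ^ 2) ⊔ commutator X

theorem commutator_le_Phi : commutator X ≤ S.Phi := le_sup_right

instance Phi_normal : S.Phi.Normal :=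
  ⟨fun n hn g => by
    rw [show g * n * g⁻¹ = ⁅g, n⁆ * n by group]
    exact mul_mem (S.commutator_le_Phi (commutator_mem_commutator (mem_top g) (mem_top n))) hn⟩

theorem exists_form (g : X) : ∃ i j : ℤ, (S.a ^ i * S.b ^ j)⁻¹ * g ∈ commutator X := by
  obtain ⟨i, j, rfl⟩ := S.prod g
  refine ⟨i - j, j, QuotientGroup.eq.1 ?_⟩
  haveI : IsMulCommutative (X ⧸ commutator X) := Normal.quotient_commutative_iff_commutator_le.2 le_rfl
  simp only [QuotientGroup.mk_mul, QuotientGroup.mk_zpow, QuotientGroup.mk_inv]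
  rw [Commute.mul_zpow (IsMulCommutative.is_comm.comm _ _), inv_zpow, zpow_sub]
  group

theorem b_sq_mem : S.b ^ 2 ∈ commutator X := dK_le S.sq_b

theorem mem_Phi_of_even {g : X} {i j : ℤ} (h : (S.a ^ i * S.b ^ j)⁻¹ * g ∈ commutator X)
    (hi : Even i) (hj : Even j) : g ∈ S.Phi := by
  obtain ⟨p, rfl⟩ := hi
  obtain ⟨q, rfl⟩ := hj
  have h1 : S.a ^ (p + p) * S.b ^ (q + q) ∈ S.Phi := by
    rw [← two_mul, ← two_mul, zpow_mul, zpow_mul, zpow_two, ← pow_two, zpow_two, ← pow_two]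
    exact mul_mem (mem_sup_left (zpow_mem (mem_zpowers _) p))
      (mem_sup_right (zpow_mem S.b_sq_mem q))
  have := mul_mem h1 (S.commutator_le_Phi h)
  rwa [mul_inv_cancel_left] at this

/-- The form of an element of `Phi`. -/
theorem exists_Phi {g : X} (hg : g ∈ S.Phi) : ∃ k : ℤ, ∃ d ∈ commutator X, S.a ^ (2 * k) * d = g := by
  obtain ⟨p, hp, d, hd, rfl⟩ := mem_sup_of_normal_right.1 hg
  obtain ⟨k, rfl⟩ := mem_zpowers_iff.1 hp
  exact ⟨k, d, hd, by rw [zpow_mul, zpow_two, pow_two]⟩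

theorem even_of_mem_Phi {g : X} {i j : ℤ} (h : (S.a ^ i * S.b ^ j)⁻¹ * g ∈ commutator X)
    (hg : g ∈ S.Phi) : Even i ∧ Even j := by
  obtain ⟨k, d, hd, rfl⟩ := S.exists_Phi hg
  haveI : IsMulCommutative (X ⧸ commutator X) := Normal.quotient_commutative_iff_commutator_le.2 le_rfl
  have h1 : S.a ^ (i - 2 * k) * S.b ^ j ∈ commutator X := by
    refine (QuotientGroup.eq_one_iff _).1 ?_
    have h2 := QuotientGroup.eq.2 h
    rw [QuotientGroup.mk_mul _ (S.a ^ (2 * k)), (QuotientGroup.eq_one_iff d).2 hd, mul_one] at h2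
    simp only [QuotientGroup.mk_mul, QuotientGroup.mk_zpow] at h2 ⊢
    rw [zpow_sub, mul_assoc, IsMulCommutative.is_comm.comm (((S.a : X ⧸ commutator X) ^ (2 * k))⁻¹),
      ← mul_assoc, h2, mul_inv_cancel]
  obtain ⟨⟨q, hq⟩, hj⟩ := S.parity _ _ h1
  refine ⟨?_, even_iff_two_dvd.2 hj⟩
  rw [show i = 2 * k + 2 ^ S.m * q by omega]
  refine (even_two_mul k).add (Even.mul_right ?_ q)
  exact Int.even_pow.2 ⟨even_two, by have := S.two_le; omega⟩

theorem a_not_mem_Phi : S.a ∉ S.Phi := fun h => by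
  have := (S.even_of_mem_Phi (i := 1) (j := 0) (by simp) h).1
  exact Int.not_even_one this

theorem b_not_mem_Phi : S.b ∉ S.Phi := fun h => by
  have := (S.even_of_mem_Phi (i := 0) (j := 1) (by simp) h).2
  exact Int.not_even_one this

/-- The maximal subgroup `⟨b⟩Φ`. -/
def Mid : Subgroup X := zpowers S.b ⊔ S.Phi

/-- The maximal subgroup `⟨a⟩Φ`. -/
def Long : Subgroup X := zpowers S.a ⊔ S.Phi

theorem Phi_le_Mid : S.Phi ≤ S.Mid := le_sup_right

theorem mem_Mid {g : X} {i j : ℤ} (h : (S.a ^ i * S.b ^ j)⁻¹ * g ∈ commutator X) (hi : Even i) :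
    g ∈ S.Mid := by
  obtain ⟨p, rfl⟩ := hi
  have h1 : S.a ^ (p + p) ∈ S.Mid := by
    rw [← two_mul, zpow_mul, zpow_two, ← pow_two]
    exact S.Phi_le_Mid (mem_sup_left (zpow_mem (mem_zpowers _) p))
  have := mul_mem (mul_mem h1 (mem_sup_left (zpow_mem (mem_zpowers S.b) j)))
    (S.Phi_le_Mid (S.commutator_le_Phi h))
  rwa [mul_inv_cancel_left] at this

/-- An element outside `Mid` does not square to one. -/
theorem sq_ne_one {g : X} (hg : g ∉ S.Mid) : g ^ 2 ∉ commutator X := by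
  intro h
  obtain ⟨i, j, hij⟩ := S.exists_form g
  haveI : IsMulCommutative (X ⧸ commutator X) := Normal.quotient_commutative_iff_commutator_le.2 le_rfl
  have hi : Odd i := Int.not_even_iff_odd.1 fun hi => hg (S.mem_Mid hij hi)
  have h1 : S.a ^ (2 * i) * S.b ^ (2 * j) ∈ commutator X := by
    refine (QuotientGroup.eq_one_iff _).1 ?_
    rw [← (QuotientGroup.eq_one_iff (g ^ 2)).2 h, QuotientGroup.mk_pow, ← QuotientGroup.eq.2 hij]
    simp only [QuotientGroup.mk_mul, QuotientGroup.mk_zpow]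
    rw [(show Commute ((S.a : X ⧸ commutator X) ^ i) ((S.b : X ⧸ commutator X) ^ j) from
      IsMulCommutative.is_comm.comm _ _).mul_pow, ← zpow_natCast, ← zpow_natCast, ← zpow_mul,
      ← zpow_mul]
    push_cast
    rw [mul_comm i, mul_comm j]
  obtain ⟨q, hq⟩ := (S.parity _ _ h1).1
  have h4 : (4 : ℤ) ∣ 2 * i := by
    rw [hq]
    refine Dvd.dvd.mul_right ?_ q
    calc (4 : ℤ) = 2 ^ 2 := by norm_num
      _ ∣ 2 ^ S.m := pow_dvd_pow _ S.two_le
  obtain ⟨r, hr⟩ := hi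
  omega

theorem involution_mem_Mid {g : X} (hg : g ^ 2 = 1) : g ∈ S.Mid :=
  by_contra fun h => S.sq_ne_one h (hg ▸ one_mem _)

theorem gen_of_mem_Mid [Finite X] (hX : IsPGroup 2 X) {g : X} (hg : g ∈ S.Mid) (hgP : g ∉ S.Phi) :
    closure ({S.a, g} : Set X) = ⊤ := by
  obtain ⟨p, hp, r, hr, rfl⟩ := mem_sup_of_normal_right.1 hg
  obtain ⟨j, rfl⟩ := mem_zpowers_iff.1 hp
  obtain ⟨k, d, hd, rfl⟩ := S.exists_Phi hr
  have hj : Odd j := by
    refine Int.not_even_iff_odd.1 fun hj => hgP (mul_mem ?_ hr)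
    obtain ⟨q, rfl⟩ := hj
    rw [← two_mul, zpow_mul, zpow_two, ← pow_two]
    exact S.commutator_le_Phi (zpow_mem S.b_sq_mem q)
  set U := closure ({S.a, S.b ^ j * (S.a ^ (2 * k) * d)} : Set X) with hU
  refine PGroups.closure_eq_top_of_sup_frattini ?_
  refine eq_top_iff.2 (S.gen ▸ (closure_le _).2 ?_)
  have ha : S.a ∈ U ⊔ frattini X := mem_sup_left (subset_closure (by simp))
  have hbj : S.b ^ j ∈ U ⊔ frattini X := by
    have h1 : S.b ^ j * (S.a ^ (2 * k) * d) ∈ U ⊔ frattini X := mem_sup_left (subset_closure (by simp))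
    exact (mul_mem_cancel_right (mul_mem (zpow_mem ha _)
      (mem_sup_right (PGroups.commutator_le_frattini hX hd)))).1 h1
  intro v hv
  simp only [Set.mem_insert_iff, Set.mem_singleton_iff] at hv
  rw [SetLike.mem_coe]
  rcases hv with hv | hv <;> rw [hv]
  · exact ha
  · exact zpowers_le.2 hbj (mem_zpowers_zpow_odd hX S.b hj)

/-- The data with the roles of the two cyclic factors exchanged. -/
def swap : Data X where
  a := S.a⁻¹ * S.b
  b := S.a⁻¹ * S.b * S.a
  m := S.m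
  two_le := S.two_le
  gen := by
    refine eq_top_iff.2 (S.gen ▸ (closure_le _).2 ?_)
    have hy : S.a⁻¹ * S.b ∈ closure ({S.a⁻¹ * S.b, S.a⁻¹ * S.b * S.a} : Set X) :=
      subset_closure (by simp)
    have ha : S.a ∈ closure ({S.a⁻¹ * S.b, S.a⁻¹ * S.b * S.a} : Set X) := by
      have := mul_mem (inv_mem hy) (subset_closure (by simp) :
        S.a⁻¹ * S.b * S.a ∈ closure ({S.a⁻¹ * S.b, S.a⁻¹ * S.b * S.a} : Set X))
      rwa [show (S.a⁻¹ * S.b)⁻¹ * (S.a⁻¹ * S.b * S.a) = S.a by group] at this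
    intro v hv
    simp only [Set.mem_insert_iff, Set.mem_singleton_iff] at hv
    rw [SetLike.mem_coe]
    rcases hv with hv | hv <;> rw [hv]
    · exact ha
    · simpa using mul_mem ha hy
  prod := fun g => by
    obtain ⟨i, j, h⟩ := S.prod g⁻¹
    refine ⟨-j, -i, ?_⟩
    rw [inv_mul_cancel_left, zpow_neg, zpow_neg, ← mul_inv_rev, ← h, inv_inv]
  sq_b := by
    rw [show (S.a⁻¹ * S.b * S.a) ^ 2 = S.a⁻¹ * S.b ^ 2 * S.a⁻¹⁻¹ by rw [pow_two, pow_two]; group]
    exact (inferInstance : (dK X).Normal).conj_mem _ S.sq_b _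
  pow_a := by
    set d := ((⁅S.a, S.b⁆ : X) : X ⧸ dK X) with hd
    have hdm : ⁅S.a, S.b⁆ ∈ commutator X := commutator_mem_commutator (mem_top _) (mem_top _)
    refine (QuotientGroup.eq_one_iff _).1 ?_
    set A := (S.a : X ⧸ dK X) with hA
    set B := (S.b : X ⧸ dK X) with hB
    have hB2 : B * B = 1 := by
      rw [← pow_two, hB, ← QuotientGroup.mk_pow]; exact (QuotientGroup.eq_one_iff _).2 S.sq_b
    have h2 : (A⁻¹ * B) ^ 2 = (A ^ 2)⁻¹ * d := by
      rw [hd, pow_two, pow_two]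
      show A⁻¹ * B * (A⁻¹ * B) = (A * A)⁻¹ * (A * B * A⁻¹ * B⁻¹)
      have hBi : B⁻¹ = B := inv_eq_of_mul_eq_one_right hB2
      rw [hBi]
      group
    have h4 : (A⁻¹ * B) ^ (2 ^ S.m) = (A ^ (2 ^ S.m))⁻¹ := by
      rw [show 2 ^ S.m = 2 * 2 * 2 ^ (S.m - 2) by
        rw [show 2 * 2 = 2 ^ 2 from rfl, ← pow_add, Nat.add_sub_cancel' S.two_le]]
      rw [pow_mul, pow_mul, h2, ((mk_dK_central hdm _).symm).mul_pow, mk_dK_sq hdm, mul_one]
      simp only [← pow_mul, ← inv_pow]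
    rw [QuotientGroup.mk_pow, QuotientGroup.mk_mul, QuotientGroup.mk_inv, ← hA, ← hB, h4,
      hA, ← QuotientGroup.mk_pow, (QuotientGroup.eq_one_iff _).2 S.pow_a, inv_one]
  parity := fun i j h => by
    haveI : IsMulCommutative (X ⧸ commutator X) := Normal.quotient_commutative_iff_commutator_le.2 le_rfl
    have h1 : S.a ^ (-i) * S.b ^ (i + j) ∈ commutator X := by
      refine (QuotientGroup.eq_one_iff _).1 ?_
      rw [← (QuotientGroup.eq_one_iff _).2 h]
      simp only [QuotientGroup.mk_mul, QuotientGroup.mk_zpow, QuotientGroup.mk_inv]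
      have hcomm : ∀ p q : X ⧸ commutator X, Commute p q := IsMulCommutative.is_comm.comm
      rw [(hcomm ((S.a : X ⧸ commutator X)⁻¹) (S.b : X ⧸ commutator X)).mul_zpow, inv_zpow',
        mul_assoc ((S.a : X ⧸ commutator X)⁻¹) _ _, (hcomm (S.b : X ⧸ commutator X) _).eq,
        inv_mul_cancel_left, zpow_add, mul_assoc]
    obtain ⟨hi, hj⟩ := S.parity _ _ h1
    refine ⟨dvd_neg.1 hi, ?_⟩
    have h2i : (2 : ℤ) ∣ i := (dvd_pow_self 2 (by have := S.two_le; omega)).trans (dvd_neg.1 hi)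
    exact (dvd_add_right h2i).1 hj
  not_mem := by
    intro h
    refine S.not_mem ?_
    have h1 := inv_mem ((inferInstance : (dK X).Normal).conj_mem _ h (S.a * (S.a⁻¹ * S.b)⁻¹))
    rwa [show (S.a * (S.a⁻¹ * S.b)⁻¹ * ⁅S.a⁻¹ * S.b, S.a⁻¹ * S.b * S.a⁆ *
      (S.a * (S.a⁻¹ * S.b)⁻¹)⁻¹)⁻¹ = ⁅S.a, S.b⁆ by
        simp only [commutatorElement_def]; group] at h1

end Data

namespace NData

variable (S : NData X)

/-- The involutions of the derived subgroup. -/
def W : Subgroup X where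
  carrier := {d | d ∈ commutator X ∧ d ^ 2 = 1}
  one_mem' := ⟨one_mem _, one_pow 2⟩
  mul_mem' := fun {u v} hu hv => ⟨mul_mem hu.1 hv.1, by
    rw [(show Commute u v from S.comm u hu.1 v hv.1).mul_pow, hu.2, hv.2, one_mul]⟩
  inv_mem' := fun {u} hu => ⟨inv_mem hu.1, by rw [inv_pow, hu.2, inv_one]⟩

theorem mem_W {u : X} : u ∈ S.W ↔ u ∈ commutator X ∧ u ^ 2 = 1 := Iff.rfl

instance W_normal : S.W.Normal :=
  ⟨fun n hn g => ⟨(inferInstance : (commutator X).Normal).conj_mem n hn.1 g, by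
    rw [conj_pow, hn.2, mul_one, mul_inv_cancel]⟩⟩

/-- The data with the cyclic factors exchanged. -/
def swap : NData X where
  toData := S.toData.swap
  isTwo := S.isTwo
  comm := S.comm
  ncyc := S.ncyc

theorem conj_c : S.a * S.c * S.a⁻¹ = S.τ * S.c := by
  rw [τ, commutatorElement_def, inv_mul_cancel_right]

theorem conj_t : S.a * S.t * S.a⁻¹ = S.t := by
  rw [S.a_commute_t.eq, mul_inv_cancel_right]

theorem comm_ct [Finite X] (i q : ℤ) : ⁅S.a, S.c ^ i * S.t ^ q⁆ = S.τ ^ i := by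
  have hτc : Commute S.τ S.c := S.comm _ S.τ_mem _ S.c_mem
  rw [commutatorElement_def]
  calc S.a * (S.c ^ i * S.t ^ q) * S.a⁻¹ * (S.c ^ i * S.t ^ q)⁻¹
      = (S.a * S.c ^ i * S.a⁻¹) * (S.a * S.t ^ q * S.a⁻¹) * (S.c ^ i * S.t ^ q)⁻¹ := by group
    _ = S.τ ^ i := by rw [← conj_zpow, ← conj_zpow, S.conj_c, S.conj_t, hτc.mul_zpow]; group

theorem exists_comm_a [Finite X] {d : X} (hd : d ∈ commutator X) :
    ∃ i : ℤ, S.a * d * S.a⁻¹ = S.τ ^ i * d := by
  obtain ⟨i, q, rfl⟩ := S.exists_ct hd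
  refine ⟨i, ?_⟩
  rw [← S.comm_ct i q, commutatorElement_def, inv_mul_cancel_right]

theorem exists_conj_τ [Finite X] : ∃ k : ℤ, S.a * S.τ * S.a⁻¹ = S.τ ^ (2 * k) * S.τ := by
  obtain ⟨e, he, h⟩ := S.exists_τ
  obtain ⟨i, hi⟩ := S.exists_comm_a he
  refine ⟨i, ?_⟩
  have hc : Commute (S.τ ^ i) e := S.comm _ (zpow_mem S.τ_mem i) _ he
  calc S.a * S.τ * S.a⁻¹ = S.a * S.t * S.a⁻¹ * (S.a * e * S.a⁻¹) ^ 2 := by
        rw [conj_pow, h]; group
    _ = S.t * ((S.τ ^ i) ^ 2 * e ^ 2) := by rw [S.conj_t, hi, hc.mul_pow]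
    _ = (S.τ ^ i) ^ 2 * (S.t * e ^ 2) := by
        rw [← mul_assoc, S.comm _ S.t_mem _ (pow_mem (zpow_mem S.τ_mem i) 2), mul_assoc]
    _ = _ := by rw [← h, ← zpow_natCast, ← zpow_mul]; congr 2; push_cast; ring

/-- Elements of the Frattini subgroup centralise `W`. -/
theorem Phi_centralizes_W [Finite X] {g w : X} (hg : g ∈ S.Phi) (hw : w ∈ S.W) : g * w = w * g := by
  obtain ⟨k, d, hd, rfl⟩ := S.exists_Phi hg
  have ha2 : Commute (S.a ^ (2 : ℕ)) w := by
    obtain ⟨i, hi⟩ := S.exists_comm_a hw.1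
    obtain ⟨l, hl⟩ := S.exists_conj_τ
    have hi2 : S.τ ^ (2 * i) = 1 := by
      have h1 : (S.a * w * S.a⁻¹) ^ 2 = 1 := by rw [conj_pow, hw.2, mul_one, mul_inv_cancel]
      rw [hi, (show Commute (S.τ ^ i) w from S.comm _ (zpow_mem S.τ_mem i) _ hw.1).mul_pow, hw.2,
        mul_one, ← zpow_natCast, ← zpow_mul] at h1
      rw [← h1]; congr 1; push_cast; ring
    refine mul_inv_eq_iff_eq_mul.1 ?_
    calc S.a ^ 2 * w * (S.a ^ 2)⁻¹ = S.a * (S.τ ^ i * w) * S.a⁻¹ := by
          rw [← hi, pow_two]; group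
      _ = (S.a * S.τ * S.a⁻¹) ^ i * (S.a * w * S.a⁻¹) := by rw [conj_zpow]; group
      _ = w := by
          rw [hi, hl, (Commute.zpow_self _ _).mul_zpow, ← zpow_mul, ← mul_assoc, ← zpow_add,
            ← zpow_add, show 2 * l * i + i + i = 2 * i * (l + 1) by ring, zpow_mul, hi2, one_zpow,
            one_mul]
  rw [zpow_mul, zpow_two, ← pow_two]
  exact ((ha2.zpow_left k).mul_left (S.comm d hd w hw.1)).eq

theorem card_W [Finite X] : Nat.card S.W = 4 := by
  classical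
  set D := commutator X with hD
  let sq : D →* D := MonoidHom.mk' (fun d => d ^ 2) fun u v => by
    show (u * v) ^ 2 = u ^ 2 * v ^ 2
    exact (show Commute u v from Subtype.ext (S.comm u u.2 v v.2)).mul_pow 2
  have hker : Nat.card sq.ker = Nat.card S.W := by
    refine Nat.card_congr
      { toFun := fun d => ⟨(d.1 : X), d.1.2, congrArg Subtype.val (MonoidHom.mem_ker.1 d.2)⟩
        invFun := fun w => ⟨⟨(w : X), w.2.1⟩, MonoidHom.mem_ker.2 (Subtype.ext w.2.2)⟩
        left_inv := fun _ => rfl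
        right_inv := fun _ => rfl }
  have hR : ∀ d : D, (d : X) ∈ dSq X ↔ d ∈ sq.range := fun d => by
    constructor
    · intro h
      obtain ⟨e, he, hde⟩ := S.exists_sq h
      exact ⟨⟨e, he⟩, Subtype.ext hde.symm⟩
    · rintro ⟨e, rfl⟩
      exact sq_mem_dSq e.2
  haveI : IsMulCommutative D := ⟨⟨fun u v => Subtype.ext (S.comm u u.2 v v.2)⟩⟩
  have hindex : sq.range.index = 4 := by
    let f : Fin 2 × Fin 2 → D ⧸ sq.range := fun p =>
      ((⟨S.c ^ (p.1 : ℕ) * S.t ^ (p.2 : ℕ), mul_mem (pow_mem S.c_mem _) (pow_mem S.t_mem _)⟩ : D) :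
        D ⧸ sq.range)
    have hf : Function.Bijective f := by
      constructor
      · rintro ⟨i, j⟩ ⟨i', j'⟩ h
        have h1 := (hR _).2 (QuotientGroup.eq.1 h)
        simp only [Subgroup.coe_mul, InvMemClass.coe_inv] at h1
        have hc : S.c ^ ((i' : ℤ) - i) * S.t ^ ((j' : ℤ) - j) ∈ dSq X := by
          refine (iff_of_eq (congrArg (· ∈ dSq X) ?_)).1 h1
          calc _ = S.t ^ (-(j : ℤ)) * S.c ^ ((i' : ℤ) - i) * S.t ^ ((j' : ℕ) : ℤ) := by group
            _ = S.c ^ ((i' : ℤ) - i) * S.t ^ (-(j : ℤ)) * S.t ^ ((j' : ℕ) : ℤ) := by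
              rw [S.comm _ (zpow_mem S.t_mem _) _ (zpow_mem S.c_mem _)]
            _ = _ := by rw [mul_assoc, ← zpow_add]; congr 2; ring
        have hi : i = i' := by
          by_contra hne
          refine S.c_not_mem ?_
          have hd : (i' : ℤ) - i = 1 ∨ (i' : ℤ) - i = -1 := by
            fin_cases i <;> fin_cases i' <;> simp_all
          have h2 := mul_mem (mem_sup_right hc : _ ∈ zpowers S.t ⊔ dSq X)
            (inv_mem (mem_sup_left (zpow_mem (mem_zpowers S.t) ((j' : ℤ) - j))))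
          rw [mul_inv_cancel_right] at h2
          rcases hd with hd | hd <;> rw [hd] at h2 <;> simpa using h2
        subst hi
        rw [sub_self, zpow_zero, one_mul] at hc
        have hj : j = j' := by
          by_contra hne
          refine S.t_not_mem ?_
          have hd : (j' : ℤ) - j = 1 ∨ (j' : ℤ) - j = -1 := by
            fin_cases j <;> fin_cases j' <;> simp_all
          rcases hd with hd | hd <;> rw [hd] at hc <;> simpa using hc
        rw [hj]
      · intro q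
        obtain ⟨d, rfl⟩ := QuotientGroup.mk_surjective q
        obtain ⟨i, r, e, he, heq⟩ := S.exists_mod d.2
        obtain ⟨p, hp⟩ : ∃ p : Fin 2, ∃ k : ℤ, i = (p : ℕ) + 2 * k := by
          rcases Int.even_or_odd i with ⟨k, hk⟩ | ⟨k, hk⟩
          · exact ⟨0, k, by simp; omega⟩
          · exact ⟨1, k, by simp; omega⟩
        obtain ⟨k, hk⟩ := hp
        obtain ⟨p', k', hk'⟩ : ∃ p : Fin 2, ∃ k : ℤ, r = (p : ℕ) + 2 * k := by
          rcases Int.even_or_odd r with ⟨k, hk⟩ | ⟨k, hk⟩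
          · exact ⟨0, k, by simp; omega⟩
          · exact ⟨1, k, by simp; omega⟩
        refine ⟨(p, p'), QuotientGroup.eq.2 ((hR _).1 ?_)⟩
        simp only [Subgroup.coe_mul, InvMemClass.coe_inv]
        rw [heq, hk, hk', zpow_add, zpow_add, zpow_natCast, zpow_natCast]
        set u := S.c ^ (p : ℕ)
        set v := S.t ^ (p' : ℕ)
        have hu : u ∈ D := pow_mem S.c_mem _
        have hv : v ∈ D := pow_mem S.t_mem _
        have hrest : S.c ^ (2 * k) * S.t ^ (2 * k') * e ^ 2 ∈ dSq X := by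
          rw [zpow_mul, zpow_two, ← pow_two, zpow_mul, zpow_two, ← pow_two]
          exact mul_mem (mul_mem (zpow_mem (sq_mem_dSq S.c_mem) k) (zpow_mem (sq_mem_dSq S.t_mem) k'))
            (sq_mem_dSq he)
        refine (iff_of_eq (congrArg (· ∈ dSq X) ?_)).1 hrest
        rw [mul_assoc u, ← mul_assoc (S.c ^ (2 * k)) v,
          S.comm (S.c ^ (2 * k)) (zpow_mem S.c_mem _) v hv]
        group
    rw [Subgroup.index, ← Nat.card_congr (Equiv.ofBijective f hf), Nat.card_prod, Nat.card_fin]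
  rw [← hker]
  have h1 := sq.range.card_mul_index
  rw [hindex] at h1
  have h2 := sq.ker.card_mul_index
  rw [Subgroup.index_ker] at h2
  have hpos : 0 < Nat.card sq.range := Nat.card_pos
  nlinarith

/-- `Long` is metacyclic. -/
theorem long_metacyclic [Finite X] : Cfsg.IsMetacyclic S.Long := by
  have hle : S.Long = closure ({S.a, S.c} : Set X) := by
    refine le_antisymm ?_ ?_
    · have ha : S.a ∈ closure ({S.a, S.c} : Set X) := subset_closure (by simp)
      refine sup_le (zpowers_le.2 ha) (sup_le (zpowers_le.2 (pow_mem ha 2)) ?_)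
      rw [S.gen_D]
      exact sup_le (zpowers_le.2 (subset_closure (by simp))) (zpowers_le.2 (pow_mem ha _))
    · refine (closure_le _).2 ?_
      rintro v (rfl | rfl)
      · exact mem_sup_left (mem_zpowers _)
      · exact mem_sup_right (mem_sup_right S.c_mem)
  rw [hle]
  set P := closure ({S.a, S.c} : Set X) with hP
  let α : P := ⟨S.a, subset_closure (by simp)⟩
  let γ : P := ⟨S.c, subset_closure (by simp)⟩
  have hgen : closure ({α, γ} : Set P) = ⊤ := by
    refine (Subgroup.map_injective P.subtype_injective) ?_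
    rw [MonoidHom.map_closure, Set.image_pair, ← MonoidHom.range_eq_map, P.range_subtype]
    rfl
  obtain ⟨e, he, hτ⟩ := S.exists_τ
  obtain ⟨i, q, rfl⟩ := S.exists_ct he
  have hcom : Commute (S.c ^ i) (S.t ^ q) :=
    S.comm _ (zpow_mem S.c_mem i) _ (zpow_mem S.t_mem q)
  have hval : ⁅S.a, S.c⁆ = S.a ^ (2 * ((2 ^ (S.m - 1) : ℕ) * (1 + 2 * q))) * S.c ^ (2 * i) := by
    have h2m : (2 : ℤ) * ((2 ^ (S.m - 1) : ℕ) : ℤ) = ((2 ^ S.m : ℕ) : ℤ) := by
      push_cast
      rw [← pow_succ', Nat.sub_add_cancel (by have := S.two_le; omega)]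
    rw [← mul_assoc, h2m, zpow_mul, zpow_natCast]
    show S.τ = S.t ^ (1 + 2 * q) * S.c ^ (2 * i)
    rw [hτ, hcom.mul_pow, zpow_add, zpow_one, ← zpow_natCast (S.c ^ i), ← zpow_natCast (S.t ^ q),
      ← zpow_mul, ← zpow_mul, mul_assoc,
      S.comm _ (zpow_mem S.c_mem (i * (2 : ℕ))) _ (zpow_mem S.t_mem (q * (2 : ℕ)))]
    push_cast
    rw [mul_comm i, mul_comm q]
  refine isMetacyclic_of_even (S.isTwo.to_subgroup P) hgen
    ((2 ^ (S.m - 1) : ℕ) * (1 + 2 * q)) i ?_ (Or.inl ?_)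
  · rw [← QuotientGroup.mk_zpow, ← QuotientGroup.mk_zpow, ← QuotientGroup.mk_mul]
    exact congrArg _ (Subtype.ext hval)
  · refine Even.mul_right ?_ _
    rw [Int.even_coe_nat, Nat.even_pow]
    exact ⟨even_two, by have := S.two_le; omega⟩

theorem phi_metacyclic [Finite X] : Cfsg.IsMetacyclic S.Phi := by
  have h := TwoGroups.MetacyclicTwo.subgroup_metacyclic S.long_metacyclic (S.Phi.subgroupOf S.Long)
  obtain ⟨N, hN, hNc, hQc⟩ := h
  let e : S.Phi.subgroupOf S.Long ≃* S.Phi := Subgroup.subgroupOfEquivOfLe le_sup_right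
  haveI : (N.map e.toMonoidHom).Normal := hN.map _ e.surjective
  refine ⟨N.map e.toMonoidHom, inferInstance, ?_, ?_⟩
  · exact isCyclic_of_surjective (e.subgroupMap N).toMonoidHom (e.subgroupMap N).surjective
  · exact isCyclic_of_surjective (QuotientGroup.congr N (N.map e.toMonoidHom) e rfl).toMonoidHom
      (QuotientGroup.congr N (N.map e.toMonoidHom) e rfl).surjective

/-- The only involutions of the Frattini subgroup lie in the derived subgroup. -/
theorem mem_W_of_sq [Finite X] {u : X} (hu : u ∈ S.Phi) (h2 : u ^ 2 = 1) : u ∈ S.W := by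
  by_contra hne
  set E : Subgroup X := zpowers u ⊔ S.W with hE
  have hEP : E ≤ S.Phi := sup_le (zpowers_le.2 hu) fun w hw => S.commutator_le_Phi hw.1
  have hWc : ∀ w ∈ S.W, Commute u w := fun w hw => S.Phi_centralizes_W hu hw
  have hsq : ∀ v ∈ E, v ^ 2 = 1 := by
    intro v hv
    obtain ⟨p, hp, w, hw, rfl⟩ := mem_sup_of_normal_right.1 hv
    obtain ⟨k, rfl⟩ := mem_zpowers_iff.1 hp
    rw [((hWc w hw).zpow_left k).mul_pow, hw.2, mul_one, ← zpow_natCast, ← zpow_mul,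
      mul_comm, zpow_mul, zpow_natCast, h2, one_zpow]
  have h4 : Nat.card E ≤ 4 := by
    have hmE := TwoGroups.MetacyclicTwo.subgroup_metacyclic S.phi_metacyclic (E.subgroupOf S.Phi)
    have h := card_le_four_of_sq_one hmE fun v => Subtype.ext (Subtype.ext (hsq _ v.2))
    rwa [Nat.card_congr (Subgroup.subgroupOfEquivOfLe hEP).toEquiv] at h
  have hWE : S.W = E := Subgroup.eq_of_le_of_card_ge le_sup_right (h4.trans S.card_W.ge)
  exact hne (hWE.ge (mem_sup_left (mem_zpowers u)))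

/-- An involution outside the Frattini subgroup inverts the derived subgroup. -/
theorem inverts [Finite X] {x : X} (hxP : x ∉ S.Phi) (hx : x ^ 2 = 1) {d : X}
    (hd : d ∈ commutator X) : x * d * x⁻¹ = d⁻¹ := by
  have hg := S.gen_of_mem_Mid S.isTwo (S.involution_mem_Mid hx) hxP
  set T : Set X := Set.range fun g : X => ⁅g, x⁆
  have hconj : ∀ v ∈ closure T, v ∈ commutator X ∧ x * v * x⁻¹ = v⁻¹ := by
    intro v hv
    induction hv using closure_induction with
    | mem v hv =>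
      obtain ⟨g, rfl⟩ := hv
      refine ⟨commutator_mem_commutator (mem_top g) (mem_top x), ?_⟩
      have hxi : x⁻¹ = x := inv_eq_of_mul_eq_one_right (by rw [← pow_two, hx])
      show x * (g * x * g⁻¹ * x⁻¹) * x⁻¹ = (g * x * g⁻¹ * x⁻¹)⁻¹
      rw [mul_inv_rev, mul_inv_rev, mul_inv_rev, inv_inv, inv_inv]
      calc x * (g * x * g⁻¹ * x⁻¹) * x⁻¹ = x * (g * x * g⁻¹) * (x⁻¹ * x⁻¹) := by group
        _ = x * (g * (x⁻¹ * g⁻¹)) := by
            rw [show x⁻¹ * x⁻¹ = 1 by rw [hxi, ← pow_two, hx], hxi]; group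
    | one => exact ⟨one_mem _, by simp⟩
    | mul p q _ _ hp hq =>
      refine ⟨mul_mem hp.1 hq.1, ?_⟩
      rw [show x * (p * q) * x⁻¹ = x * p * x⁻¹ * (x * q * x⁻¹) by group, hp.2, hq.2, mul_inv_rev,
        S.comm _ (inv_mem hp.1) _ (inv_mem hq.1)]
    | inv p _ hp =>
      exact ⟨inv_mem hp.1, by rw [show x * p⁻¹ * x⁻¹ = (x * p * x⁻¹)⁻¹ by group, hp.2]⟩
  haveI : (closure T).Normal := by
    refine ⟨fun n hn h => ?_⟩
    induction hn using closure_induction with
    | mem v hv =>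
      obtain ⟨g, rfl⟩ := hv
      rw [show h * ⁅g, x⁆ * h⁻¹ = ⁅h * g, x⁆ * ⁅h, x⁆⁻¹ by
        simp only [commutatorElement_def]; group]
      exact mul_mem (subset_closure ⟨_, rfl⟩) (inv_mem (subset_closure ⟨_, rfl⟩))
    | one => simp
    | mul p q _ _ hp hq =>
      rw [show h * (p * q) * h⁻¹ = h * p * h⁻¹ * (h * q * h⁻¹) by group]
      exact mul_mem hp hq
    | inv p _ hp =>
      rw [show h * p⁻¹ * h⁻¹ = (h * p * h⁻¹)⁻¹ by group]
      exact inv_mem hp
  exact (hconj d (commutator_le_of_gens hg _ (Subgroup.subset_closure (k := T) ⟨S.a, rfl⟩) hd)).2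

end NData

end Cfsg.Agent.Lib.Bicyclic
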