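import Cfsg.Agent.Lib.Bicyclic.Action
import Cfsg.Agent.Lib.TwoGroups.OddAut
import Cfsg.Agent.Lib.LA5.HSub.Core

/-!
Centralizers, the central involution and automorphisms of bicyclic 2-groups with noncyclic derived
subgroup.
-/

set_option autoImplicit false
set_option linter.style.haveILetI false
set_option linter.unusedSectionVars false

namespace Cfsg.Agent.Lib.Bicyclic

open Subgroup
open scoped commutatorElement

variable {X : Type*} [Group X]

namespace Data

variable (S : Data X)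

theorem sq_mem_Phi (g : X) : g ^ 2 ∈ S.Phi := by
  obtain ⟨i, j, hij⟩ := S.exists_form g
  haveI : IsMulCommutative (X ⧸ commutator X) := Normal.quotient_commutative_iff_commutator_le.2 le_rfl
  refine S.mem_Phi_of_even (i := 2 * i) (j := 2 * j) ?_ (even_two_mul i) (even_two_mul j)
  refine QuotientGroup.eq.1 ?_
  rw [QuotientGroup.mk_pow, ← QuotientGroup.eq.2 hij]
  simp only [QuotientGroup.mk_mul, QuotientGroup.mk_zpow]
  rw [(show Commute ((S.a : X ⧸ commutator X) ^ i) ((S.b : X ⧸ commutator X) ^ j) from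
    IsMulCommutative.is_comm.comm _ _).mul_pow, ← zpow_natCast, ← zpow_natCast, ← zpow_mul, ← zpow_mul]
  push_cast
  rw [mul_comm i, mul_comm j]

theorem Phi_le_frattini [Finite X] (hX : IsPGroup 2 X) : S.Phi ≤ frattini X :=
  sup_le (zpowers_le.2 (PGroups.pow_mem_frattini hX S.a)) (PGroups.commutator_le_frattini hX)

theorem mem_Mid_iff_pow {g : X} : g ∈ S.Mid ↔ g ^ 2 ^ (S.m - 1) ∈ commutator X := by
  haveI : IsMulCommutative (X ⧸ commutator X) := Normal.quotient_commutative_iff_commutator_le.2 le_rfl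
  obtain ⟨i, j, hij⟩ := S.exists_form g
  have hpow : ((g ^ 2 ^ (S.m - 1) : X) : X ⧸ commutator X) =
      ((S.a ^ (i * (2 ^ (S.m - 1) : ℕ)) * S.b ^ (j * (2 ^ (S.m - 1) : ℕ)) : X) : X ⧸ commutator X) := by
    rw [QuotientGroup.mk_pow, ← QuotientGroup.eq.2 hij]
    simp only [QuotientGroup.mk_mul, QuotientGroup.mk_zpow]
    rw [(show Commute ((S.a : X ⧸ commutator X) ^ i) ((S.b : X ⧸ commutator X) ^ j) from
      IsMulCommutative.is_comm.comm _ _).mul_pow, zpow_mul, zpow_mul, zpow_natCast, zpow_natCast]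
  have h2m : ((2 ^ (S.m - 1) : ℕ) : ℤ) * 2 = ((2 ^ S.m : ℕ) : ℤ) := by
    push_cast
    rw [← pow_succ, Nat.sub_add_cancel (by have := S.two_le; omega)]
  constructor
  · intro hg
    obtain ⟨p, hp, r, hr, rfl⟩ := mem_sup_of_normal_right.1 hg
    obtain ⟨n, rfl⟩ := mem_zpowers_iff.1 hp
    obtain ⟨k, d, hd, rfl⟩ := S.exists_Phi hr
    refine (QuotientGroup.eq_one_iff _).1 ?_
    simp only [QuotientGroup.mk_pow, QuotientGroup.mk_mul, QuotientGroup.mk_zpow,
      (QuotientGroup.eq_one_iff d).2 hd, mul_one]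
    rw [(show Commute ((S.b : X ⧸ commutator X) ^ n) ((S.a : X ⧸ commutator X) ^ (2 * k)) from
      IsMulCommutative.is_comm.comm _ _).mul_pow, ← zpow_natCast, ← zpow_natCast, ← zpow_mul, ← zpow_mul]
    have h1 : (S.b : X ⧸ commutator X) ^ (n * (2 ^ (S.m - 1) : ℕ)) = 1 := by
      rw [show ((2 ^ (S.m - 1) : ℕ) : ℤ) = 2 * ((2 ^ (S.m - 2) : ℕ) : ℤ) by
        push_cast; rw [← pow_succ']; congr 1; have := S.two_le; omega]
      rw [mul_left_comm, zpow_mul, zpow_two, ← pow_two, ← QuotientGroup.mk_pow,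
        (QuotientGroup.eq_one_iff _).2 S.b_sq_mem, one_zpow]
    have h2 : (S.a : X ⧸ commutator X) ^ (2 * k * (2 ^ (S.m - 1) : ℕ)) = 1 := by
      rw [show 2 * k * ((2 ^ (S.m - 1) : ℕ) : ℤ) = ((2 ^ (S.m - 1) : ℕ) : ℤ) * 2 * k by ring, h2m,
        zpow_mul, zpow_natCast, ← QuotientGroup.mk_pow, (QuotientGroup.eq_one_iff _).2 (dK_le S.pow_a),
        one_zpow]
    rw [h1, h2, one_mul]
  · intro hg
    refine S.mem_Mid hij ?_
    rw [← QuotientGroup.eq_one_iff, hpow, QuotientGroup.eq_one_iff] at hg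
    obtain ⟨q, hq⟩ := (S.parity _ _ hg).1
    have h3 : i * ((2 ^ (S.m - 1) : ℕ) : ℤ) = (2 * q) * ((2 ^ (S.m - 1) : ℕ) : ℤ) := by
      rw [hq, show (2 ^ S.m : ℤ) = ((2 ^ (S.m - 1) : ℕ) : ℤ) * 2 by rw [h2m]; push_cast; rfl]
      ring
    rw [mul_right_cancel₀ (by positivity) h3]
    exact even_two_mul q

theorem a_not_mem_Mid : S.a ∉ S.Mid := by
  intro h
  obtain ⟨p, hp, r, hr, hpr⟩ := mem_sup_of_normal_right.1 h
  obtain ⟨n, rfl⟩ := mem_zpowers_iff.1 hp
  refine Int.not_even_one (S.even_of_mem_Phi (g := r) (i := 1) (j := -n) ?_ hr).1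
  haveI : IsMulCommutative (X ⧸ commutator X) := Normal.quotient_commutative_iff_commutator_le.2 le_rfl
  refine QuotientGroup.eq.1 ?_
  rw [← hpr]
  simp only [QuotientGroup.mk_mul, QuotientGroup.mk_inv, QuotientGroup.mk_zpow, zpow_one, zpow_neg]
  rw [IsMulCommutative.is_comm.comm ((S.b : X ⧸ commutator X) ^ n) _, mul_inv_cancel_right]

theorem gen_of_not_mem_Mid [Finite X] (hX : IsPGroup 2 X) {g x : X} (hg : g ∉ S.Mid)
    (hx : x ∈ S.Mid) (hxP : x ∉ S.Phi) : closure ({g, x} : Set X) = ⊤ := by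
  refine PGroups.closure_eq_top_of_sup_frattini ?_
  obtain ⟨p, hp, r, hr, rfl⟩ := mem_sup_of_normal_right.1 hx
  obtain ⟨n, rfl⟩ := mem_zpowers_iff.1 hp
  have hn : Odd n := by
    refine Int.not_even_iff_odd.1 fun hn => hxP (mul_mem ?_ hr)
    obtain ⟨q, rfl⟩ := hn
    rw [← two_mul, zpow_mul, zpow_two, ← pow_two]
    exact S.commutator_le_Phi (zpow_mem S.b_sq_mem q)
  set U := closure ({g, S.b ^ n * r} : Set X) ⊔ frattini X with hU
  have hF : frattini X ≤ U := le_sup_right
  have hb : S.b ∈ U := by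
    have h1 : S.b ^ n * r ∈ U := mem_sup_left (subset_closure (by simp))
    exact zpowers_le.2 ((mul_mem_cancel_right (hF (S.Phi_le_frattini hX hr))).1 h1)
      (mem_zpowers_zpow_odd hX S.b hn)
  obtain ⟨i, j, hij⟩ := S.exists_form g
  have hi : Odd i := Int.not_even_iff_odd.1 fun hi => hg (S.mem_Mid hij hi)
  have ha : S.a ∈ U := by
    refine zpowers_le.2 ?_ (mem_zpowers_zpow_odd hX S.a hi)
    have h1 : g ∈ U := mem_sup_left (subset_closure (by simp))
    have h2 := mul_mem h1 (inv_mem (hF (PGroups.commutator_le_frattini hX hij)))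
    rw [mul_inv_rev, inv_inv, mul_inv_cancel_left] at h2
    exact (mul_mem_cancel_right (zpow_mem hb j)).1 h2
  exact eq_top_iff.2 (S.gen ▸ (closure_le _).2 (by rintro v (rfl | rfl) <;> assumption))

theorem eight_le_index (S : Data X) [Finite X] : 8 ≤ (commutator X).index := by
  let f : Fin 4 × Fin 2 → X ⧸ commutator X := fun p =>
    ((S.a ^ (p.1 : ℕ) * S.b ^ (p.2 : ℕ) : X) : X ⧸ commutator X)
  have hf : Function.Injective f := by
    rintro ⟨i, j⟩ ⟨i', j'⟩ h
    haveI : IsMulCommutative (X ⧸ commutator X) := Normal.quotient_commutative_iff_commutator_le.2 le_rfl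
    have hcomm : ∀ p q : X ⧸ commutator X, Commute p q := IsMulCommutative.is_comm.comm
    have h1 : S.a ^ ((i' : ℤ) - i) * S.b ^ ((j' : ℤ) - j) ∈ commutator X := by
      refine (QuotientGroup.eq_one_iff _).1 ?_
      simp only [f, QuotientGroup.mk_mul, QuotientGroup.mk_pow] at h
      simp only [zpow_sub, zpow_natCast, QuotientGroup.mk_mul, QuotientGroup.mk_inv, QuotientGroup.mk_pow]
      rw [mul_assoc, (hcomm (((S.a : X ⧸ commutator X) ^ (i : ℕ))⁻¹) _).eq, ← mul_assoc, ← mul_assoc,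
        ← h, mul_assoc, mul_assoc, ← mul_assoc ((S.b : X ⧸ commutator X) ^ (j : ℕ)), mul_inv_cancel,
        one_mul, mul_inv_cancel]
    obtain ⟨⟨q, hq⟩, ⟨r, hr⟩⟩ := S.parity _ _ h1
    have h4 : (4 : ℤ) ∣ (i' : ℤ) - i := by
      rw [hq]
      refine Dvd.dvd.mul_right ?_ q
      calc (4 : ℤ) = 2 ^ 2 := by norm_num
        _ ∣ 2 ^ S.m := pow_dvd_pow _ S.two_le
    have hi : i = i' := Fin.ext (by omega)
    have hj : j = j' := Fin.ext (by omega)
    rw [hi, hj]
  have h := Nat.card_le_card_of_injective f hf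
  rw [Nat.card_prod, Nat.card_fin, Nat.card_fin, ← Subgroup.index] at h
  exact h

/-- Centralizers of elements have order at least the index of the derived subgroup. -/
theorem index_le_centralizer [Finite X] (x : X) :
    (commutator X).index ≤ Nat.card (centralizer ({x} : Set X)) := by
  set C := centralizer ({x} : Set X)
  let f : X ⧸ C → commutator X := fun q =>
    Quotient.liftOn' q (fun g => ⟨⁅g, x⁆, commutator_mem_commutator (mem_top g) (mem_top x)⟩)
      fun g h hgh => by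
        rw [QuotientGroup.leftRel_apply, mem_centralizer_singleton_iff] at hgh
        refine Subtype.ext ?_
        show g * x * g⁻¹ * x⁻¹ = h * x * h⁻¹ * x⁻¹
        congr 1
        calc g * x * g⁻¹ = g * (x * (g⁻¹ * h)) * h⁻¹ := by group
          _ = g * (g⁻¹ * h * x) * h⁻¹ := by rw [hgh]
          _ = h * x * h⁻¹ := by group
  have hf : Function.Injective f := by
    intro p q h
    induction p using Quotient.inductionOn' with | h g =>
    induction q using Quotient.inductionOn' with | h k =>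
    refine Quotient.sound' ?_
    rw [QuotientGroup.leftRel_apply, mem_centralizer_singleton_iff]
    have h' : g * x * g⁻¹ * x⁻¹ = k * x * k⁻¹ * x⁻¹ := congrArg Subtype.val h
    have h2 : g * x * g⁻¹ = k * x * k⁻¹ := mul_right_cancel h'
    calc g⁻¹ * k * x = g⁻¹ * (k * x * k⁻¹) * k := by group
      _ = g⁻¹ * (g * x * g⁻¹) * k := by rw [h2]
      _ = x * (g⁻¹ * k) := by group
  have h1 := Nat.card_le_card_of_injective f hf
  rw [← Subgroup.index] at h1
  have h2 := C.card_mul_index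
  have h3 := (commutator X).card_mul_index
  have h4 : 0 < Nat.card (commutator X) := Nat.card_pos
  nlinarith

theorem isPGroup_mulAut (S : Data X) [Finite X] (hX : IsPGroup 2 X) : IsPGroup 2 (MulAut X) := by
  refine TwoGroups.OddAut.isPGroup_mulAut fun φ hφ => ?_
  have hD : ∀ (ψ : MulAut X) (d : X), d ∈ commutator X → ψ d ∈ commutator X := fun ψ d hd => by
    have h := mem_map_of_mem ψ.toMonoidHom hd
    rw [commutator_def, map_commutator, Subgroup.map_top_of_surjective _ ψ.surjective] at h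
    exact h
  have hPhi : ∀ (ψ : MulAut X) (g : X), g ∈ S.Phi → ψ g ∈ S.Phi := fun ψ g hg => by
    obtain ⟨k, d, hd, rfl⟩ := S.exists_Phi hg
    rw [map_mul, map_zpow, zpow_mul, zpow_two, ← pow_two]
    exact mul_mem (zpow_mem (S.sq_mem_Phi _) k) (S.commutator_le_Phi (hD ψ d hd))
  have hMid : ∀ (ψ : MulAut X) (g : X), g ∈ S.Mid → ψ g ∈ S.Mid := fun ψ g hg => by
    rw [mem_Mid_iff_pow, ← map_pow]
    exact hD ψ _ (S.mem_Mid_iff_pow.1 hg)
  have hnot : ∀ (ψ : MulAut X), ψ S.a ∉ S.Mid := fun ψ h => S.a_not_mem_Mid (by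
    simpa using hMid ψ⁻¹ _ h)
  have hb : ∀ ψ : MulAut X, ψ S.b * S.b⁻¹ ∈ S.Phi := fun ψ => by
    obtain ⟨p, hp, r, hr, hpr⟩ := mem_sup_of_normal_right.1
      (hMid ψ S.b (mem_sup_left (mem_zpowers _)))
    obtain ⟨n, rfl⟩ := mem_zpowers_iff.1 hp
    rcases Int.even_or_odd n with ⟨q, rfl⟩ | ⟨q, rfl⟩
    · exfalso
      refine S.b_not_mem_Phi ?_
      have h1 : ψ S.b ∈ S.Phi := by
        rw [← hpr, ← two_mul, zpow_mul, zpow_two, ← pow_two]
        exact mul_mem (S.commutator_le_Phi (zpow_mem S.b_sq_mem q)) hr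
      simpa using hPhi ψ⁻¹ _ h1
    · rw [← hpr, zpow_add, zpow_one, zpow_mul, zpow_two, ← pow_two,
        mul_assoc ((S.b ^ 2) ^ q), mul_assoc]
      exact mul_mem (S.commutator_le_Phi (zpow_mem S.b_sq_mem q))
        (S.Phi_normal.conj_mem r hr S.b)
  -- `φ ^ 2` is trivial modulo `Φ`
  have hsq : ∀ g : X, ((φ (φ g) : X) : X ⧸ S.Phi) = (g : X ⧸ S.Phi) := by
    have hbq : ((φ S.b : X) : X ⧸ S.Phi) = (S.b : X ⧸ S.Phi) := by
      symm
      refine QuotientGroup.eq.2 ?_
      have := S.Phi_normal.conj_mem _ (hb φ) S.b⁻¹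
      simpa [mul_assoc] using this
    obtain ⟨i, j, hij⟩ := S.exists_form (φ S.a)
    have hi : Odd i := Int.not_even_iff_odd.1 fun hi => hnot φ (S.mem_Mid hij hi)
    haveI : IsMulCommutative (X ⧸ S.Phi) :=
      Normal.quotient_commutative_iff_commutator_le.2 S.commutator_le_Phi
    have hq2 : ∀ q : X ⧸ S.Phi, q ^ (2 : ℤ) = 1 := fun q => by
      obtain ⟨g, rfl⟩ := QuotientGroup.mk_surjective q
      rw [← QuotientGroup.mk_zpow, QuotientGroup.eq_one_iff, show (2 : ℤ) = ((2 : ℕ) : ℤ) from rfl,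
        zpow_natCast]
      exact S.sq_mem_Phi g
    let π := QuotientGroup.mk' S.Phi
    have hlift : ∀ g h : X, π g = π h → π (φ g) = π (φ h) := fun g h e => by
      refine QuotientGroup.eq.2 ?_
      rw [← map_inv, ← map_mul]
      exact hPhi φ _ (QuotientGroup.eq.1 e)
    have haq : π (φ S.a) = π S.a * π S.b ^ j := by
      obtain ⟨k, rfl⟩ := hi
      show ((φ S.a : X) : X ⧸ S.Phi) = _
      rw [← QuotientGroup.eq.2 (S.commutator_le_Phi hij)]
      simp only [π, QuotientGroup.mk'_apply, QuotientGroup.mk_mul, QuotientGroup.mk_zpow, zpow_add,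
        zpow_one, zpow_mul, hq2, one_zpow, one_mul]
    have haq2 : π (φ (φ S.a)) = π S.a := by
      have h1 : π (φ (φ S.a)) = π (φ (S.a * S.b ^ j)) := hlift _ _ (by
        rw [haq, map_mul, map_zpow])
      rw [h1, map_mul, map_zpow, map_mul, map_zpow, haq,
        show π (φ S.b) = π S.b from hbq, mul_assoc, ← zpow_add, ← two_mul, zpow_mul, hq2,
        one_zpow, mul_one]
    have hbq2 : π (φ (φ S.b)) = π S.b := (hlift _ _ hbq).trans hbq
    intro g
    have heq : (π.comp (φ.toMonoidHom.comp φ.toMonoidHom)) = π := by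
      refine MonoidHom.eq_of_eqOn_dense S.gen ?_
      rintro v (rfl | rfl)
      · exact haq2
      · exact hbq2
    exact DFunLike.congr_fun heq g
  have hφq : ∀ g : X, ((φ g : X) : X ⧸ S.Phi) = (g : X ⧸ S.Phi) := by
    obtain ⟨k, hk⟩ := hφ
    have hk' : φ = (φ ^ 2) ^ (k + 1) := by
      rw [← pow_mul, show 2 * (k + 1) = 2 * k + 1 + 1 by ring, pow_succ, ← hk, pow_orderOf_eq_one,
        one_mul]
    have hpw : ∀ (n : ℕ) (g : X), ((((φ ^ 2) ^ n) g : X) : X ⧸ S.Phi) = (g : X ⧸ S.Phi) := by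
      intro n
      induction n with
      | zero => intro g; rfl
      | succ n ih => intro g; rw [pow_succ, MulAut.mul_apply, ih, pow_two, MulAut.mul_apply, hsq]
    intro g
    conv_lhs => rw [hk']
    exact hpw _ g
  refine Cfsg.Agent.Lib.LA5.HSub.Core.eq_one_of_mod φ hX (Nat.coprime_two_right.2 hφ)
    (N := S.Phi) (fun g => ?_) (Or.inr (S.Phi_le_frattini hX))
  rw [← QuotientGroup.eq_one_iff, QuotientGroup.mk_mul, QuotientGroup.mk_inv, hφq, mul_inv_cancel]

end Data

namespace NData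

variable (S : NData X)

theorem exists_z [Finite X] : ∃ z ∈ S.W, z ≠ 1 ∧ z ∈ center X := by
  classical
  letI : MulAction X S.W :=
    { smul := fun g w => ⟨g * w * g⁻¹, S.W_normal.conj_mem w w.2 g⟩
      one_smul := fun w => Subtype.ext (by show 1 * (w : X) * 1⁻¹ = w; simp)
      mul_smul := fun g h w => Subtype.ext (by
        show g * h * (w : X) * (g * h)⁻¹ = g * (h * w * h⁻¹) * g⁻¹; group) }
  have hcard : 2 ∣ Nat.card S.W := by rw [S.card_W]; norm_num
  have h1 : (1 : S.W) ∈ MulAction.fixedPoints X S.W := fun g =>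
    Subtype.ext (by show g * 1 * g⁻¹ = 1; simp)
  obtain ⟨w, hw, hne⟩ :=
    S.isTwo.exists_fixed_point_of_prime_dvd_card_of_fixed_point S.W hcard h1
  refine ⟨w, w.2, fun h => hne (Subtype.ext h.symm), mem_center_iff.2 fun g => ?_⟩
  exact mul_inv_eq_iff_eq_mul.1 (congrArg Subtype.val (hw g))

theorem W_cases [Finite X] {z : X} (hz : z ∈ S.W) (hz1 : z ≠ 1) (hzc : z ∈ center X) {w : X}
    (hw : w ∈ S.W) (g : X) : g * w * g⁻¹ = w ∨ g * w * g⁻¹ = w * z := by
  classical
  by_cases h1 : w = 1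
  · left; rw [h1]; group
  by_cases h2 : w = z
  · left; rw [h2, mem_center_iff.1 hzc g, mul_inv_cancel_right]
  have hwz : w * z ≠ 1 := fun h => h2 (by
    rw [eq_inv_of_mul_eq_one_left h, inv_eq_of_mul_eq_one_right (by rw [← pow_two, hz.2])])
  have hel : ∀ u : S.W, (u : X) = 1 ∨ (u : X) = z ∨ (u : X) = w ∨ (u : X) = w * z := by
    haveI : Fintype S.W := Fintype.ofFinite _
    have hcd : ({1, ⟨z, hz⟩, ⟨w, hw⟩, ⟨w * z, mul_mem hw hz⟩} : Finset S.W) = Finset.univ := by
      apply Finset.eq_univ_of_card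
      rw [← Nat.card_eq_fintype_card, S.card_W]
      have d1 : (⟨z, hz⟩ : S.W) ≠ ⟨w, hw⟩ := fun h => h2 (congrArg Subtype.val h).symm
      have d2 : (⟨z, hz⟩ : S.W) ≠ ⟨w * z, mul_mem hw hz⟩ := fun h => h1 (by
        simpa using congrArg Subtype.val h)
      have d3 : (⟨w, hw⟩ : S.W) ≠ ⟨w * z, mul_mem hw hz⟩ := fun h => hz1 (by
        simpa using congrArg Subtype.val h)
      have e1 : (1 : S.W) ≠ ⟨z, hz⟩ := fun h => hz1 (congrArg Subtype.val h).symm
      have e2 : (1 : S.W) ≠ ⟨w, hw⟩ := fun h => h1 (congrArg Subtype.val h).symm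
      have e3 : (1 : S.W) ≠ ⟨w * z, mul_mem hw hz⟩ := fun h => hwz (congrArg Subtype.val h).symm
      rw [Finset.card_insert_of_notMem (by simp [e1, e2, e3]),
        Finset.card_insert_of_notMem (by simp [d1, d2]), Finset.card_insert_of_notMem (by simp [d3]),
        Finset.card_singleton]
    intro u
    have hu := hcd.ge (Finset.mem_univ u)
    simp only [Finset.mem_insert, Finset.mem_singleton] at hu
    rcases hu with h | h | h | h <;> simp [h]
  rcases hel ⟨g * w * g⁻¹, S.W_normal.conj_mem w hw g⟩ with h | h | h | h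
  · exact absurd (conj_eq_one_iff.1 h) h1
  · refine absurd ?_ h2
    have h' : g * w * g⁻¹ = g * z * g⁻¹ := by
      rw [mem_center_iff.1 hzc g, mul_inv_cancel_right]; exact h
    exact mul_left_cancel (mul_right_cancel h')
  · exact Or.inl h
  · exact Or.inr h

theorem mul_mem_centralizer_W [Finite X] {g h : X} (hg : g ∉ centralizer (S.W : Set X))
    (hh : h ∉ centralizer (S.W : Set X)) : g * h ∈ centralizer (S.W : Set X) := by
  obtain ⟨z, hz, hz1, hzc⟩ := S.exists_z
  -- an element moving something moves everything outside `⟨z⟩`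
  have key : ∀ g : X, g ∉ centralizer (S.W : Set X) → ∀ w ∈ S.W, w ≠ 1 → w ≠ z →
      g * w * g⁻¹ = w * z := by
    intro g hg w hw hw1 hwz
    refine (S.W_cases hz hz1 hzc hw g).resolve_left fun hfix => hg ?_
    refine mem_centralizer_iff.2 fun v hv => ?_
    have hvz : v = 1 ∨ v = z ∨ v = w ∨ v = w * z := by
      by_contra! hne
      obtain ⟨n1, n2, n3, n4⟩ := hne
      classical
      haveI : Fintype S.W := Fintype.ofFinite _
      have hc := Finset.card_le_univ ({1, ⟨z, hz⟩, ⟨w, hw⟩, ⟨w * z, mul_mem hw hz⟩, ⟨v, hv⟩} :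
        Finset S.W)
      rw [← Nat.card_eq_fintype_card, S.card_W] at hc
      have a1 : w * z ≠ 1 := fun h => hwz (by
        rw [eq_inv_of_mul_eq_one_left h, inv_eq_of_mul_eq_one_right (by rw [← pow_two, hz.2])])
      rw [Finset.card_insert_of_notMem, Finset.card_insert_of_notMem, Finset.card_insert_of_notMem,
        Finset.card_insert_of_notMem, Finset.card_singleton] at hc
      · omega
      all_goals simp only [Finset.mem_insert, Finset.mem_singleton, Subtype.ext_iff, coe_one, not_or]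
      · exact Ne.symm n4
      · exact ⟨by simpa using hz1, Ne.symm n3⟩
      · exact ⟨Ne.symm hwz, by simpa using hw1, Ne.symm n2⟩
      · exact ⟨Ne.symm hz1, Ne.symm hw1, Ne.symm a1, Ne.symm n1⟩
    have hgz : g * z = z * g := mem_center_iff.1 hzc g
    have hgw : g * w = w * g := mul_inv_eq_iff_eq_mul.1 hfix
    rcases hvz with rfl | rfl | rfl | rfl
    · simp
    · exact hgz.symm
    · exact hgw.symm
    · exact ((show Commute g w from hgw).mul_right (show Commute g z from hgz)).eq.symm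
  refine mem_centralizer_iff.2 fun w hw => ?_
  by_cases hw1 : w = 1
  · simp [hw1]
  by_cases hwz : w = z
  · rw [hwz]; exact (mem_center_iff.1 hzc _).symm
  refine (mul_inv_eq_iff_eq_mul.1 ?_).symm
  calc g * h * w * (g * h)⁻¹ = g * (h * w * h⁻¹) * g⁻¹ := by group
    _ = g * w * g⁻¹ * (g * z * g⁻¹) := by rw [key h hh w hw hw1 hwz]; group
    _ = w := by
      rw [key g hg w hw hw1 hwz, mem_center_iff.1 hzc g, mul_inv_cancel_right, mul_assoc, ← pow_two,
        hz.2, mul_one]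

/-- Elements outside `Mid` do not commute with `c`. -/
theorem not_commute_c [Finite X] {g : X} (hg : g ∉ S.Mid) : g * S.c ≠ S.c * g := by
  intro h
  obtain ⟨i, j, hij⟩ := S.exists_form g
  have hi : Odd i := Int.not_even_iff_odd.1 fun hi => hg (S.mem_Mid hij hi)
  refine S.t_not_mem ((QuotientGroup.eq_one_iff _).1 ?_)
  set Q := X ⧸ dSq X
  obtain ⟨e, he, hτ⟩ := S.exists_τ
  have hτq : (S.τ : Q) = (S.t : Q) := by
    rw [hτ, QuotientGroup.mk_mul, (QuotientGroup.eq_one_iff (e ^ 2)).2 (sq_mem_dSq he), mul_one]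
  have hb : Commute (S.b : Q) (S.c : Q) :=
    commutatorElement_eq_one_iff_mul_comm.1 ((QuotientGroup.eq_one_iff ⁅S.b, S.c⁆).2 S.bc_mem)
  have hsw : (S.a : Q) * (S.c : Q) = (S.t : Q) * (S.c : Q) * (S.a : Q) := by
    rw [← hτq, ← QuotientGroup.mk_mul, ← QuotientGroup.mk_mul, ← QuotientGroup.mk_mul]
    congr 1
    rw [← S.conj_c, inv_mul_cancel_right]
  have hd : Commute ((((S.a ^ i * S.b ^ j)⁻¹ * g : X)) : Q) (S.c : Q) := by
    show ((((S.a ^ i * S.b ^ j)⁻¹ * g : X)) : Q) * (S.c : Q) = _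
    rw [← QuotientGroup.mk_mul, ← QuotientGroup.mk_mul, S.comm _ hij _ S.c_mem]
  have hgc : Commute (g : Q) (S.c : Q) := by
    show (g : Q) * (S.c : Q) = _
    rw [← QuotientGroup.mk_mul, ← QuotientGroup.mk_mul, h]
  have hai : Commute ((S.a : Q) ^ i) (S.c : Q) := by
    have h1 := (hgc.mul_left hd.inv_left).mul_left (hb.zpow_left j).inv_left
    have e1 : (g : Q) * ((((S.a ^ i * S.b ^ j)⁻¹ * g : X)) : Q)⁻¹ * ((S.b : Q) ^ j)⁻¹ = (S.a : Q) ^ i := by
      simp only [QuotientGroup.mk_mul, QuotientGroup.mk_inv, QuotientGroup.mk_zpow]; group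
    rwa [e1] at h1
  have h2 := zpow_mul_zpow_swap hsw (fun q => by
    obtain ⟨q, rfl⟩ := QuotientGroup.mk_surjective q
    exact S.dK_central S.pow_a q) i 1
  rw [zpow_one, mul_one, ← hai.eq] at h2
  have h3 : (S.t : Q) ^ i = 1 := mul_eq_right.1 h2.symm
  obtain ⟨k, rfl⟩ := hi
  rwa [zpow_add, zpow_one, zpow_mul, zpow_two, ← pow_two, sq_one le_rfl S.t_mem, one_zpow,
    one_mul] at h3

end NData

end Cfsg.Agent.Lib.Bicyclic
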