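import Mathlib
import Cfsg.Prelude.Def_OddOrderLocal
import Cfsg.Agent.Lib.PGroups.Frattini

/-!
Metacyclicity of a two-generated 2-group is read off modulo `⁅P', P⁆` and the squares of `P'`.
-/

set_option autoImplicit false
set_option linter.style.haveILetI false

namespace Cfsg.Agent.Lib.Bicyclic

open Subgroup
open scoped commutatorElement

variable {P : Type*} [Group P]

/-- The subgroup generated by the squares of the elements of the derived subgroup. -/
def dSq (P : Type*) [Group P] : Subgroup P :=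
  closure ((fun d : P => d ^ 2) '' (commutator P : Set P))

theorem sq_mem_dSq {d : P} (hd : d ∈ commutator P) : d ^ 2 ∈ dSq P :=
  subset_closure ⟨d, hd, rfl⟩

theorem dSq_le : dSq P ≤ commutator P := by
  refine (closure_le _).2 ?_
  rintro _ ⟨d, hd, rfl⟩
  exact pow_mem hd 2

instance dSq_normal : (dSq P).Normal := by
  refine ⟨fun n hn g => ?_⟩
  induction hn using closure_induction with
  | mem x hx =>
    obtain ⟨d, hd, rfl⟩ := hx
    have he : g * d ^ 2 * g⁻¹ = (g * d * g⁻¹) ^ 2 := conj_pow.symm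
    rw [he]
    exact sq_mem_dSq ((inferInstance : (commutator P).Normal).conj_mem d hd g)
  | one => simp
  | mul x y _ _ hx hy =>
    rw [show g * (x * y) * g⁻¹ = g * x * g⁻¹ * (g * y * g⁻¹) by group]
    exact mul_mem hx hy
  | inv x _ hx =>
    rw [show g * x⁻¹ * g⁻¹ = (g * x * g⁻¹)⁻¹ by group]
    exact inv_mem hx

/-- The subgroup `⁅P', P⁆` enlarged by the squares of `P'`. -/
def dK (P : Type*) [Group P] : Subgroup P := ⁅commutator P, (⊤ : Subgroup P)⁆ ⊔ dSq P

instance dK_normal : (dK P).Normal := by unfold dK; infer_instance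

theorem dK_le : dK P ≤ commutator P :=
  sup_le (commutator_le_left _ _) dSq_le

theorem sq_mem_dK {d : P} (hd : d ∈ commutator P) : d ^ 2 ∈ dK P :=
  mem_sup_right (sq_mem_dSq hd)

theorem comm_mem_dK {d : P} (hd : d ∈ commutator P) (g : P) : ⁅d, g⁆ ∈ dK P :=
  mem_sup_left (commutator_mem_commutator hd (mem_top g))

/-- A normal subgroup equal to its commutator with a nilpotent group is trivial. -/
theorem eq_bot_of_le_commutator {Q : Type*} [Group Q] [Group.IsNilpotent Q] {A : Subgroup Q}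
    (h : A ≤ ⁅A, (⊤ : Subgroup Q)⁆) : A = ⊥ := by
  obtain ⟨n, hn⟩ := Subgroup.nilpotent_iff_lowerCentralSeries.1 (inferInstance : Group.IsNilpotent Q)
  have hk : ∀ k, A ≤ Subgroup.lowerCentralSeries (⊤ : Subgroup Q) k := by
    intro k
    induction k with
    | zero => exact le_top
    | succ k ih => exact h.trans (commutator_mono ih le_rfl)
  exact eq_bot_iff.2 (hn ▸ hk n)

/-- The commutator formula in a group whose commutator `⁅x, y⁆` is central. -/
theorem zpow_mul_zpow_swap {Q : Type*} [Group Q] {x y d : Q} (hd : x * y = d * y * x)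
    (hc : ∀ g, Commute d g) (a b : ℤ) : x ^ a * y ^ b = d ^ (a * b) * (y ^ b * x ^ a) := by
  have h1 : x * y * x⁻¹ = d * y := by rw [hd, mul_inv_cancel_right]
  have h2 : x * y ^ b * x⁻¹ = d ^ b * y ^ b := by rw [← conj_zpow, h1, (hc y).mul_zpow]
  have h3 : y ^ (-b) * x * y ^ b = d ^ b * x := by
    have h4 : x * y ^ b = d ^ b * y ^ b * x := by rw [← h2, inv_mul_cancel_right]
    rw [mul_assoc, h4, ← mul_assoc, ← mul_assoc, ((hc _).zpow_left b).symm.eq, mul_assoc (d ^ b),
      ← zpow_add, neg_add_cancel, zpow_zero, mul_one]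
  have h5 : y ^ (-b) * x ^ a * y ^ b = d ^ (a * b) * x ^ a := by
    have h6 : y ^ (-b) * x ^ a * y ^ b = (y ^ (-b) * x * y ^ b) ^ a := by
      have := conj_zpow (a := y ^ (-b)) (b := x) (i := a)
      rw [zpow_neg, inv_inv] at this
      rw [zpow_neg]
      exact this.symm
    rw [h6, h3, ((hc x).zpow_left b).mul_zpow, ← zpow_mul, mul_comm b a]
  calc x ^ a * y ^ b = y ^ b * (y ^ (-b) * x ^ a * y ^ b) := by group
    _ = _ := by rw [h5, ← mul_assoc, ← ((hc (y ^ b)).zpow_left (a * b)).eq, mul_assoc]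

theorem mk_dK_central {d : P} (hd : d ∈ commutator P) (g : P ⧸ dK P) :
    Commute (d : P ⧸ dK P) g := by
  obtain ⟨g, rfl⟩ := QuotientGroup.mk_surjective g
  rw [Commute, SemiconjBy, ← commutatorElement_eq_one_iff_mul_comm]
  exact (QuotientGroup.eq_one_iff _).2 (comm_mem_dK hd g)

theorem mk_dK_sq {d : P} (hd : d ∈ commutator P) : (d : P ⧸ dK P) ^ 2 = 1 :=
  (QuotientGroup.eq_one_iff (d ^ 2)).2 (sq_mem_dK hd)

theorem isPGroup_mk [Finite P] (hP : IsPGroup 2 P) (N : Subgroup P) [N.Normal] : IsPGroup 2 (P ⧸ N) :=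
  hP.to_quotient N

/-- The derived subgroup of a group generated by `x`, `y` lies in every normal subgroup containing
`⁅x, y⁆`. -/
theorem commutator_le_of_gens {x y : P} (hxy : closure {x, y} = ⊤) (N : Subgroup P) [N.Normal]
    (h : ⁅x, y⁆ ∈ N) : commutator P ≤ N := by
  refine Normal.quotient_commutative_iff_commutator_le.1 ?_
  have hc : Commute (x : P ⧸ N) (y : P ⧸ N) := by
    rw [Commute, SemiconjBy, ← commutatorElement_eq_one_iff_mul_comm]
    exact (QuotientGroup.eq_one_iff _).2 h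
  have htop : closure {(x : P ⧸ N), (y : P ⧸ N)} = ⊤ := by
    have := congrArg (Subgroup.map (QuotientGroup.mk' N)) hxy
    rw [MonoidHom.map_closure, Set.image_pair,
      Subgroup.map_top_of_surjective _ (QuotientGroup.mk'_surjective _)] at this
    exact this
  refine ⟨⟨fun p q => ?_⟩⟩
  have hall : ∀ g : P ⧸ N, g ∈ centralizer ((⊤ : Subgroup (P ⧸ N)) : Set (P ⧸ N)) := by
    intro g
    have hg : g ∈ closure {(x : P ⧸ N), (y : P ⧸ N)} := htop ▸ mem_top g
    rw [← htop, centralizer_closure]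
    refine (closure_le _).2 ?_ hg
    intro v hv
    rw [SetLike.mem_coe, mem_centralizer_iff]
    intro w hw
    simp only [Set.mem_insert_iff, Set.mem_singleton_iff] at hv hw
    rcases hv with rfl | rfl <;> rcases hw with rfl | rfl
    · rfl
    · exact hc.eq.symm
    · exact hc.eq
    · rfl
  exact (mem_centralizer_iff.1 (hall p) q (mem_top q)).symm

/-- If an even power of a generator is the commutator of the generators modulo `dK`, the group is
metacyclic. -/
theorem isMetacyclic_of_power [Finite P] (hP : IsPGroup 2 P) {x y z w : P}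
    (hxy : closure {x, y} = ⊤) (hzw : closure {z, w} = ⊤) (n : ℤ)
    (hd : ((⁅x, y⁆ : P) : P ⧸ dK P) = (z : P ⧸ dK P) ^ (2 * n)) : Cfsg.IsMetacyclic P := by
  classical
  haveI : Group.IsNilpotent P := hP.isNilpotent
  set D := commutator P with hD
  set u := z ^ (2 * n) with hu
  have huD : u ∈ D := by
    have h : (⁅x, y⁆⁻¹ * u : P) ∈ dK P := QuotientGroup.eq.1 (by rw [hd, QuotientGroup.mk_zpow])
    have h2 : ⁅x, y⁆ ∈ D := commutator_mem_commutator (mem_top x) (mem_top y)
    simpa only [mul_inv_cancel_left] using mul_mem h2 (dK_le h)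
  -- `D` is generated by `u` modulo `dK`
  have hgenD : D ≤ zpowers u ⊔ dK P := by
    haveI : (zpowers u ⊔ dK P).Normal := by
      refine ⟨fun m hm g => ?_⟩
      have hmD : m ∈ D := sup_le (zpowers_le.2 huD) dK_le hm
      rw [show g * m * g⁻¹ = ⁅m, g⁆⁻¹ * m by group]
      exact mul_mem (inv_mem (mem_sup_right (comm_mem_dK hmD g))) hm
    refine commutator_le_of_gens hxy _ ?_
    have h : (⁅x, y⁆⁻¹ * u : P) ∈ dK P := QuotientGroup.eq.1 (by rw [hd, QuotientGroup.mk_zpow])
    have h2 := mul_mem (mem_sup_left (mem_zpowers u)) (mem_sup_right (inv_mem h) :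
      (⁅x, y⁆⁻¹ * u)⁻¹ ∈ zpowers u ⊔ dK P)
    rwa [mul_inv_rev, inv_inv, mul_inv_cancel_left] at h2
  -- modulo `J = ⁅⁅D, P⁆, P⁆ dSq` the element `u` is central
  set A := ⁅D, (⊤ : Subgroup P)⁆ with hA
  set J := ⁅A, (⊤ : Subgroup P)⁆ ⊔ dSq P with hJ
  have hAD : A ≤ D := commutator_le_left _ _
  have hcen : ∀ g : P, ∀ q : A, Commute ((q : P) : P ⧸ J) (g : P ⧸ J) := by
    intro g q
    rw [Commute, SemiconjBy, ← commutatorElement_eq_one_iff_mul_comm]
    exact (QuotientGroup.eq_one_iff _).2 (mem_sup_left (commutator_mem_commutator q.2 (mem_top g)))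
  have hsq : ∀ d ∈ D, (d : P ⧸ J) ^ 2 = 1 := fun d hd =>
    (QuotientGroup.eq_one_iff (d ^ 2)).2 (mem_sup_right (sq_mem_dSq hd))
  have huz : Commute (u : P ⧸ J) (z : P ⧸ J) := by
    rw [hu, QuotientGroup.mk_zpow]
    exact (Commute.refl _).zpow_left _
  have hucen : ∀ g : P, Commute (u : P ⧸ J) (g : P ⧸ J) := by
    have hv : ∀ g : P, Commute (u : P ⧸ J) (g : P ⧸ J) ↔ ((⁅u, g⁆ : P) : P ⧸ J) = 1 := fun g => by
      rw [Commute, SemiconjBy, ← commutatorElement_eq_one_iff_mul_comm]; rfl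
    intro g
    -- the conjugate of `z` is a translate by an element commuting with `z`
    set v := ⁅g, z⁆ with hvdef
    have hvD : v ∈ D := commutator_mem_commutator (mem_top g) (mem_top z)
    obtain ⟨p, hp, q, hq, hpq⟩ := mem_sup_of_normal_right.1 (hgenD hvD)
    have hqJ : Commute (q : P ⧸ J) (z : P ⧸ J) := by
      have hq' : q ∈ A ⊔ dSq P := hq
      obtain ⟨q1, hq1, q2, hq2, rfl⟩ := mem_sup_of_normal_right.1 hq'
      rw [QuotientGroup.mk_mul, (QuotientGroup.eq_one_iff q2).2 (mem_sup_right hq2), mul_one]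
      exact hcen z ⟨q1, hq1⟩
    have hvz : Commute (v : P ⧸ J) (z : P ⧸ J) := by
      obtain ⟨k, rfl⟩ := mem_zpowers_iff.1 hp
      rw [← hpq, QuotientGroup.mk_mul, QuotientGroup.mk_zpow]
      exact (huz.zpow_left k).mul_left hqJ
    have hconj : (g : P ⧸ J) * (z : P ⧸ J) * (g : P ⧸ J)⁻¹ = (v : P ⧸ J) * (z : P ⧸ J) := by
      rw [← QuotientGroup.mk_inv, ← QuotientGroup.mk_mul, ← QuotientGroup.mk_mul,
        ← QuotientGroup.mk_mul]
      congr 1
      rw [hvdef]; group
    have h1 : (g : P ⧸ J) * (u : P ⧸ J) * (g : P ⧸ J)⁻¹ = (u : P ⧸ J) := by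
      rw [hu, QuotientGroup.mk_zpow, ← conj_zpow, hconj, hvz.mul_zpow, zpow_mul (v : P ⧸ J),
        zpow_two, ← pow_two, hsq v hvD, one_zpow, one_mul]
    exact (mul_inv_eq_iff_eq_mul.1 h1).symm
  have hAJ : A ≤ J := by
    refine commutator_le.2 fun d hd g _ => ?_
    obtain ⟨p, hp, q, hq, rfl⟩ := mem_sup_of_normal_right.1 (hgenD hd)
    obtain ⟨k, rfl⟩ := mem_zpowers_iff.1 hp
    have hq' : q ∈ A ⊔ dSq P := hq
    obtain ⟨q1, hq1, q2, hq2, rfl⟩ := mem_sup_of_normal_right.1 hq'
    refine (QuotientGroup.eq_one_iff _).1 ?_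
    have hc : Commute ((u ^ k * (q1 * q2) : P) : P ⧸ J) (g : P ⧸ J) := by
      rw [QuotientGroup.mk_mul, QuotientGroup.mk_mul, QuotientGroup.mk_zpow,
        (QuotientGroup.eq_one_iff q2).2 (mem_sup_right hq2), mul_one]
      exact ((hucen g).zpow_left k).mul_left (hcen g ⟨q1, hq1⟩)
    rw [Commute, SemiconjBy, ← commutatorElement_eq_one_iff_mul_comm] at hc
    exact hc
  -- hence `⁅D, P⁆ ≤ dSq`
  have hAS : A ≤ dSq P := by
    let π := QuotientGroup.mk' (dSq P)
    haveI : Group.IsNilpotent (P ⧸ dSq P) := (hP.to_quotient (dSq P)).isNilpotent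
    have h : A.map π ≤ ⁅A.map π, (⊤ : Subgroup (P ⧸ dSq P))⁆ := by
      rw [← Subgroup.map_top_of_surjective π (QuotientGroup.mk'_surjective _), ← map_commutator]
      refine (map_mono hAJ).trans ?_
      rw [hJ, Subgroup.map_sup]
      refine sup_le le_rfl ?_
      rintro _ ⟨s, hs, rfl⟩
      rw [show π s = 1 from (QuotientGroup.eq_one_iff s).2 hs]
      exact one_mem _
    have h0 := eq_bot_of_le_commutator h
    intro a ha
    have : π a ∈ A.map π := mem_map_of_mem π ha
    rw [h0, mem_bot] at this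
    exact (QuotientGroup.eq_one_iff a).1 this
  have hDu : D ≤ zpowers u := by
    have h1 : D ≤ zpowers u ⊔ dSq P := hgenD.trans (sup_le le_sup_left (sup_le (hAS.trans le_sup_right) le_sup_right))
    set U : Subgroup D := (zpowers u).subgroupOf D with hU
    have hfr : U ⊔ frattini D = ⊤ := by
      refine eq_top_iff.2 fun d _ => ?_
      obtain ⟨p, hp, q, hq, hpq⟩ := mem_sup_of_normal_right.1 (h1 d.2)
      have hle : dSq P ≤ (frattini D).map D.subtype := by
        refine (closure_le _).2 ?_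
        rintro _ ⟨e, he, rfl⟩
        exact ⟨⟨e, he⟩ ^ 2, PGroups.pow_mem_frattini (hP.to_subgroup D) _, rfl⟩
      obtain ⟨q', hq', rfl⟩ := hle hq
      have : d = ⟨p, zpowers_le.2 huD hp⟩ * q' := Subtype.ext hpq.symm
      rw [this]
      exact mul_mem (mem_sup_left (mem_subgroupOf.2 hp)) (mem_sup_right hq')
    have : U = ⊤ := frattini_nongenerating hfr
    intro d hd
    have h2 : (⟨d, hd⟩ : D) ∈ U := this ▸ mem_top _
    exact mem_subgroupOf.1 h2
  have hDz : D ≤ zpowers z := hDu.trans (zpowers_le.2 (zpow_mem (mem_zpowers z) _))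
  haveI hn : (zpowers z).Normal := ⟨fun m hm g => by
    rw [show g * m * g⁻¹ = ⁅g, m⁆ * m by group]
    exact mul_mem (hDz (commutator_mem_commutator (mem_top g) (mem_top m))) hm⟩
  refine ⟨zpowers z, hn, inferInstance, ⟨⟨(w : P ⧸ zpowers z), fun q => ?_⟩⟩⟩
  have htop : closure {(w : P ⧸ zpowers z)} = ⊤ := by
    have := congrArg (Subgroup.map (QuotientGroup.mk' (zpowers z))) hzw
    rw [MonoidHom.map_closure, Set.image_pair,
      Subgroup.map_top_of_surjective _ (QuotientGroup.mk'_surjective _)] at this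
    refine eq_top_iff.2 (this ▸ ?_)
    refine (closure_le _).2 ?_
    intro v hv
    simp only [Set.mem_insert_iff, Set.mem_singleton_iff] at hv
    rcases hv with rfl | rfl
    · rw [show (QuotientGroup.mk' (zpowers z)) z = 1 from (QuotientGroup.eq_one_iff z).2 (mem_zpowers z)]
      exact one_mem _
    · exact subset_closure rfl
  rw [← zpowers_eq_closure] at htop
  have hq : q ∈ zpowers ((w : P) : P ⧸ zpowers z) := by rw [htop]; exact mem_top q
  exact hq

/-- An odd power of an element of a 2-group generates the same cyclic subgroup. -/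
theorem mem_zpowers_zpow_odd [Finite P] (hP : IsPGroup 2 P) (x : P) {j : ℤ} (hj : Odd j) :
    x ∈ zpowers (x ^ j) := by
  obtain ⟨k, hk⟩ := hP x
  obtain ⟨r, rfl⟩ := hj
  have hcop : IsCoprime (2 * r + 1 : ℤ) ((2 : ℤ) ^ k) :=
    IsCoprime.pow_right ⟨1, -r, by ring⟩
  obtain ⟨a, b, hab⟩ := hcop
  refine ⟨a, ?_⟩
  show (x ^ (2 * r + 1)) ^ a = x
  rw [← zpow_mul]
  calc x ^ ((2 * r + 1) * a) = x ^ (1 - b * 2 ^ k) := by
        congr 1; linear_combination hab
    _ = x := by
      rw [zpow_sub, zpow_one, mul_comm b, zpow_mul, show ((2 : ℤ) ^ k) = ((2 ^ k : ℕ) : ℤ) by simp,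
        zpow_natCast, hk, one_zpow, inv_one, mul_one]

/-- A two-generated 2-group is metacyclic if the commutator of the generators is modulo `dK` a product
of even powers of them, one of which is divisible by four. -/
theorem isMetacyclic_of_even [Finite P] (hP : IsPGroup 2 P) {x y : P} (hxy : closure {x, y} = ⊤)
    (i j : ℤ) (hd : ((⁅x, y⁆ : P) : P ⧸ dK P) = (x : P ⧸ dK P) ^ (2 * i) * (y : P ⧸ dK P) ^ (2 * j))
    (hij : Even i ∨ Even j) : Cfsg.IsMetacyclic P := by
  by_cases h0 : i = 0 ∧ j = 0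
  · refine isMetacyclic_of_power hP hxy hxy 0 ?_
    rw [hd, h0.1, h0.2]; simp
  obtain ⟨g, i', j', hg, hi, hj⟩ : ∃ g i' j' : ℤ, IsCoprime i' j' ∧ i = g * i' ∧ j = g * j' := by
    obtain ⟨i', j', hi, hj, hg⟩ := extract_gcd i j
    exact ⟨gcd i j, i', j', (gcd_isUnit_iff i' j').1 hg, hi, hj⟩
  set d : P ⧸ dK P := ((⁅x, y⁆ : P) : P ⧸ dK P) with hdd
  have hDm : ⁅x, y⁆ ∈ commutator P := commutator_mem_commutator (mem_top x) (mem_top y)
  have hc : ∀ q, Commute d q := mk_dK_central hDm
  have hd2 : d ^ 2 = 1 := mk_dK_sq hDm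
  have heven : ∀ {a : ℤ}, Even a → d ^ a = 1 := by
    rintro a ⟨b, rfl⟩
    rw [← two_mul, zpow_mul, zpow_two, ← pow_two, hd2, one_zpow]
  have hswap : (x : P ⧸ dK P) * (y : P ⧸ dK P) = d * (y : P ⧸ dK P) * (x : P ⧸ dK P) := by
    rw [hdd, ← QuotientGroup.mk_mul, ← QuotientGroup.mk_mul, ← QuotientGroup.mk_mul]
    congr 1; group
  set z := x ^ i' * y ^ j' with hz
  set X := (x : P ⧸ dK P); set Y := (y : P ⧸ dK P)
  have hsq : (z : P ⧸ dK P) ^ (2 : ℤ) = X ^ (2 * i') * Y ^ (2 * j') * d ^ (i' * j') := by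
    have h1 := zpow_mul_zpow_swap hswap hc i' j'
    have h2 : Y ^ j' * X ^ i' = d ^ (i' * j') * (X ^ i' * Y ^ j') := by
      rw [h1, ← mul_assoc, ← zpow_add, heven ⟨i' * j', rfl⟩, one_mul]
    calc (z : P ⧸ dK P) ^ (2 : ℤ) = X ^ i' * (Y ^ j' * X ^ i') * Y ^ j' := by
          rw [hz, zpow_two, QuotientGroup.mk_mul, QuotientGroup.mk_zpow, QuotientGroup.mk_zpow]
          group
          rfl
      _ = _ := by
          rw [h2, two_mul, two_mul, zpow_add, zpow_add]
          have := ((hc (X ^ i')).zpow_left (i' * j')).eq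
          rw [← mul_assoc (X ^ i'), ← this]
          have h3 : ∀ q, d ^ (i' * j') * q = q * d ^ (i' * j') := fun q => ((hc q).zpow_left _).eq
          simp only [mul_assoc, h3]
  have hXY : Commute (X ^ (2 * i')) (Y ^ (2 * j')) := by
    have h := zpow_mul_zpow_swap hswap hc (2 * i') (2 * j')
    rwa [heven ⟨2 * (i' * j'), by ring⟩, one_mul] at h
  have hpow : (z : P ⧸ dK P) ^ (2 * g) = d := by
    rw [zpow_mul, hsq, (((hc _).zpow_left _).symm).mul_zpow, hXY.mul_zpow, ← zpow_mul, ← zpow_mul,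
      ← zpow_mul, heven (a := i' * j' * g) ?_, mul_one, hd]
    · congr 2 <;> subst hi hj <;> ring
    · rcases hij with h | h
      · rw [show i' * j' * g = i * j' by subst hi; ring]; exact h.mul_right _
      · rw [show i' * j' * g = i' * j by subst hj; ring]; exact h.mul_left _
  have hodd : Odd i' ∨ Odd j' := by
    by_contra h
    simp only [not_or, Int.not_odd_iff_even] at h
    obtain ⟨⟨a, rfl⟩, b, rfl⟩ := h
    obtain ⟨u, v, huv⟩ := hg
    have h2 : (2 : ℤ) ∣ 1 := ⟨u * a + v * b, by linear_combination -huv⟩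
    omega
  rcases hodd with ho | ho
  · refine isMetacyclic_of_power hP hxy (z := z) (w := y) ?_ g hpow.symm
    refine eq_top_iff.2 (hxy ▸ (closure_le _).2 ?_)
    intro v hv
    simp only [Set.mem_insert_iff, Set.mem_singleton_iff] at hv
    rw [SetLike.mem_coe]
    have hy : y ∈ closure {z, y} := subset_closure (Or.inr rfl)
    rcases hv with hv | hv <;> rw [hv]
    · have hxi : x ^ i' ∈ closure {z, y} := by
        have := mul_mem (subset_closure (Or.inl rfl) : z ∈ closure {z, y}) (inv_mem (zpow_mem hy j'))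
        simpa [hz] using this
      exact zpowers_le.2 hxi (mem_zpowers_zpow_odd hP x ho)
    · exact hy
  · refine isMetacyclic_of_power hP hxy (z := z) (w := x) ?_ g hpow.symm
    refine eq_top_iff.2 (hxy ▸ (closure_le _).2 ?_)
    intro v hv
    simp only [Set.mem_insert_iff, Set.mem_singleton_iff] at hv
    rw [SetLike.mem_coe]
    have hx : x ∈ closure {z, x} := subset_closure (Or.inr rfl)
    rcases hv with hv | hv <;> rw [hv]
    · exact hx
    · have hyj : y ^ j' ∈ closure {z, x} := by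
        have := mul_mem (inv_mem (zpow_mem hx i')) (subset_closure (Or.inl rfl) : z ∈ closure {z, x})
        simpa [hz] using this
      exact zpowers_le.2 hyj (mem_zpowers_zpow_odd hP y ho)

end Cfsg.Agent.Lib.Bicyclic
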