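import Mathlib

/-!
Powers of five modulo powers of two.
-/

set_option autoImplicit false
set_option linter.style.haveILetI false

namespace Cfsg.Agent.Lib.Bicyclic

theorem five_pow_two_pow (r : ℕ) : ∃ u : ℕ, 5 ^ 2 ^ r = 1 + 2 ^ (r + 2) * (2 * u + 1) := by
  induction r with
  | zero => exact ⟨0, by norm_num⟩
  | succ r ih =>
    obtain ⟨u, hu⟩ := ih
    refine ⟨u + 2 ^ r * (2 * u + 1) ^ 2, ?_⟩
    rw [pow_succ 2 r, pow_mul, hu]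
    ring

theorem exists_five_pow {j : ℕ} (hj : j % 4 = 1) {K : ℕ} (hK : 2 ≤ K) :
    ∃ e : ℕ, 5 ^ e ≡ j [MOD 2 ^ K] := by
  induction K, hK using Nat.le_induction with
  | base => exact ⟨0, by rw [Nat.ModEq]; norm_num; omega⟩
  | succ K hK ih =>
    obtain ⟨e, he⟩ := ih
    rw [Nat.modEq_iff_dvd] at he
    obtain ⟨w, hw⟩ := he
    push_cast at hw
    rcases Int.even_or_odd w with ⟨v, rfl⟩ | ⟨v, rfl⟩
    · refine ⟨e, Nat.modEq_iff_dvd.2 ⟨v, ?_⟩⟩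
      push_cast
      rw [hw, pow_succ]; ring
    · obtain ⟨u, hu⟩ := five_pow_two_pow (K - 2)
      rw [Nat.sub_add_cancel hK] at hu
      refine ⟨e + 2 ^ (K - 2), Nat.modEq_iff_dvd.2 ?_⟩
      obtain ⟨g, hg⟩ : ∃ g : ℤ, (5 : ℤ) ^ e = 2 * g + 1 := by
        obtain ⟨g, hg⟩ := (show Odd (5 : ℤ) from ⟨2, by norm_num⟩).pow (n := e)
        exact ⟨g, hg⟩
      refine ⟨v - g * (2 * u + 1) - u, ?_⟩
      have hu' : (5 : ℤ) ^ 2 ^ (K - 2) = 1 + 2 ^ K * (2 * u + 1) := by exact_mod_cast hu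
      push_cast
      rw [pow_add, hu', pow_succ]
      linear_combination hw - 2 ^ K * (2 * (u : ℤ) + 1) * hg

theorem two_pow_dvd_of_five_pow {n K : ℕ} (hK : 2 ≤ K) (h : 5 ^ n ≡ 1 [MOD 2 ^ K]) :
    2 ^ (K - 2) ∣ n := by
  rcases Nat.lt_or_ge K 3 with hK' | hK'
  · rw [show K - 2 = 0 by omega, pow_zero]; exact one_dvd n
  obtain ⟨p, rfl⟩ : ∃ p, K = p + 3 := ⟨K - 3, by omega⟩
  rw [show p + 3 - 2 = p + 1 by omega]
  have hone : ∀ r u : ℕ, 5 ^ 2 ^ r = 1 + 2 ^ (r + 2) * (2 * u + 1) →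
      ((5 : ZMod (2 ^ (p + 3))) ^ 2 ^ r = 1 ↔ p + 1 ≤ r) := by
    intro r u hu
    rw [show (5 : ZMod (2 ^ (p + 3))) ^ 2 ^ r = ((5 ^ 2 ^ r : ℕ) : ZMod _) by push_cast; rfl, hu,
      Nat.cast_add, Nat.cast_one, add_eq_left, ZMod.natCast_eq_zero_iff]
    constructor
    · intro hd
      have hc : Nat.Coprime (2 ^ (p + 3)) (2 * u + 1) :=
        Nat.Coprime.pow_left _ (Nat.coprime_two_left.2 ⟨u, rfl⟩)
      have := (Nat.pow_dvd_pow_iff_le_right (show 1 < 2 by norm_num)).1 (hc.dvd_of_dvd_mul_right hd)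
      omega
    · intro hr
      exact dvd_mul_of_dvd_left (pow_dvd_pow 2 (by omega)) _
  haveI : Fact (Nat.Prime 2) := ⟨Nat.prime_two⟩
  obtain ⟨u, hu⟩ := five_pow_two_pow p
  obtain ⟨v, hv⟩ := five_pow_two_pow (p + 1)
  have ho : orderOf (5 : ZMod (2 ^ (p + 3))) = 2 ^ (p + 1) :=
    orderOf_eq_prime_pow (fun hh => by have := (hone p u hu).1 hh; omega) ((hone (p + 1) v hv).2 le_rfl)
  rw [← ho]
  refine orderOf_dvd_of_pow_eq_one ?_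
  have := (ZMod.natCast_eq_natCast_iff _ _ _).2 h
  push_cast at this
  exact this

theorem five_pow_parts {K : ℕ} (hK : 2 ≤ K) :
    (∃ t, Odd t ∧ 5 ^ 2 ^ (K - 2) - 1 = 2 ^ K * t) ∧ ∃ t, Odd t ∧ 5 ^ 2 ^ (K - 2) + 1 = 2 * t := by
  obtain ⟨u, hu⟩ := five_pow_two_pow (K - 2)
  rw [Nat.sub_add_cancel hK] at hu
  rw [hu]
  refine ⟨⟨2 * u + 1, ⟨u, rfl⟩, by omega⟩, 1 + 2 ^ (K - 1) * (2 * u + 1), ?_, ?_⟩
  · refine odd_one.add_even ((Nat.even_pow.2 ⟨even_two, by omega⟩).mul_right _)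
  · rw [← Nat.sub_add_cancel (show 1 ≤ K by omega), pow_succ', Nat.add_sub_cancel]; ring

end Cfsg.Agent.Lib.Bicyclic
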