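import Cfsg.Agent.Lib.Bicyclic.Structure

/-!
Normal form of bicyclic nonmetacyclic 2-groups with cyclic derived subgroup.
-/

set_option autoImplicit false
set_option linter.style.haveILetI false

namespace Cfsg.Agent.Lib.Bicyclic

open Subgroup
open scoped commutatorElement

/-- The relations of the normal form. -/
structure CRel {G : Type*} [Group G] (m k K l j : ℕ) (a b c : G) : Prop where
  hab : a * b * a⁻¹ = c * b
  hac : a * c * a⁻¹ = c ^ j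
  hbc : b * c * b⁻¹ = c⁻¹
  hsq : b ^ 2 = c ^ 2 ^ (K - 1)
  hpow : a ^ 2 ^ m = c ^ (2 * l)
  ord : orderOf c = 2 ^ k
  parity : ∀ i e : ℤ, a ^ i * b ^ e ∈ zpowers c → (2 ^ m : ℤ) ∣ i ∧ (2 : ℤ) ∣ e

/-- The conditions on the parameters. -/
structure CPar (m k K l j : ℕ) : Prop where
  m2 : 2 ≤ m
  k1 : 1 ≤ k
  K2 : 2 ≤ K
  hK : K = k ∨ K = k + 1
  hj : j % 4 = 1
  hS : (∑ i ∈ Finset.range (2 ^ m), j ^ i) ≡ 4 * l [MOD 2 ^ K]
  hl : 2 * l * j ≡ 2 * l [MOD 2 ^ k]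

variable {X : Type*} [Group X]

theorem conj_pow_iter {a c : X} {j : ℕ} (h : a * c * a⁻¹ = c ^ j) (n : ℕ) :
    a ^ n * c * (a ^ n)⁻¹ = c ^ j ^ n := by
  induction n with
  | zero => simp
  | succ n ih =>
    calc a ^ (n + 1) * c * (a ^ (n + 1))⁻¹ = a * (a ^ n * c * (a ^ n)⁻¹) * a⁻¹ := by
          rw [pow_succ']; group
      _ = _ := by rw [ih, ← conj_pow, h, ← pow_mul, pow_succ']

theorem conj_geom {a b c : X} {j : ℕ} (h : a * b * a⁻¹ = c * b) (hc : a * c * a⁻¹ = c ^ j) (n : ℕ) :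
    a ^ n * b * (a ^ n)⁻¹ = c ^ (∑ i ∈ Finset.range n, j ^ i) * b := by
  induction n with
  | zero => simp
  | succ n ih =>
    calc a ^ (n + 1) * b * (a ^ (n + 1))⁻¹ = a * (a ^ n * b * (a ^ n)⁻¹) * a⁻¹ := by
          rw [pow_succ']; group
      _ = _ := by
          rw [ih, geom_sum_succ, pow_succ, pow_mul, ← hc, conj_pow]
          calc a * (c ^ (∑ i ∈ Finset.range n, j ^ i) * b) * a⁻¹
              = a * c ^ (∑ i ∈ Finset.range n, j ^ i) * a⁻¹ * (a * b * a⁻¹) := by group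
            _ = _ := by rw [h]; group

theorem zpow_eq_zpow_iff_dvd {c : X} {k : ℕ} (hc : orderOf c = 2 ^ k) (x y : ℤ) :
    c ^ x = c ^ y ↔ (2 ^ k : ℤ) ∣ x - y := by
  rw [← orderOf_dvd_sub_iff_zpow_eq_zpow, hc]
  push_cast
  exact Iff.rfl

/-- The derived subgroup is generated by `c`, and `dK` consists of squares. -/
theorem cyclic_derived (hX : IsPGroup 2 X) [Finite X] (hc : IsCyclic (commutator X)) {c : X}
    (hcD : c ∈ commutator X) (hcK : c ∉ dK X) :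
    commutator X = zpowers c ∧ ∀ v ∈ dK X, ∃ e : ℤ, c ^ (2 * e) = v := by
  obtain ⟨γ, hγ⟩ := (Subgroup.isCyclic_iff_exists_zpowers_eq_top _).1 hc
  have hodd : ∀ g : X, ∃ y : ℤ, g * γ * g⁻¹ = γ ^ y ∧ Odd y := by
    intro g
    have hmem : g * γ * g⁻¹ ∈ zpowers γ :=
      hγ ▸ (inferInstance : (commutator X).Normal).conj_mem γ (hγ ▸ mem_zpowers γ) g
    obtain ⟨y, hy⟩ := mem_zpowers_iff.1 hmem
    refine ⟨y, hy.symm, Int.not_even_iff_odd.1 ?_⟩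
    rintro ⟨w, rfl⟩
    obtain ⟨n, hn⟩ := IsPGroup.iff_orderOf.1 hX γ
    rcases Nat.eq_zero_or_pos n with h0 | h0
    · rw [h0, pow_zero, orderOf_eq_one_iff] at hn
      refine hcK ?_
      have : c ∈ zpowers γ := hγ ▸ hcD
      rw [hn, zpowers_one_eq_bot, mem_bot] at this
      rw [this]; exact one_mem _
    · have h1 : orderOf (g * γ * g⁻¹) = orderOf γ :=
        orderOf_injective (MulAut.conj g).toMonoidHom (MulEquiv.injective _) γ
      have h2 : (g * γ * g⁻¹) ^ 2 ^ (n - 1) = 1 := by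
        rw [← hy, ← zpow_natCast (γ ^ (w + w)), ← zpow_mul, ← orderOf_dvd_iff_zpow_eq_one, hn]
        obtain ⟨p, rfl⟩ := Nat.exists_eq_add_of_le' h0
        rw [Nat.add_sub_cancel]
        push_cast
        exact ⟨w, by ring⟩
      have h3 := Nat.le_of_dvd (pow_pos (by norm_num) _) (orderOf_dvd_of_pow_eq_one h2)
      rw [h1, hn] at h3
      exact absurd h3 (not_le.2 (Nat.pow_lt_pow_right (by norm_num) (by omega)))
  have hK : dK X ≤ zpowers (γ ^ (2 : ℤ)) := by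
    refine sup_le (commutator_le.2 fun d hd g _ => ?_) ((closure_le _).2 ?_)
    · obtain ⟨x, rfl⟩ := mem_zpowers_iff.1 (hγ.symm ▸ hd : d ∈ zpowers γ)
      obtain ⟨y, hy, z, hz⟩ := hodd g
      refine mem_zpowers_iff.2 ⟨-(z * x), ?_⟩
      have h1 : g * (γ ^ x)⁻¹ * g⁻¹ = γ ^ (y * -x) := by rw [← zpow_neg, ← conj_zpow, hy, ← zpow_mul]
      calc (γ ^ (2 : ℤ)) ^ (-(z * x)) = γ ^ x * γ ^ (y * -x) := by
            rw [← zpow_mul, ← zpow_add, hz]; congr 1; ring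
        _ = _ := by rw [← h1, commutatorElement_def]; group
    · rintro _ ⟨d, hd, rfl⟩
      obtain ⟨x, rfl⟩ := mem_zpowers_iff.1 (hγ.symm ▸ hd : d ∈ zpowers γ)
      exact mem_zpowers_iff.2 ⟨x, by
        show (γ ^ (2 : ℤ)) ^ x = (γ ^ x) ^ 2
        rw [← zpow_natCast (γ ^ x), ← zpow_mul, ← zpow_mul, mul_comm]; norm_num⟩
  obtain ⟨x, hx⟩ := mem_zpowers_iff.1 (hγ.symm ▸ hcD : c ∈ zpowers γ)
  have hxo : Odd x := by
    refine Int.not_even_iff_odd.1 ?_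
    rintro ⟨w, rfl⟩
    refine hcK ?_
    rw [← hx, ← two_mul, zpow_mul, zpow_two, ← pow_two]
    exact zpow_mem (sq_mem_dK (hγ ▸ mem_zpowers γ)) w
  obtain ⟨x', hx'⟩ : ∃ x' : ℤ, c ^ x' = γ := by
    obtain ⟨u, hu⟩ := mem_zpowers_iff.1 (mem_zpowers_zpow_odd hX γ hxo)
    exact ⟨u, by rw [← hx, hu]⟩
  refine ⟨le_antisymm ?_ (zpowers_le.2 hcD), fun v hv => ?_⟩
  · rw [← hγ, zpowers_le]; exact ⟨x', hx'⟩
  · obtain ⟨e, rfl⟩ := mem_zpowers_iff.1 (hK hv)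
    exact ⟨x' * e, by rw [← hx', ← zpow_mul, ← zpow_mul]; congr 1; ring⟩

end Cfsg.Agent.Lib.Bicyclic
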