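import Cfsg.Agent.Lib.Bicyclic.CyclicDerived

/-!
The relations of the normal form determine the group.
-/

set_option autoImplicit false
set_option linter.style.haveILetI false

namespace Cfsg.Agent.Lib.Bicyclic

open Subgroup

variable {R : Type*} [Group R]

theorem pow_conj_swap {a c : R} {j : ℕ} (hac : a * c * a⁻¹ = c ^ j) (n : ℕ) (x : ℤ) :
    a ^ n * c ^ x = c ^ (((j ^ n : ℕ) : ℤ) * x) * a ^ n := by
  rw [zpow_mul, zpow_natCast, ← conj_pow_iter hac, conj_zpow, inv_mul_cancel_right]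

theorem normal_form [Finite R] {a b c : R} {j : ℕ} (hab : a * b * a⁻¹ = c * b)
    (hac : a * c * a⁻¹ = c ^ j) (hbc : b * c * b⁻¹ = c⁻¹) {g : R}
    (hg : g ∈ closure ({a, b} : Set R)) : ∃ (i : ℤ) (n e : ℕ), g = c ^ i * a ^ n * b ^ e := by
  have hbx : ∀ x : ℤ, b * c ^ x = c ^ (-x) * b := fun x => by
    refine mul_inv_eq_iff_eq_mul.1 ?_
    rw [← conj_zpow, hbc, inv_zpow, zpow_neg]
  have hbe : ∀ (e : ℕ) (x : ℤ), ∃ y : ℤ, b ^ e * c ^ x = c ^ y * b ^ e := by
    intro e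
    induction e with
    | zero => exact fun x => ⟨x, by simp⟩
    | succ e ih =>
      intro x
      obtain ⟨y, hy⟩ := ih (-x)
      exact ⟨y, by rw [pow_succ, mul_assoc, hbx, ← mul_assoc, hy, mul_assoc]⟩
  have hba : ∀ e : ℕ, ∃ y : ℤ, b ^ e * a = c ^ y * a * b ^ e := by
    intro e
    induction e with
    | zero => exact ⟨0, by simp⟩
    | succ e ih =>
      obtain ⟨y, hy⟩ := ih
      obtain ⟨z, hz⟩ := hbe e (-1)
      refine ⟨z + y, ?_⟩
      have h1 : b * a = c ^ (-1 : ℤ) * a * b := by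
        rw [zpow_neg_one]
        calc b * a = c⁻¹ * (c * b) * a := by group
          _ = c⁻¹ * a * b := by rw [← hab]; group
      rw [pow_succ, mul_assoc, h1, ← mul_assoc, ← mul_assoc, hz, mul_assoc (c ^ z), hy, zpow_add]
      group
  rw [← Subgroup.mem_toSubmonoid, Subgroup.closure_toSubmonoid_of_finite] at hg
  induction hg using Submonoid.closure_induction_right with
  | one => exact ⟨0, 0, 0, by simp⟩
  | mul_right x hx y hy ih =>
    obtain ⟨i, n, e, rfl⟩ := ih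
    simp only [Set.mem_insert_iff, Set.mem_singleton_iff] at hy
    rcases hy with hy | hy <;> rw [hy]
    · obtain ⟨z, hz⟩ := hba e
      refine ⟨i + ((j ^ n : ℕ) : ℤ) * z, n + 1, e, ?_⟩
      rw [mul_assoc, hz, ← mul_assoc, ← mul_assoc, mul_assoc (c ^ i), pow_conj_swap hac, zpow_add,
        pow_succ]
      simp only [mul_assoc]
    · exact ⟨i, n, e + 1, by rw [pow_succ]; simp only [mul_assoc]⟩

variable {X G : Type*} [Group X] [Group G]

theorem CRel.snd_eq_one {m k K l j : ℕ} {a b c : X} {A B C : G} (hX : CRel m k K l j a b c)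
    (hG : CRel m k K l j A B C) [Finite X] [Finite G] {r : X × G}
    (hr : r ∈ closure ({(a, A), (b, B)} : Set (X × G))) (h1 : r.1 = 1) : r.2 = 1 := by
  obtain ⟨i, n, e, rfl⟩ := normal_form (R := X × G) (c := (c, C)) (j := j)
    (Prod.ext hX.hab hG.hab) (Prod.ext hX.hac hG.hac) (Prod.ext hX.hbc hG.hbc) hr
  change c ^ i * a ^ n * b ^ e = 1 at h1
  show C ^ i * A ^ n * B ^ e = 1
  have hmem : a ^ (n : ℤ) * b ^ (e : ℤ) ∈ zpowers c := by
    refine mem_zpowers_iff.2 ⟨-i, ?_⟩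
    rw [zpow_natCast, zpow_natCast, zpow_neg]
    exact inv_eq_of_mul_eq_one_right (by rw [← mul_assoc]; exact h1)
  obtain ⟨hn, he⟩ := hX.parity _ _ hmem
  obtain ⟨q, rfl⟩ : 2 ^ m ∣ n := by exact_mod_cast hn
  obtain ⟨u, rfl⟩ : 2 ∣ e := by exact_mod_cast he
  rw [pow_mul, pow_mul b, hX.hpow, hX.hsq, ← zpow_natCast, ← zpow_natCast (c ^ _),
    ← zpow_natCast c, ← zpow_natCast c, ← zpow_mul, ← zpow_mul, ← zpow_add, ← zpow_add,
    ← orderOf_dvd_iff_zpow_eq_one, hX.ord] at h1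
  rw [pow_mul, pow_mul B, hG.hpow, hG.hsq, ← zpow_natCast, ← zpow_natCast (C ^ _),
    ← zpow_natCast C, ← zpow_natCast C, ← zpow_mul, ← zpow_mul, ← zpow_add, ← zpow_add,
    ← orderOf_dvd_iff_zpow_eq_one, hG.ord]
  exact h1

/-- The embedding given by the relations. -/
theorem exists_embedding {m k K l j : ℕ} {a b c : X} {A B C : G} (hX : CRel m k K l j a b c)
    (hG : CRel m k K l j A B C) [Finite X] [Finite G] (hgen : closure ({a, b} : Set X) = ⊤) :
    ∃ f : X →* G, Function.Injective f ∧ f a = A ∧ f b = B ∧ f c = C := by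
  let R : Subgroup (X × G) := closure {(a, A), (b, B)}
  let π : R →* X := (MonoidHom.fst X G).comp R.subtype
  have hinj : Function.Injective π := by
    rw [injective_iff_map_eq_one]
    intro r hr
    exact Subtype.ext (Prod.ext hr (hX.snd_eq_one hG r.2 hr))
  have ha : (a, A) ∈ R := subset_closure (by simp)
  have hb : (b, B) ∈ R := subset_closure (by simp)
  have hsurj : Function.Surjective π := by
    rw [← MonoidHom.range_eq_top, eq_top_iff, ← hgen, closure_le]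
    intro v hv
    simp only [Set.mem_insert_iff, Set.mem_singleton_iff] at hv
    rcases hv with hv | hv <;> rw [hv]
    · exact ⟨⟨_, ha⟩, rfl⟩
    · exact ⟨⟨_, hb⟩, rfl⟩
  let e : R ≃* X := MulEquiv.ofBijective π ⟨hinj, hsurj⟩
  let f : X →* G := ((MonoidHom.snd X G).comp R.subtype).comp e.symm.toMonoidHom
  have hfa : f a = A := by
    have : e.symm a = ⟨(a, A), ha⟩ := (MulEquiv.symm_apply_eq e).2 rfl
    show ((e.symm a : R) : X × G).2 = A
    rw [this]
  have hfb : f b = B := by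
    have : e.symm b = ⟨(b, B), hb⟩ := (MulEquiv.symm_apply_eq e).2 rfl
    show ((e.symm b : R) : X × G).2 = B
    rw [this]
  refine ⟨f, ?_, hfa, hfb, ?_⟩
  · rw [injective_iff_map_eq_one]
    intro x hx
    have h2 : ((e.symm x : R) : X × G).swap ∈ closure ({(A, a), (B, b)} : Set (G × X)) := by
      have h := mem_map_of_mem (MulEquiv.prodComm (M := X) (N := G)).toMonoidHom (e.symm x).2
      rw [MonoidHom.map_closure, Set.image_pair] at h
      exact h
    have h3 := hG.snd_eq_one hX h2 hx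
    show x = 1
    rw [← e.apply_symm_apply x]
    exact h3
  · have hcX : c = a * b * a⁻¹ * b⁻¹ := by rw [hX.hab, mul_inv_cancel_right]
    rw [hcX, map_mul, map_mul, map_mul, map_inv, map_inv, hfa, hfb, hG.hab, mul_inv_cancel_right]

theorem CRel.card_le [Finite X] {m k K l j : ℕ} {a b c : X} (hX : CRel m k K l j a b c) :
    2 ^ (m + k + 1) ≤ Nat.card X := by
  let φ : Fin (2 ^ m) × Fin (2 ^ k) × Fin 2 → X := fun p => c ^ (p.2.1 : ℕ) * a ^ (p.1 : ℕ) * b ^ (p.2.2 : ℕ)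
  have hφ : Function.Injective φ := by
    rintro ⟨n, i, e⟩ ⟨n', i', e'⟩ h
    change c ^ (i : ℕ) * a ^ (n : ℕ) * b ^ (e : ℕ) = c ^ (i' : ℕ) * a ^ (n' : ℕ) * b ^ (e' : ℕ) at h
    have hnorm : ∀ x : ℕ, a ^ x * c * (a ^ x)⁻¹ ∈ zpowers c := fun x => by
      rw [conj_pow_iter hX.hac]; exact pow_mem (mem_zpowers c) _
    -- compare modulo the cyclic subgroup
    have hd : ∀ (p p' : ℕ), p ≤ p' → ∀ (q q' : ℕ) (r r' : ℕ),
        c ^ r * a ^ p * b ^ q = c ^ r' * a ^ p' * b ^ q' → (2 ^ m : ℤ) ∣ (p' : ℤ) - p ∧ (2 : ℤ) ∣ (q' : ℤ) - q := by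
      intro p p' hpp q q' r r' hh
      obtain ⟨z, hz⟩ := mem_zpowers_iff.1
        (show (c ^ r')⁻¹ * c ^ r ∈ zpowers c from mul_mem (inv_mem (pow_mem (mem_zpowers c) _)) (pow_mem (mem_zpowers c) _))
      have h1 : a ^ p' * b ^ q' = c ^ z * a ^ p * b ^ q := by
        rw [hz, mul_assoc, mul_assoc, ← mul_assoc (c ^ r), hh]; group
      obtain ⟨d, rfl⟩ : ∃ d, p' = d + p := ⟨p' - p, by omega⟩
      have h2 : a ^ (d : ℤ) * b ^ ((q' : ℤ) - q) ∈ zpowers c := by
        obtain ⟨w, hw⟩ := mem_zpowers_iff.1 (hnorm d)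
        have h3 : a ^ p * (a ^ d * b ^ q') = c ^ z * a ^ p * b ^ q := by
          rw [← mul_assoc, ← pow_add, add_comm p, h1]
        have h4 : a ^ d * b ^ q' * (b ^ q)⁻¹ = (a ^ p)⁻¹ * c ^ z * a ^ p := by
          calc a ^ d * b ^ q' * (b ^ q)⁻¹ = (a ^ p)⁻¹ * (a ^ p * (a ^ d * b ^ q')) * (b ^ q)⁻¹ := by group
            _ = _ := by rw [h3]; group
        rw [zpow_natCast, zpow_sub, zpow_natCast, zpow_natCast, ← mul_assoc, h4]
        obtain ⟨t, ht⟩ := (isOfFinOrder_of_finite a).mem_powers_iff_mem_zpowers.2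
          (inv_mem (pow_mem (mem_zpowers a) p))
        change a ^ t = (a ^ p)⁻¹ at ht
        rw [show (a ^ p)⁻¹ * c ^ z * a ^ p = (a ^ p)⁻¹ * c ^ z * (a ^ p)⁻¹⁻¹ by rw [inv_inv], ← ht,
          ← conj_zpow]
        exact zpow_mem (hnorm t) z
      obtain ⟨h7, h8⟩ := hX.parity _ _ h2
      exact ⟨by push_cast; simpa using h7, h8⟩
    have hboth : (2 ^ m : ℤ) ∣ (n' : ℤ) - (n : ℕ) ∧ (2 : ℤ) ∣ (e' : ℤ) - (e : ℕ) := by
      rcases le_total (n : ℕ) (n' : ℕ) with h' | h'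
      · exact hd _ _ h' _ _ _ _ h
      · obtain ⟨h1, h2⟩ := hd _ _ h' _ _ _ _ h.symm
        exact ⟨(dvd_sub_comm).1 h1, (dvd_sub_comm).1 h2⟩
    have hn : n = n' := by
      refine Fin.ext (Nat.ModEq.eq_of_lt_of_lt ?_ n.2 n'.2)
      rw [Nat.modEq_iff_dvd]; push_cast; exact hboth.1
    have he : e = e' := by
      refine Fin.ext (Nat.ModEq.eq_of_lt_of_lt ?_ e.2 e'.2)
      rw [Nat.modEq_iff_dvd]; push_cast; exact hboth.2
    subst hn he
    have hi : i = i' := by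
      refine Fin.ext (Nat.ModEq.eq_of_lt_of_lt ?_ i.2 i'.2)
      have h' := pow_eq_pow_iff_modEq.1 (mul_right_cancel (mul_right_cancel h))
      rwa [hX.ord] at h'
    rw [hi]
  have h := Nat.card_le_card_of_injective φ hφ
  simp only [Nat.card_prod, Nat.card_eq_fintype_card (α := Fin _), Fintype.card_fin] at h
  rw [pow_add, pow_add, pow_one, mul_assoc]
  exact h

end Cfsg.Agent.Lib.Bicyclic
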