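import Mathlib

/-!
A cyclic extension of a finite group by an automorphism with an inner power.
-/

set_option autoImplicit false
set_option linter.style.haveILetI false

namespace Cfsg.Agent.Lib.Bicyclic

open Subgroup

universe u

variable {H : Type u} [Group H]

theorem conj_zpow_mulAut {N : ℕ} (α : MulAut H) (h₀ : H) (hN : α ^ N = MulAut.conj h₀) (h : H) :
    (α ^ (-(N : ℤ))) h = h₀⁻¹ * h * h₀ := by
  rw [zpow_neg, zpow_natCast, hN, ← map_inv, MulAut.conj_apply, inv_inv]

/-- A finite group containing `H` with an element `s` inducing `α`, with `s ^ N = h₀`. -/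
theorem exists_extension [Finite H] {N : ℕ} (hN0 : 0 < N) (α : MulAut H) (h₀ : H) (hfix : α h₀ = h₀)
    (hN : α ^ N = MulAut.conj h₀) :
    ∃ (G : Type u) (_ : Group G) (_ : Finite G) (ι : H →* G) (s : G) (ρ : G →* Multiplicative (ZMod N)),
      Function.Injective ι ∧ (∀ h, s * ι h * s⁻¹ = ι (α h)) ∧ s ^ N = ι h₀ ∧
      (∀ h, ρ (ι h) = 1) ∧ ρ s = Multiplicative.ofAdd 1 ∧ Nat.card G = Nat.card H * N := by
  haveI : NeZero N := ⟨hN0.ne'⟩
  let φ : Multiplicative ℤ →* MulAut H := zpowersHom (MulAut H) α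
  have hφ : ∀ (n : ℤ) (h : H), φ (Multiplicative.ofAdd n) h = (α ^ n) h := fun n h => rfl
  let E := H ⋊[φ] Multiplicative ℤ
  let x : E := ⟨h₀, Multiplicative.ofAdd (-(N : ℤ))⟩
  have hfixn : ∀ n : ℤ, (α ^ n) h₀ = h₀ := by
    intro n
    induction n using Int.induction_on with
    | zero => simp
    | succ n ih => rw [add_comm, zpow_add, zpow_one, MulAut.mul_apply, ih, hfix]
    | pred n ih =>
      rw [sub_eq_neg_add, zpow_add, zpow_neg_one, MulAut.mul_apply, ih]
      exact (MulEquiv.symm_apply_eq α).2 hfix.symm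
  have hxc : ∀ y : E, y * x = x * y := by
    rintro ⟨h, n⟩
    obtain ⟨n, rfl⟩ : ∃ k : ℤ, Multiplicative.ofAdd k = n := ⟨Multiplicative.toAdd n, rfl⟩
    refine SemidirectProduct.ext ?_ (mul_comm _ _)
    show h * φ (Multiplicative.ofAdd n) h₀ = h₀ * φ (Multiplicative.ofAdd (-(N : ℤ))) h
    rw [hφ, hφ, hfixn, conj_zpow_mulAut α h₀ hN]
    group
  let K : Subgroup E := zpowers x
  haveI hK : K.Normal := ⟨fun v hv g => by
    obtain ⟨q, rfl⟩ := mem_zpowers_iff.1 hv
    have hc : Commute g (x ^ q) := (show Commute g x from hxc g).zpow_right q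
    rw [hc.eq, mul_inv_cancel_right]
    exact hv⟩
  let ρ₀ : E →* Multiplicative (ZMod N) :=
    (AddMonoidHom.toMultiplicative (Int.castAddHom (ZMod N))).comp SemidirectProduct.rightHom
  have hρx : ρ₀ x = 1 := by
    show Multiplicative.ofAdd ((Int.castAddHom (ZMod N)) (-(N : ℤ))) = 1
    rw [Int.coe_castAddHom]
    push_cast
    rw [ZMod.natCast_self, neg_zero]
    rfl
  have hKρ : K ≤ ρ₀.ker := zpowers_le.2 hρx
  let ρ : E ⧸ K →* Multiplicative (ZMod N) := QuotientGroup.lift K ρ₀ hKρ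
  let ι : H →* E ⧸ K := (QuotientGroup.mk' K).comp SemidirectProduct.inl
  let s : E ⧸ K := QuotientGroup.mk' K (SemidirectProduct.inr (Multiplicative.ofAdd 1))
  have hinj : Function.Injective ι := by
    rw [injective_iff_map_eq_one]
    intro h hh
    have h1 : (SemidirectProduct.inl h : E) ∈ K := (QuotientGroup.eq_one_iff _).1 hh
    obtain ⟨q, hq⟩ := mem_zpowers_iff.1 h1
    have h2 := congrArg (fun e : E => Multiplicative.toAdd (SemidirectProduct.rightHom e)) hq
    simp only [map_zpow, SemidirectProduct.rightHom_inl] at h2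
    have h3 : q • (-(N : ℤ)) = 0 := h2
    have hq0 : q = 0 := by
      rcases smul_eq_zero.1 h3 with h4 | h4
      · exact h4
      · omega
    rw [hq0, zpow_zero] at hq
    exact SemidirectProduct.inl_injective (φ := φ) (by rw [← hq, map_one])
  have hconj : ∀ h, s * ι h * s⁻¹ = ι (α h) := by
    intro h
    show QuotientGroup.mk' K _ * QuotientGroup.mk' K _ * (QuotientGroup.mk' K _)⁻¹ = QuotientGroup.mk' K _
    rw [← map_inv, ← map_mul, ← map_mul]
    congr 1
    have h1 := SemidirectProduct.inl_aut (φ := φ) (Multiplicative.ofAdd (1 : ℤ)) h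
    rw [hφ, zpow_one] at h1
    rw [h1, map_inv]
  have hpow : s ^ N = ι h₀ := by
    show (QuotientGroup.mk' K _) ^ N = QuotientGroup.mk' K _
    rw [← map_pow]
    refine QuotientGroup.eq.2 (mem_zpowers_iff.2 ⟨1, ?_⟩)
    have h1 : (SemidirectProduct.inr (Multiplicative.ofAdd (1 : ℤ)) : E) ^ N =
        SemidirectProduct.inr (Multiplicative.ofAdd (N : ℤ)) := by
      rw [← map_pow, ← ofAdd_nsmul, nsmul_eq_mul, mul_one]
    rw [zpow_one, h1, ← map_inv, ← ofAdd_neg]
    refine SemidirectProduct.ext ?_ ?_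
    · show h₀ = 1 * φ (Multiplicative.ofAdd (-(N : ℤ))) h₀
      rw [hφ, hfixn, one_mul]
    · show Multiplicative.ofAdd (-(N : ℤ)) = Multiplicative.ofAdd (-(N : ℤ)) * 1
      rw [mul_one]
  have hρι : ∀ h, ρ (ι h) = 1 := by
    intro h
    show ρ₀ (SemidirectProduct.inl h) = 1
    show (AddMonoidHom.toMultiplicative (Int.castAddHom (ZMod N)))
      (SemidirectProduct.rightHom (SemidirectProduct.inl h)) = 1
    rw [SemidirectProduct.rightHom_inl, map_one]
  have hρs : ρ s = Multiplicative.ofAdd 1 := by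
    show ρ₀ (SemidirectProduct.inr (Multiplicative.ofAdd 1)) = _
    show Multiplicative.ofAdd ((Int.castAddHom (ZMod N)) 1) = _
    simp
  have hnf : ∀ g : E ⧸ K, ∃ (h : H) (n : ℤ), g = ι h * s ^ n := by
    intro g
    obtain ⟨⟨h, n⟩, rfl⟩ := QuotientGroup.mk_surjective g
    refine ⟨h, Multiplicative.toAdd n, ?_⟩
    show QuotientGroup.mk' K _ = QuotientGroup.mk' K _ * (QuotientGroup.mk' K _) ^ _
    rw [← map_zpow, ← map_mul]
    congr 1
    rw [← map_zpow, ← ofAdd_zsmul, smul_eq_mul, mul_one, ofAdd_toAdd,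
      ← SemidirectProduct.mk_eq_inl_mul_inr]
  have hker : ρ.ker = ι.range := by
    refine le_antisymm (fun g hg => ?_) (fun g hg => ?_)
    · obtain ⟨h, n, rfl⟩ := hnf g
      rw [MonoidHom.mem_ker, map_mul, hρι, one_mul, map_zpow, hρs, ← ofAdd_zsmul] at hg
      have hn : (N : ℤ) ∣ n := by
        have := congrArg Multiplicative.toAdd hg
        simpa [ZMod.intCast_zmod_eq_zero_iff_dvd] using this
      obtain ⟨q, rfl⟩ := hn
      exact ⟨h * h₀ ^ q, by rw [map_mul, map_zpow, zpow_mul, zpow_natCast, hpow]⟩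
    · obtain ⟨h, rfl⟩ := hg
      exact hρι h
  have hsurj : ρ.range = ⊤ := by
    refine eq_top_iff.2 fun v _ => ⟨s ^ (Multiplicative.toAdd v).val, ?_⟩
    rw [map_pow, hρs, ← ofAdd_nsmul, nsmul_eq_mul, mul_one, ZMod.natCast_zmod_val, ofAdd_toAdd]
  have hcard : Nat.card (E ⧸ K) = Nat.card H * N := by
    rw [← ρ.ker.card_mul_index, Subgroup.index_ker, hsurj, Subgroup.card_top, hker,
      ← Nat.card_congr (MonoidHom.ofInjective hinj).toEquiv]
    congr 1
    rw [Nat.card_congr (Multiplicative.toAdd (α := ZMod N)), Nat.card_zmod]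
  haveI : Finite (E ⧸ K) := Nat.finite_of_card_ne_zero (by
    rw [hcard]; exact Nat.mul_ne_zero Nat.card_pos.ne' hN0.ne')
  exact ⟨E ⧸ K, inferInstance, inferInstance, ι, s, ρ, hinj, hconj, hpow, hρι, hρs, hcard⟩

end Cfsg.Agent.Lib.Bicyclic
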