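import Cfsg.Agent.Lib.Bicyclic.CyclicDerived

/-!
Existence of the normal form for cyclic derived subgroup.
-/

set_option autoImplicit false
set_option linter.style.haveILetI false

namespace Cfsg.Agent.Lib.Bicyclic

open Subgroup
open scoped commutatorElement

variable {X : Type*} [Group X]

/-- The normal form before adjusting the sum condition. -/
structure CPre (m k l j : ℕ) (a b c : X) : Prop where
  gen : closure ({a, b} : Set X) = ⊤
  hab : a * b * a⁻¹ = c * b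
  hac : a * c * a⁻¹ = c ^ j
  hbc : b * c * b⁻¹ = c⁻¹
  hpow : a ^ 2 ^ m = c ^ (2 * l)
  ord : orderOf c = 2 ^ k
  hD : commutator X = zpowers c
  parity : ∀ i e : ℤ, a ^ i * b ^ e ∈ commutator X → (2 ^ m : ℤ) ∣ i ∧ (2 : ℤ) ∣ e
  m2 : 2 ≤ m
  k1 : 1 ≤ k
  hj : j % 4 = 1
  hsq : b ^ 2 = 1 ∨ (2 ≤ k ∧ b ^ 2 = c ^ 2 ^ (k - 1))

theorem exists_odd_exponent {a c : X} (hD : commutator X = zpowers c) (hc : c ∉ dK X) :
    ∃ j : ℤ, a * c * a⁻¹ = c ^ j ∧ Odd j := by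
  have hcD : c ∈ commutator X := hD ▸ mem_zpowers c
  obtain ⟨j, hj⟩ := mem_zpowers_iff.1
    (hD ▸ (inferInstance : (commutator X).Normal).conj_mem c hcD a : a * c * a⁻¹ ∈ zpowers c)
  refine ⟨j, hj.symm, Int.not_even_iff_odd.1 ?_⟩
  rintro ⟨w, rfl⟩
  refine hc ?_
  have h : a * c * a⁻¹ ∈ dK X := by
    rw [← hj, ← two_mul, zpow_mul, zpow_two, ← pow_two]
    exact zpow_mem (sq_mem_dK hcD) w
  have h2 := (inferInstance : (dK X).Normal).conj_mem _ h a⁻¹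
  simpa [mul_assoc] using h2

/-- Normalise the exponent of `a` on `c`. -/
theorem cpre_of_exponent [Finite X] {a b c : X} {m k : ℕ} {j : ℤ}
    (hgen : closure ({a, b} : Set X) = ⊤) (hab : a * b * a⁻¹ = c * b) (hac : a * c * a⁻¹ = c ^ j)
    (hbc : b * c * b⁻¹ = c⁻¹) (hdK : ∀ v ∈ dK X, ∃ e : ℤ, c ^ (2 * e) = v)
    (hpow : a ^ 2 ^ m ∈ dK X) (ord : orderOf c = 2 ^ k) (hD : commutator X = zpowers c)
    (parity : ∀ i e : ℤ, a ^ i * b ^ e ∈ commutator X → (2 ^ m : ℤ) ∣ i ∧ (2 : ℤ) ∣ e)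
    (m2 : 2 ≤ m) (k1 : 1 ≤ k) (hj : j % 4 = 1)
    (hsq : b ^ 2 = 1 ∨ (2 ≤ k ∧ b ^ 2 = c ^ 2 ^ (k - 1))) :
    ∃ l J : ℕ, CPre m k l J a b c := by
  obtain ⟨l0, hl0⟩ := hdK _ hpow
  have hpk : (0 : ℤ) < 2 ^ k := by positivity
  set M : ℤ := 2 ^ (k + 2) with hM
  have hM0 : (0 : ℤ) < M := by positivity
  have hkM : (2 ^ k : ℤ) ∣ M := ⟨4, by rw [hM, pow_add]; norm_num⟩
  have h4M : (4 : ℤ) ∣ M := ⟨2 ^ k, by rw [hM, pow_add]; ring⟩
  refine ⟨(l0 % 2 ^ k).toNat, (j % M).toNat, ⟨hgen, hab, ?_, hbc, ?_, ord, hD, parity, m2, k1, ?_, hsq⟩⟩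
  · rw [hac, ← zpow_natCast, zpow_eq_zpow_iff_dvd ord, Int.toNat_of_nonneg (Int.emod_nonneg _ hM0.ne')]
    exact hkM.trans (Int.dvd_self_sub_emod)
  · rw [← hl0, ← zpow_natCast c, zpow_eq_zpow_iff_dvd ord]
    push_cast
    rw [Int.toNat_of_nonneg (Int.emod_nonneg _ hpk.ne'), ← mul_sub]
    exact Dvd.dvd.mul_left (Int.dvd_self_sub_emod) 2
  · have h1 : j % M % 4 = 1 := by rw [Int.emod_emod_of_dvd _ h4M, hj]
    have h2 : 0 ≤ j % M := Int.emod_nonneg _ hM0.ne'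
    omega

theorem exists_cpre [Finite X] (hX : IsPGroup 2 X)
    (hb : ∃ x y : X, ∀ g : X, ∃ i j : ℤ, g = x ^ i * y ^ j) (hm : ¬ Cfsg.IsMetacyclic X)
    (hcyc : IsCyclic (commutator X)) :
    ∃ (m k l j : ℕ) (a b c : X), CPre m k l j a b c := by
  obtain ⟨S⟩ := exists_data hX hb hm
  obtain ⟨a, b, m, m2, hgen, -, hsqb, hpow, hpar, hcK⟩ := S
  set c := ⁅a, b⁆ with hc
  have hcD : c ∈ commutator X := commutator_mem_commutator (mem_top a) (mem_top b)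
  obtain ⟨hD, hdK⟩ := cyclic_derived hX hcyc hcD hcK
  obtain ⟨k, hk⟩ := IsPGroup.iff_orderOf.1 hX c
  have k1 : 1 ≤ k := by
    by_contra h
    rw [show k = 0 by omega, pow_zero, orderOf_eq_one_iff] at hk
    exact hcK (hk ▸ one_mem _)
  have hab : a * b * a⁻¹ = c * b := by rw [hc, commutatorElement_def, inv_mul_cancel_right]
  obtain ⟨j, hj, hjo⟩ := exists_odd_exponent (a := a) hD hcK
  obtain ⟨i, hi, hio⟩ := exists_odd_exponent (a := b) hD hcK
  obtain ⟨e, he⟩ := hdK _ hsqb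
  -- `b` inverts `c`
  have h1 : (2 ^ k : ℤ) ∣ 1 + i + 2 * e - 2 * e * j := by
    rw [← zpow_eq_zpow_iff_dvd hk, zpow_add, zpow_add, zpow_one, ← hi, he, mul_comm (2 * e) j,
      zpow_mul, ← hj, conj_zpow, he]
    calc c * (b * c * b⁻¹) * b ^ 2 = (c * b) * (c * b) := by rw [pow_two]; group
      _ = a * b ^ 2 * a⁻¹ := by rw [← hab, pow_two]; group
  have h2 : (2 ^ k : ℤ) ∣ i * (2 * e) - 2 * e := by
    rw [← zpow_eq_zpow_iff_dvd hk, zpow_mul, ← hi, conj_zpow, he, pow_two]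
    group
  have h3 : (2 ^ k : ℤ) ∣ i + 1 ∧ (2 ^ k : ℤ) ∣ 4 * e := by
    rcases Nat.lt_or_ge k 2 with hk2 | hk2
    · obtain rfl : k = 1 := by omega
      obtain ⟨u, rfl⟩ := hio
      exact ⟨⟨u + 1, by ring⟩, ⟨2 * e, by ring⟩⟩
    · obtain ⟨u, rfl⟩ := hjo
      have h4 : (4 : ℤ) ∣ 2 ^ k := ⟨2 ^ (k - 2), by
        rw [show (4 : ℤ) = 2 ^ 2 by norm_num, ← pow_add, Nat.add_sub_cancel' hk2]⟩
      have h5 : (4 : ℤ) ∣ i + 1 := by
        obtain ⟨w, hw⟩ := h4.trans h1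
        exact ⟨w + e * u, by linarith⟩
      obtain ⟨w, hw⟩ := h5
      have h6 : (2 ^ k : ℤ) ∣ 4 * e := by
        refine IsCoprime.dvd_of_dvd_mul_right (z := 2 * w - 1) ?_ ?_
        · refine IsCoprime.pow_left ?_
          exact ⟨w, -1, by ring⟩
        · obtain ⟨q, hq⟩ := h2
          refine ⟨q, ?_⟩
          rw [← hq, show i = 4 * w - 1 by linarith]; ring
      refine ⟨?_, h6⟩
      have := dvd_add h1 (h6.mul_right u)
      rwa [show (1 : ℤ) + i + 2 * e - 2 * e * (2 * u + 1) + 4 * e * u = i + 1 by ring] at this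
  have hbc : b * c * b⁻¹ = c⁻¹ := by
    rw [hi, ← zpow_neg_one, zpow_eq_zpow_iff_dvd hk, sub_neg_eq_add]
    exact h3.1
  have hsq : b ^ 2 = 1 ∨ (2 ≤ k ∧ b ^ 2 = c ^ 2 ^ (k - 1)) := by
    obtain ⟨w, hw⟩ := h3.2
    rcases Int.even_or_odd w with ⟨v, rfl⟩ | ⟨v, rfl⟩
    · left
      rw [← he, ← zpow_zero c, zpow_eq_zpow_iff_dvd hk]
      exact ⟨v, by linarith⟩
    · right
      have hk2 : 2 ≤ k := by
        by_contra hlt
        obtain rfl : k = 1 := by omega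
        norm_num at hw
        omega
      refine ⟨hk2, ?_⟩
      rw [← he, ← zpow_natCast c, zpow_eq_zpow_iff_dvd hk]
      obtain ⟨p, rfl⟩ : ∃ p, k = p + 1 := ⟨k - 1, by omega⟩
      rw [Nat.add_sub_cancel]
      push_cast
      rw [pow_succ] at hw ⊢
      exact ⟨v, by linarith⟩
  have hj4 : j % 4 = 1 ∨ j % 4 = 3 := by
    rw [Int.odd_iff] at hjo
    omega
  rcases hj4 with hj4 | hj4
  · obtain ⟨l, J, h⟩ := cpre_of_exponent hgen hab hj hbc hdK hpow hk hD hpar m2 k1 hj4 hsq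
    exact ⟨m, k, l, J, a, b, c, h⟩
  -- replace `a` by `a * b`
  have hgen' : closure ({a * b, b} : Set X) = ⊤ := by
    refine eq_top_iff.2 (hgen ▸ (closure_le _).2 ?_)
    intro v hv
    simp only [Set.mem_insert_iff, Set.mem_singleton_iff] at hv
    rcases hv with hv | hv <;> rw [hv]
    · have h := mul_mem (subset_closure (by simp : a * b ∈ ({a * b, b} : Set X)))
        (inv_mem (subset_closure (by simp : b ∈ ({a * b, b} : Set X))))
      simpa using h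
    · exact subset_closure (by simp)
  have hab' : a * b * b * (a * b)⁻¹ = c * b := by rw [← hab]; group
  have hj' : a * b * c * (a * b)⁻¹ = c ^ (-j) := by
    calc a * b * c * (a * b)⁻¹ = a * (b * c * b⁻¹) * a⁻¹ := by group
      _ = _ := by rw [hbc, zpow_neg, ← hj]; group
  have hpow' : (a * b) ^ 2 ^ m ∈ dK X := by
    refine (QuotientGroup.eq_one_iff _).1 ?_
    set Q := X ⧸ dK X
    set d : Q := ((c : X) : Q) with hd
    have hcen : ∀ g, Commute d g := mk_dK_central hcD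
    have hd2 : d * d = 1 := by rw [← pow_two]; exact mk_dK_sq hcD
    have hb2 : (b : Q) * (b : Q) = 1 := by
      rw [← QuotientGroup.mk_mul, ← pow_two]; exact (QuotientGroup.eq_one_iff _).2 hsqb
    have hba : (b : Q) * (a : Q) = d * ((a : Q) * (b : Q)) := by
      have h : (a : Q) * (b : Q) = d * (b : Q) * (a : Q) := by
        rw [hd, ← QuotientGroup.mk_mul, ← QuotientGroup.mk_mul, ← QuotientGroup.mk_mul]
        congr 1; rw [← hab]; group
      rw [h, ← mul_assoc, ← mul_assoc, hd2, one_mul]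
    have hsq2 : ((a : Q) * (b : Q)) ^ 2 = d * (a : Q) ^ 2 := by
      calc ((a : Q) * (b : Q)) ^ 2 = (a : Q) * ((b : Q) * (a : Q)) * (b : Q) := by rw [pow_two]; group
        _ = d * (a : Q) ^ 2 * ((b : Q) * (b : Q)) := by
          rw [hba, ← mul_assoc, ← (hcen (a : Q)).eq, pow_two]; group
        _ = _ := by rw [hb2, mul_one]
    rw [QuotientGroup.mk_pow, QuotientGroup.mk_mul, ← Nat.sub_add_cancel (show 1 ≤ m by omega),
      pow_succ', pow_mul, hsq2, (hcen _).mul_pow, ← pow_mul, ← pow_succ',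
      Nat.sub_add_cancel (show 1 ≤ m by omega), ← QuotientGroup.mk_pow _ a,
      (QuotientGroup.eq_one_iff _).2 hpow, mul_one,
      show 2 ^ (m - 1) = 2 * 2 ^ (m - 2) by rw [← pow_succ']; congr 1; omega, pow_mul, pow_two, hd2,
      one_pow]
  have hpar' : ∀ i e : ℤ, (a * b) ^ i * b ^ e ∈ commutator X → (2 ^ m : ℤ) ∣ i ∧ (2 : ℤ) ∣ e := by
    intro i e h
    haveI : IsMulCommutative (X ⧸ commutator X) :=
      Normal.quotient_commutative_iff_commutator_le.2 le_rfl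
    have h' : a ^ i * b ^ (i + e) ∈ commutator X := by
      refine (QuotientGroup.eq_one_iff _).1 ?_
      rw [← (QuotientGroup.eq_one_iff (N := commutator X) _).2 h]
      simp only [QuotientGroup.mk_mul, QuotientGroup.mk_zpow]
      rw [Commute.mul_zpow (IsMulCommutative.is_comm.comm _ _), zpow_add, mul_assoc]
    obtain ⟨hi', he'⟩ := hpar _ _ h'
    refine ⟨hi', ?_⟩
    have : (2 : ℤ) ∣ i := (dvd_pow_self 2 (by omega)).trans hi'
    omega
  obtain ⟨l, J, h⟩ := cpre_of_exponent hgen' hab' hj' hbc hdK hpow' hk hD hpar' m2 k1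
    (by omega) hsq
  exact ⟨m, k, l, J, a * b, b, c, h⟩

/-- The sum condition can be arranged. -/
theorem exists_crel [Finite X] (hX : IsPGroup 2 X)
    (hb : ∃ x y : X, ∀ g : X, ∃ i j : ℤ, g = x ^ i * y ^ j) (hm : ¬ Cfsg.IsMetacyclic X)
    (hcyc : IsCyclic (commutator X)) :
    ∃ (m k K l j : ℕ) (a b c : X), CPar m k K l j ∧ CRel m k K l j a b c ∧
      closure ({a, b} : Set X) = ⊤ ∧ commutator X = zpowers c := by
  obtain ⟨m, k, l, j, a, b, c, P⟩ := exists_cpre hX hb hm hcyc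
  obtain ⟨gen, hab, hac, hbc, hpow, ord, hD, parity, m2, k1, hj, hsq⟩ := P
  have hpar : ∀ i e : ℤ, a ^ i * b ^ e ∈ zpowers c → (2 ^ m : ℤ) ∣ i ∧ (2 : ℤ) ∣ e :=
    fun i e h => parity i e (hD ▸ h)
  have hl : 2 * l * j ≡ 2 * l [MOD 2 ^ k] := by
    rw [← ord, ← pow_eq_pow_iff_modEq, mul_comm (2 * l) j, pow_mul, ← hac, conj_pow, ← hpow]
    group
  have hS : (∑ i ∈ Finset.range (2 ^ m), j ^ i) ≡ 4 * l [MOD 2 ^ k] := by
    rw [← ord, ← pow_eq_pow_iff_modEq]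
    refine mul_right_cancel (b := b) ?_
    rw [← conj_geom hab hac (2 ^ m), hpow]
    have h : b * (c ^ (2 * l))⁻¹ * b⁻¹ = c ^ (2 * l) := by
      have h' : b * (c ^ (2 * l))⁻¹ * b⁻¹ = ((b * c * b⁻¹) ^ (2 * l))⁻¹ := by rw [conj_pow]; group
      rw [h', hbc, inv_pow, inv_inv]
    calc c ^ (2 * l) * b * (c ^ (2 * l))⁻¹ = c ^ (2 * l) * (b * (c ^ (2 * l))⁻¹ * b⁻¹) * b := by group
      _ = _ := by rw [h, ← pow_add]; congr 2; ring
  rcases hsq with hsq | ⟨hk2, hsq⟩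
  swap
  · exact ⟨m, k, k, l, j, a, b, c, ⟨m2, k1, hk2, Or.inl rfl, hj, hS, hl⟩,
      ⟨hab, hac, hbc, hsq, hpow, ord, hpar⟩, gen, hD⟩
  by_cases hS' : (∑ i ∈ Finset.range (2 ^ m), j ^ i) ≡ 4 * l [MOD 2 ^ (k + 1)]
  · refine ⟨m, k, k + 1, l, j, a, b, c, ⟨m2, k1, by omega, Or.inr rfl, hj, hS', hl⟩,
      ⟨hab, hac, hbc, ?_, hpow, ord, hpar⟩, gen, hD⟩
    rw [hsq, Nat.add_sub_cancel, ← ord, pow_orderOf_eq_one]
  -- the bad case
  obtain ⟨n, hn⟩ : ∃ n, n + n = 2 ^ m :=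
    ⟨2 ^ (m - 1), by rw [← two_mul, ← pow_succ']; congr 1; omega⟩
  have hn2 : Even n := by
    have : 4 ∣ 2 ^ m := ⟨2 ^ (m - 2), by
      rw [show (4 : ℕ) = 2 ^ 2 by norm_num, ← pow_add, Nat.add_sub_cancel' m2]⟩
    rw [Nat.even_iff]; omega
  have hj4 : j ≡ 1 [MOD 4] := by rw [Nat.ModEq, hj]
  have hsum : ∀ N, (∑ i ∈ Finset.range N, j ^ i) ≡ N [MOD 4] := by
    intro N
    induction N with
    | zero => simp [Nat.ModEq]
    | succ N ih =>
      rw [Finset.sum_range_succ]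
      exact ih.add (by simpa using hj4.pow N)
  have hk2 : 2 ≤ k := by
    by_contra hlt
    obtain rfl : k = 1 := by omega
    refine hS' ((hsum _).trans ?_)
    rw [Nat.ModEq, Nat.mul_mod_right,
      show (2 : ℕ) ^ m = 4 * 2 ^ (m - 2) by
        rw [show (4 : ℕ) = 2 ^ 2 by norm_num, ← pow_add, Nat.add_sub_cancel' m2], Nat.mul_mod_right]
  obtain ⟨s, hs⟩ : ∃ s, ∑ i ∈ Finset.range n, j ^ i = 2 * s := by
    have := hsum n
    rw [Nat.ModEq] at this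
    rw [Nat.even_iff] at hn2
    exact ⟨(∑ i ∈ Finset.range n, j ^ i) / 2, by omega⟩
  set J := j ^ n with hJ
  have hSsum : ∑ i ∈ Finset.range (2 ^ m), j ^ i = 2 * s + J * (2 * s) := by
    rw [← hn, Finset.sum_range_add, hs, hJ, ← hs, Finset.mul_sum]
    simp only [pow_add]
  -- the arithmetic
  rw [Nat.modEq_iff_dvd] at hS hS' hl
  push_cast at hS hS' hl
  rw [show ((∑ i ∈ Finset.range (2 ^ m), (j : ℤ) ^ i)) = ((2 * s + J * (2 * s) : ℕ) : ℤ) by
    rw [← hSsum]; push_cast; rfl] at hS hS'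
  push_cast at hS hS'
  have hgeom : ((J : ℤ) * J - 1) = ((j : ℤ) - 1) * ((2 * s : ℕ) + (J : ℤ) * (2 * s : ℕ)) := by
    have h := geom_sum_mul (j : ℤ) (2 ^ m)
    rw [show ∑ i ∈ Finset.range (2 ^ m), (j : ℤ) ^ i = ((2 * s + J * (2 * s) : ℕ) : ℤ) by
      rw [← hSsum]; push_cast; rfl, ← hn, pow_add] at h
    rw [hJ] at h ⊢; push_cast at h ⊢
    linear_combination -h
  push_cast at hgeom
  obtain ⟨q, hq⟩ : ∃ q : ℤ, (j : ℤ) = 4 * q + 1 := ⟨((j / 4 : ℕ) : ℤ), by omega⟩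
  obtain ⟨t, ht⟩ : ∃ t : ℤ, (J : ℤ) = 4 * t + 1 := by
    have h : J ≡ 1 [MOD 4] := by simpa using hj4.pow n
    exact ⟨((J / 4 : ℕ) : ℤ), by rw [Nat.ModEq] at h; omega⟩
  obtain ⟨w, hw⟩ := hS
  obtain ⟨r, hr⟩ := hl
  have hwo : Odd w := by
    refine Int.not_even_iff_odd.1 ?_
    rintro ⟨v, rfl⟩
    exact hS' ⟨v, by rw [pow_succ]; linarith⟩
  have hJ1 : (2 ^ k : ℤ) ∣ (J : ℤ) - 1 := by
    have h2 : (2 : ℤ) ^ k * 2 ∣ ((J : ℤ) - 1) * (2 * (2 * t + 1)) := by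
      refine ⟨-(2 * q * w) - r, ?_⟩
      have e1 : ((J : ℤ) - 1) * (2 * (2 * t + 1)) = (J : ℤ) * J - 1 := by rw [ht]; ring
      rw [e1, hgeom, hq]
      have e2 : (2 : ℤ) * s + (J : ℤ) * (2 * s) = 4 * l - 2 ^ k * w := by linarith
      rw [e2]
      have e3 : 2 * (l : ℤ) * (4 * q) = - (2 ^ k * r) := by
        rw [hq] at hr; linarith
      linear_combination 2 * e3
    rw [← mul_assoc, mul_comm _ (2 : ℤ), mul_comm ((J : ℤ) - 1) 2, mul_assoc] at h2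
    refine IsCoprime.dvd_of_dvd_mul_right (z := 2 * t + 1) ?_ ((mul_dvd_mul_iff_left (two_ne_zero (α := ℤ))).1 h2)
    exact IsCoprime.pow_left ⟨-t, 1, by ring⟩
  have hJc : c ^ J = c := by
    rw [← zpow_natCast, ← zpow_one c, ← zpow_mul, one_mul, zpow_eq_zpow_iff_dvd ord]
    exact hJ1
  have hanc : a ^ n * c * (a ^ n)⁻¹ = c := by rw [conj_pow_iter hac, hJc]
  have hcan : Commute c (a ^ n) := (mul_inv_eq_iff_eq_mul.1 hanc).symm
  set h : ℤ := -(s : ℤ) with hh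
  set u := c ^ h * a ^ n with hu
  have hub : Commute b u := by
    refine Commute.symm (mul_inv_eq_iff_eq_mul.1 ?_)
    have h1 : b * (c ^ h)⁻¹ * b⁻¹ = c ^ h := by
      rw [← zpow_neg, ← conj_zpow, hbc, inv_zpow, zpow_neg, inv_inv]
    calc u * b * u⁻¹ = c ^ h * (a ^ n * b * (a ^ n)⁻¹) * (c ^ h)⁻¹ := by rw [hu]; group
      _ = c ^ h * c ^ (∑ i ∈ Finset.range n, j ^ i) * (b * (c ^ h)⁻¹ * b⁻¹) * b := by
          rw [conj_geom hab hac]; group
      _ = b := by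
          rw [h1, hs, ← zpow_natCast c, ← zpow_add, ← zpow_add, show h + ((2 * s : ℕ) : ℤ) + h = 0 by
            rw [hh]; push_cast; ring, zpow_zero, one_mul]
  have huc : Commute c u := ((Commute.refl c).zpow_right h).mul_right hcan
  have hu2 : u ^ 2 = c ^ 2 ^ (k - 1) := by
    rw [hu, (hcan.zpow_left h).mul_pow, ← pow_mul, mul_two, hn, hpow, ← zpow_natCast (c ^ h),
      ← zpow_mul, ← zpow_natCast c, ← zpow_natCast c, ← zpow_add, zpow_eq_zpow_iff_dvd ord]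
    obtain ⟨v, rfl⟩ := hwo
    obtain ⟨p, rfl⟩ : ∃ p, k = p + 2 := ⟨k - 2, by omega⟩
    rw [show p + 2 - 1 = p + 1 by omega]
    obtain ⟨g, hg⟩ := hJ1
    refine ⟨v + s * g, ?_⟩
    push_cast
    rw [hh]
    have h3 : (2 : ℤ) ^ (p + 2) = 2 * 2 ^ (p + 1) := by rw [pow_succ']
    rw [h3] at hw hg ⊢
    rw [show (J : ℤ) = 1 + 2 * 2 ^ (p + 1) * g by linarith] at hw
    linarith
  set b' := b * u with hb'
  set c' := c ^ (1 - h * ((j : ℤ) - 1)) with hc'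
  have hau : a * u * a⁻¹ = c ^ (h * ((j : ℤ) - 1)) * u := by
    calc a * u * a⁻¹ = a * c ^ h * a⁻¹ * a ^ n := by rw [hu]; group
      _ = c ^ (h * (j : ℤ)) * a ^ n := by
          rw [← conj_zpow, hac, ← zpow_natCast, ← zpow_mul, mul_comm h]
      _ = _ := by rw [hu, ← mul_assoc, ← zpow_add]; congr 2; ring
  have hodd : Odd (1 - h * ((j : ℤ) - 1)) := ⟨-(h * (2 * q)), by rw [hq]; ring⟩
  have hzz : zpowers c' = zpowers c :=
    le_antisymm (zpowers_le.2 (zpow_mem (mem_zpowers c) _))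
      (zpowers_le.2 (mem_zpowers_zpow_odd hX c hodd))
  obtain ⟨x, hx⟩ : ∃ x : ℤ, c' ^ x = c := mem_zpowers_iff.1 (hzz ▸ mem_zpowers c)
  have hord' : orderOf c' = 2 ^ k := by rw [← Nat.card_zpowers, hzz, Nat.card_zpowers, ord]
  have hab' : a * b' * a⁻¹ = c' * b' := by
    have hbq : b * c ^ (h * ((j : ℤ) - 1)) = c ^ (-(h * ((j : ℤ) - 1))) * b := by
      refine mul_inv_eq_iff_eq_mul.1 ?_
      rw [← conj_zpow, hbc, inv_zpow, zpow_neg]
    calc a * b' * a⁻¹ = (a * b * a⁻¹) * (a * u * a⁻¹) := by rw [hb']; group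
      _ = c * (b * c ^ (h * ((j : ℤ) - 1))) * u := by rw [hab, hau]; group
      _ = _ := by
          rw [hbq, hc', hb', sub_eq_add_neg 1 (h * _), zpow_add, zpow_one]; group
  have hbc' : b' * c' * b'⁻¹ = c'⁻¹ := by
    rw [hc', ← conj_zpow, ← inv_zpow]
    congr 1
    calc b' * c * b'⁻¹ = b * (u * c * u⁻¹) * b⁻¹ := by rw [hb']; group
      _ = _ := by rw [mul_inv_eq_iff_eq_mul.2 huc.symm.eq, hbc]
  have hsq' : b' ^ 2 = c' ^ 2 ^ (k - 1) := by
    rw [hb', hub.mul_pow, hsq, one_mul, hu2, hc', ← zpow_natCast c, ← zpow_natCast (c ^ _), ← zpow_mul,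
      zpow_eq_zpow_iff_dvd ord]
    obtain ⟨v, hv⟩ := hodd
    obtain ⟨p, rfl⟩ : ∃ p, k = p + 1 := ⟨k - 1, by omega⟩
    rw [hv, Nat.add_sub_cancel]
    exact ⟨-v, by push_cast; rw [pow_succ]; ring⟩
  have hpk : (0 : ℤ) < 2 ^ k := by positivity
  set l' := (x * l % 2 ^ k).toNat with hl'
  have hl'd : (2 ^ k : ℤ) ∣ x * l - l' := by
    rw [hl', Int.toNat_of_nonneg (Int.emod_nonneg _ hpk.ne')]; exact Int.dvd_self_sub_emod
  have hpow' : a ^ 2 ^ m = c' ^ (2 * l') := by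
    rw [hpow, ← hx, ← zpow_natCast (c' ^ x), ← zpow_natCast c', ← zpow_mul, zpow_eq_zpow_iff_dvd hord']
    push_cast
    rw [mul_left_comm, ← mul_sub]
    exact hl'd.mul_left 2
  have hac' : a * c' * a⁻¹ = c' ^ j := by
    rw [hc', ← conj_zpow, hac, ← zpow_natCast c, ← zpow_natCast (c ^ _), ← zpow_mul, ← zpow_mul, mul_comm]
  have hpar' : ∀ i e : ℤ, a ^ i * b' ^ e ∈ zpowers c' → (2 ^ m : ℤ) ∣ i ∧ (2 : ℤ) ∣ e := by
    intro i e hie
    haveI : IsMulCommutative (X ⧸ commutator X) :=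
      Normal.quotient_commutative_iff_commutator_le.2 le_rfl
    have hmemc : c ∈ commutator X := hD ▸ mem_zpowers c
    have h' : a ^ (i + n * e) * b ^ e ∈ commutator X := by
      refine (QuotientGroup.eq_one_iff _).1 ?_
      rw [hzz, ← hD] at hie
      rw [← (QuotientGroup.eq_one_iff (N := commutator X) _).2 hie, hb', hu]
      simp only [QuotientGroup.mk_mul, QuotientGroup.mk_zpow, QuotientGroup.mk_pow,
        (QuotientGroup.eq_one_iff c).2 hmemc, one_zpow, one_mul]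
      rw [Commute.mul_zpow (IsMulCommutative.is_comm.comm _ _), zpow_add, zpow_mul, zpow_natCast,
        mul_assoc]
      congr 1
      exact IsMulCommutative.is_comm.comm _ _
    obtain ⟨hi', he'⟩ := parity _ _ h'
    refine ⟨?_, he'⟩
    have hne : (2 ^ m : ℤ) ∣ n * e := by
      obtain ⟨v, rfl⟩ := he'
      refine ⟨v, ?_⟩
      rw [show (2 : ℤ) ^ m = ((2 ^ m : ℕ) : ℤ) by push_cast; rfl, ← hn]; push_cast; ring
    exact (dvd_add_left hne).1 hi'
  have hgen' : closure ({a, b'} : Set X) = ⊤ := by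
    refine eq_top_iff.2 (gen ▸ (closure_le _).2 ?_)
    have ha : a ∈ closure ({a, b'} : Set X) := subset_closure (by simp)
    have hbm : b' ∈ closure ({a, b'} : Set X) := subset_closure (by simp)
    have hc'm : c' ∈ closure ({a, b'} : Set X) := by
      have h1 := mul_mem (mul_mem (mul_mem ha hbm) (inv_mem ha)) (inv_mem hbm)
      rwa [hab', mul_inv_cancel_right] at h1
    have hcm : c ∈ closure ({a, b'} : Set X) := hx ▸ zpow_mem hc'm x
    intro v hv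
    simp only [Set.mem_insert_iff, Set.mem_singleton_iff] at hv
    rcases hv with rfl | rfl
    · exact ha
    · have h1 := mul_mem hbm (inv_mem (mul_mem (zpow_mem hcm h) (pow_mem ha n)))
      rwa [← hu, hb', mul_inv_cancel_right] at h1
  refine ⟨m, k, k, l', j, a, b', c', ⟨m2, k1, hk2, Or.inl rfl, hj, ?_, ?_⟩,
    ⟨hab', hac', hbc', hsq', hpow', hord', hpar'⟩, hgen', hzz ▸ hD⟩
  · rw [← hord', ← pow_eq_pow_iff_modEq]
    refine mul_right_cancel (b := b') ?_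
    rw [← conj_geom hab' hac' (2 ^ m), hpow']
    have h1 : b' * (c' ^ (2 * l'))⁻¹ * b'⁻¹ = c' ^ (2 * l') := by
      have h2 : b' * (c' ^ (2 * l'))⁻¹ * b'⁻¹ = ((b' * c' * b'⁻¹) ^ (2 * l'))⁻¹ := by rw [conj_pow]; group
      rw [h2, hbc', inv_pow, inv_inv]
    calc c' ^ (2 * l') * b' * (c' ^ (2 * l'))⁻¹
        = c' ^ (2 * l') * (b' * (c' ^ (2 * l'))⁻¹ * b'⁻¹) * b' := by group
      _ = _ := by rw [h1, ← pow_add]; congr 2; ring
  · rw [← hord', ← pow_eq_pow_iff_modEq, mul_comm (2 * l') j, pow_mul, ← hac', conj_pow, ← hpow']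
    group

end Cfsg.Agent.Lib.Bicyclic
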