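import Mathlib

/-!
Diagonal elements, the Weyl element and diagonal automorphisms of `SL₂`.
-/

set_option autoImplicit false
set_option linter.unusedSimpArgs false
set_option linter.unreachableTactic false
set_option linter.unusedTactic false

namespace Cfsg.Agent.Lib.Bicyclic

open Matrix

variable {F : Type*} [Field F]

local notation "SL2" => Matrix.SpecialLinearGroup (Fin 2) F

/-- The diagonal element `diag (t, t⁻¹)`. -/
def dgHom : Fˣ →* SL2 where
  toFun t := ⟨!![(t : F), 0; 0, ((t⁻¹ : Fˣ) : F)], by simp [Matrix.det_fin_two_of]⟩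
  map_one' := Subtype.ext (by simp [Matrix.one_fin_two])
  map_mul' s t := Subtype.ext (by
    show (!![((s * t : Fˣ) : F), 0; 0, (((s * t)⁻¹ : Fˣ) : F)] : Matrix (Fin 2) (Fin 2) F) =
      !![(s : F), 0; 0, ((s⁻¹ : Fˣ) : F)] * !![(t : F), 0; 0, ((t⁻¹ : Fˣ) : F)]
    simp [Matrix.mul_fin_two, mul_comm])

theorem dgHom_coe (t : Fˣ) :
    ((dgHom t : SL2) : Matrix (Fin 2) (Fin 2) F) = !![(t : F), 0; 0, ((t⁻¹ : Fˣ) : F)] := rfl

theorem dgHom_injective : Function.Injective (dgHom (F := F)) := fun s t h =>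
  Units.ext (by simpa [dgHom_coe] using congrArg (fun A : SL2 => (A : Matrix (Fin 2) (Fin 2) F) 0 0) h)

variable (F) in
/-- The Weyl element. -/
def weyl : SL2 := ⟨!![0, 1; -1, 0], by simp [Matrix.det_fin_two_of]⟩

theorem weyl_coe : ((weyl F : SL2) : Matrix (Fin 2) (Fin 2) F) = !![0, 1; -1, 0] := rfl

theorem weyl_not_mem : weyl F ∉ (dgHom (F := F)).range := by
  rintro ⟨t, ht⟩
  simpa [dgHom_coe, weyl_coe] using congrArg (fun A : SL2 => (A : Matrix (Fin 2) (Fin 2) F) 0 1) ht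

theorem weyl_conj (t : Fˣ) : weyl F * dgHom t * (weyl F)⁻¹ = (dgHom t)⁻¹ := by
  rw [mul_inv_eq_iff_eq_mul, ← map_inv]
  refine Subtype.ext ?_
  ext i j
  fin_cases i <;> fin_cases j <;> simp [weyl_coe, dgHom_coe, Matrix.SpecialLinearGroup.coe_mul, Matrix.mul_apply, Fin.sum_univ_two]

theorem weyl_sq : weyl F ^ 2 = dgHom (-1 : Fˣ) := by
  refine Subtype.ext ?_
  rw [pow_two]
  ext i j
  fin_cases i <;> fin_cases j <;> simp [weyl_coe, dgHom_coe, Matrix.SpecialLinearGroup.coe_mul, Matrix.mul_apply, Fin.sum_univ_two]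

/-- Conjugation by `diag (t, 1)`. -/
def adT (t : Fˣ) : SL2 →* SL2 where
  toFun A := ⟨!![A.1 0 0, (t : F) * A.1 0 1; ((t⁻¹ : Fˣ) : F) * A.1 1 0, A.1 1 1], by
    have h := A.2
    rw [Matrix.det_fin_two] at h
    rw [Matrix.det_fin_two_of, mul_mul_mul_comm, Units.mul_inv, one_mul]
    exact h⟩
  map_one' := Subtype.ext (by simp [Matrix.one_fin_two])
  map_mul' A B := Subtype.ext (by
    show (!![(A.1 * B.1) 0 0, (t : F) * (A.1 * B.1) 0 1;
        ((t⁻¹ : Fˣ) : F) * (A.1 * B.1) 1 0, (A.1 * B.1) 1 1] : Matrix (Fin 2) (Fin 2) F) =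
      !![A.1 0 0, (t : F) * A.1 0 1; ((t⁻¹ : Fˣ) : F) * A.1 1 0, A.1 1 1] *
        !![B.1 0 0, (t : F) * B.1 0 1; ((t⁻¹ : Fˣ) : F) * B.1 1 0, B.1 1 1]
    rw [Matrix.mul_fin_two]
    ext i j
    fin_cases i <;> fin_cases j <;> simp [Matrix.mul_apply, Fin.sum_univ_two] <;> field_simp)

theorem adT_coe (t : Fˣ) (A : SL2) : ((adT t A : SL2) : Matrix (Fin 2) (Fin 2) F) =
    !![A.1 0 0, (t : F) * A.1 0 1; ((t⁻¹ : Fˣ) : F) * A.1 1 0, A.1 1 1] := rfl

theorem adT_one (A : SL2) : adT (1 : Fˣ) A = A := by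
  refine Subtype.ext ?_
  ext i j
  fin_cases i <;> fin_cases j <;> simp [adT_coe]

theorem adT_adT (s t : Fˣ) (A : SL2) : adT s (adT t A) = adT (s * t) A := by
  refine Subtype.ext ?_
  ext i j
  fin_cases i <;> fin_cases j <;> simp [adT_coe, mul_assoc, mul_comm, mul_left_comm]

theorem adT_injective (t : Fˣ) : Function.Injective (adT (F := F) t) := fun A B h => by
  have := congrArg (adT t⁻¹) h
  rwa [adT_adT, adT_adT, inv_mul_cancel, adT_one, adT_one] at this

theorem adT_dg (t u : Fˣ) : adT t (dgHom u) = dgHom u := by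
  refine Subtype.ext ?_
  ext i j
  fin_cases i <;> fin_cases j <;> simp [adT_coe, dgHom_coe]

theorem adT_weyl (t : Fˣ) : adT t (weyl F) = dgHom t * weyl F := by
  refine Subtype.ext ?_
  ext i j
  fin_cases i <;> fin_cases j <;> simp [adT_coe, weyl_coe, dgHom_coe, Matrix.SpecialLinearGroup.coe_mul, Matrix.mul_apply, Fin.sum_univ_two]

theorem dg_conj (t : Fˣ) (A : SL2) : dgHom t * A * (dgHom t)⁻¹ = adT (t ^ 2) A := by
  rw [← map_inv]
  refine Subtype.ext ?_
  rw [Matrix.SpecialLinearGroup.coe_mul, Matrix.SpecialLinearGroup.coe_mul, adT_coe, dgHom_coe,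
    dgHom_coe, inv_inv, Matrix.eta_fin_two A.1, Matrix.mul_fin_two, Matrix.mul_fin_two]
  ext i j
  fin_cases i <;> fin_cases j <;> simp [pow_two] <;> field_simp

theorem map_dg (σ : F →+* F) (t : Fˣ) :
    Matrix.SpecialLinearGroup.map σ (dgHom t) = dgHom (Units.map σ.toMonoidHom t) := by
  refine Subtype.ext ?_
  ext i j
  fin_cases i <;> fin_cases j <;> simp [dgHom_coe]

theorem map_weyl (σ : F →+* F) : Matrix.SpecialLinearGroup.map σ (weyl F) = weyl F := by
  refine Subtype.ext ?_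
  ext i j
  fin_cases i <;> fin_cases j <;> simp [weyl_coe]

theorem map_adT (σ : F →+* F) (t : Fˣ) (A : SL2) :
    Matrix.SpecialLinearGroup.map σ (adT t A) =
      adT (Units.map σ.toMonoidHom t) (Matrix.SpecialLinearGroup.map σ A) := by
  refine Subtype.ext ?_
  ext i j
  fin_cases i <;> fin_cases j <;> simp [adT_coe]

theorem weyl_isConj (i : Fˣ) (hi : i ^ 2 = -1) (h2 : (2 : F) ≠ 0) :
    IsConj (weyl F) (dgHom i) := by
  have hi' : (i : F) * i = -1 := by
    rw [← Units.val_mul, ← pow_two, hi, Units.val_neg, Units.val_one]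
  have hinv : ((i⁻¹ : Fˣ) : F) = -(i : F) := by
    refine (Units.inv_eq_of_mul_eq_one_left (u := i) ?_)
    rw [neg_mul, hi', neg_neg]
  let u : F := (i : F) / 2
  have hu : 2 * u = i := mul_div_cancel₀ _ h2
  let P : SL2 := ⟨!![1, u; (i : F), -u * i], by
    rw [Matrix.det_fin_two_of]
    calc (1 : F) * (-u * i) - u * i = -((2 * u) * i) := by ring
      _ = 1 := by rw [hu, hi', neg_neg]⟩
  refine isConj_iff.2 ⟨P⁻¹, ?_⟩
  rw [inv_inv, mul_assoc, inv_mul_eq_iff_eq_mul]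
  refine Subtype.ext ?_
  show (!![0, 1; -1, 0] : Matrix (Fin 2) (Fin 2) F) * !![1, u; (i : F), -u * i] =
    !![1, u; (i : F), -u * i] * !![(i : F), 0; 0, ((i⁻¹ : Fˣ) : F)]
  rw [Matrix.mul_fin_two, Matrix.mul_fin_two, hinv]
  ext p q
  fin_cases p <;> fin_cases q <;> simp <;>
    first | linear_combination -hi' | linear_combination hi' | linear_combination u * hi' | linear_combination -u * hi' | ring

end Cfsg.Agent.Lib.Bicyclic
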