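import Cfsg.Agent.Lib.Bicyclic.CyclicDerived
import Cfsg.Agent.Lib.Bicyclic.CyclicExtension
import Cfsg.Agent.Lib.Bicyclic.CyclicArith
import Cfsg.Agent.Lib.Bicyclic.CyclicSL2
import Cfsg.Agent.Lib.Linear.Order

/-!
A finite group satisfying the relations of a bicyclic nonmetacyclic 2-group with cyclic derived
subgroup in which `b` is conjugate to a power of `c`.
-/

set_option autoImplicit false
set_option linter.style.haveILetI false

namespace Cfsg.Agent.Lib.Bicyclic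

open Subgroup

theorem exists_field {K : ℕ} (hK : 2 ≤ K) :
    ∃ (F : Type) (_ : Field F) (_ : Fintype F) (ζ : Fˣ),
      CharP F 5 ∧ Fintype.card F = 5 ^ 2 ^ (K - 2) ∧ orderOf ζ = 2 ^ K := by
  haveI : Fact (Nat.Prime 5) := ⟨by norm_num⟩
  let F := GaloisField 5 (2 ^ (K - 2))
  haveI : Fintype F := Fintype.ofFinite F
  have hcard : Fintype.card F = 5 ^ 2 ^ (K - 2) := by
    rw [← Nat.card_eq_fintype_card]; exact GaloisField.card 5 _ (pow_ne_zero _ two_ne_zero)
  obtain ⟨t, hto, ht⟩ := (five_pow_parts hK).1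
  obtain ⟨g, hg⟩ := IsCyclic.exists_generator (α := Fˣ)
  have hog : orderOf g = 2 ^ K * t := by
    rw [orderOf_eq_card_of_forall_mem_zpowers hg, Nat.card_units, Nat.card_eq_fintype_card, hcard, ht]
  refine ⟨F, inferInstance, inferInstance, g ^ t, inferInstance, hcard, ?_⟩
  rw [orderOf_pow_of_dvd hto.pos.ne' (hog ▸ Dvd.intro_left _ rfl), hog,
    Nat.mul_div_cancel _ hto.pos]

theorem exists_model {m k K l j : ℕ} (P : CPar m k K l j) :
    ∃ (G : Type) (_ : Group G) (_ : Finite G) (A B C : G), CRel m k K l j A B C ∧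
      IsConj B (C ^ 2 ^ (K - 2)) ∧ ∃ t, Odd t ∧ Nat.card G = 2 ^ (m + k + 1) * t := by
  obtain ⟨m2, k1, K2, hK, hj, hS, hl⟩ := P
  obtain ⟨F, hF, hFt, ζ, hchar, hq, hζ⟩ := exists_field K2
  haveI : Fact (Nat.Prime 5) := ⟨by norm_num⟩
  haveI : ExpChar F 5 := ExpChar.prime (by norm_num)
  obtain ⟨e, he⟩ := exists_five_pow hj K2
  let σ : F →+* F := iterateFrobenius F 5 e
  have hσ : ∀ x : F, σ x = x ^ 5 ^ e := fun x => iterateFrobenius_def 5 e x
  have hσζ : Units.map σ.toMonoidHom ζ = ζ ^ j := by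
    have h1 : ζ ^ 5 ^ e = ζ ^ j := pow_eq_pow_iff_modEq.2 (hζ ▸ he)
    rw [← h1]
    exact Units.ext (by rw [Units.val_pow_eq_pow_val]; exact hσ _)
  let α₀ : Matrix.SpecialLinearGroup (Fin 2) F →* Matrix.SpecialLinearGroup (Fin 2) F :=
    (adT ζ).comp (Matrix.SpecialLinearGroup.map σ)
  have hinj : Function.Injective α₀ := by
    refine (adT_injective ζ).comp fun A B h => Matrix.SpecialLinearGroup.ext _ _ fun p q => ?_
    exact σ.injective (congrArg (fun M : Matrix.SpecialLinearGroup (Fin 2) F => M.1 p q) h)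
  let α : MulAut (Matrix.SpecialLinearGroup (Fin 2) F) :=
    MulEquiv.ofBijective α₀ (Finite.injective_iff_bijective.1 hinj)
  have hα : ∀ A, α A = adT ζ (Matrix.SpecialLinearGroup.map σ A) := fun A => rfl
  have hαc : ∀ x : ℕ, α (dgHom (ζ ^ x)) = dgHom (ζ ^ (j * x)) := fun x => by
    rw [hα, map_dg, adT_dg, map_pow, hσζ, ← pow_mul]
  have hαw : α (weyl F) = dgHom ζ * weyl F := by rw [hα, map_weyl, adT_weyl]
  -- powers of the automorphism
  have hiter : ∀ (n : ℕ) (A : Matrix.SpecialLinearGroup (Fin 2) F),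
      α^[n] A = adT (ζ ^ ∑ i ∈ Finset.range n, j ^ i) ((Matrix.SpecialLinearGroup.map σ)^[n] A) := by
    intro n A
    induction n with
    | zero => simp [adT_one]
    | succ n ih =>
      rw [Function.iterate_succ_apply', ih, hα, map_adT, adT_adT, map_pow, hσζ, ← pow_mul,
        ← pow_succ', Function.iterate_succ_apply', geom_sum_succ]
  have hentry : ∀ (n : ℕ) (A : Matrix.SpecialLinearGroup (Fin 2) F) (p q : Fin 2),
      ((Matrix.SpecialLinearGroup.map σ)^[n] A).1 p q = (A.1 p q) ^ 5 ^ (e * n) := by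
    intro n A p q
    induction n with
    | zero => simp
    | succ n ih =>
      rw [Function.iterate_succ_apply', mul_add, mul_one, pow_add, pow_mul (A.1 p q), ← ih]
      exact hσ _
  have hjN : j ^ 2 ^ m ≡ 1 [MOD 2 ^ K] := by
    have hl' : (2 ^ k : ℤ) ∣ 2 * l - 2 * l * j := by
      have := Nat.modEq_iff_dvd.1 hl
      push_cast at this
      exact this
    have hg := geom_sum_mul (j : ℤ) (2 ^ m)
    have hS' : (2 ^ K : ℤ) ∣ 4 * l - ∑ i ∈ Finset.range (2 ^ m), (j : ℤ) ^ i := by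
      have := Nat.modEq_iff_dvd.1 hS
      push_cast at this
      exact this
    refine Nat.modEq_iff_dvd.2 ?_
    push_cast
    have h2 : (2 ^ K : ℤ) ∣ 2 * (2 * l - 2 * l * j) := by
      rcases hK with rfl | rfl
      · exact hl'.mul_left 2
      · rw [pow_succ']; exact mul_dvd_mul_left 2 hl'
    have h3 := dvd_add (hS'.mul_right ((j : ℤ) - 1)) h2
    rwa [show (4 * (l : ℤ) - ∑ i ∈ Finset.range (2 ^ m), (j : ℤ) ^ i) * (j - 1) +
      2 * (2 * l - 2 * l * j) = 1 - (j : ℤ) ^ 2 ^ m by linear_combination -hg] at h3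
  have hσN : ∀ A : Matrix.SpecialLinearGroup (Fin 2) F,
      (Matrix.SpecialLinearGroup.map σ)^[2 ^ m] A = A := by
    intro A
    have h5 : 5 ^ (e * 2 ^ m) ≡ 1 [MOD 2 ^ K] := by
      rw [pow_mul]; exact (he.pow _).trans hjN
    obtain ⟨u, hu⟩ := two_pow_dvd_of_five_pow K2 h5
    refine Matrix.SpecialLinearGroup.ext _ _ fun p q => ?_
    rw [hentry, hu, pow_mul, ← hq]
    exact FiniteField.pow_card_pow u _
  have hζS : ζ ^ (∑ i ∈ Finset.range (2 ^ m), j ^ i) = (ζ ^ (2 * l)) ^ 2 := by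
    rw [← pow_mul, pow_eq_pow_iff_modEq, hζ, show 2 * l * 2 = 4 * l by ring]
    exact hS
  -- the central subgroup
  let Z : Subgroup (Matrix.SpecialLinearGroup (Fin 2) F) := zpowers (dgHom (ζ ^ 2 ^ k))
  have hsq1 : (ζ ^ 2 ^ k) ^ 2 = 1 := by
    rw [← pow_mul, ← pow_succ, ← orderOf_dvd_iff_pow_eq_one, hζ]
    exact pow_dvd_pow 2 (by omega)
  haveI hZn : Z.Normal := by
    refine ⟨fun v hv A => ?_⟩
    obtain ⟨x, rfl⟩ := mem_zpowers_iff.1 hv
    have hcomm : Commute A (dgHom (ζ ^ 2 ^ k)) := by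
      have h := dg_conj (ζ ^ 2 ^ k) A
      rw [hsq1, adT_one, mul_inv_eq_iff_eq_mul] at h
      exact h.symm
    rw [(hcomm.zpow_right x).eq, mul_inv_cancel_right]
    exact hv
  have hαZ : Z.map α.toMonoidHom = Z := by
    rw [MonoidHom.map_zpowers]
    congr 1
    show α (dgHom (ζ ^ 2 ^ k)) = dgHom (ζ ^ 2 ^ k)
    rw [hαc, mul_comm, pow_mul]
    obtain ⟨u, rfl⟩ : Odd j := Nat.odd_iff.2 (by omega)
    rw [pow_succ (ζ ^ 2 ^ k) (2 * u), pow_mul, hsq1, one_pow, one_mul]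
  let αH : MulAut (Matrix.SpecialLinearGroup (Fin 2) F ⧸ Z) := QuotientGroup.congr Z Z α hαZ
  have hαH : ∀ A, αH (QuotientGroup.mk' Z A) = QuotientGroup.mk' Z (α A) := fun A => rfl
  set c := QuotientGroup.mk' Z (dgHom ζ) with hc
  set w := QuotientGroup.mk' Z (weyl F) with hw
  have hcpow : ∀ x : ℕ, c ^ x = QuotientGroup.mk' Z (dgHom (ζ ^ x)) := fun x => by
    rw [hc, ← map_pow, ← map_pow]
  have hord : orderOf c = 2 ^ k := by
    haveI : Fact (Nat.Prime 2) := ⟨Nat.prime_two⟩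
    obtain ⟨p, rfl⟩ : ∃ p, k = p + 1 := ⟨k - 1, by omega⟩
    refine orderOf_eq_prime_pow (fun h => ?_) ?_
    · rw [hcpow] at h
      obtain ⟨x, hx⟩ := mem_zpowers_iff.1 ((QuotientGroup.eq_one_iff _).1 h)
      rw [← map_zpow] at hx
      have h2 := dgHom_injective hx
      rw [← zpow_natCast, ← zpow_natCast ζ, ← zpow_mul, zpow_eq_zpow_iff_dvd hζ] at h2
      have h3 : (2 ^ (p + 1) : ℤ) ∣ ((2 ^ (p + 1) : ℕ) : ℤ) * x - ((2 ^ p : ℕ) : ℤ) :=
        (pow_dvd_pow 2 (by omega : p + 1 ≤ K)).trans h2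
      push_cast at h3
      have h4 : (2 ^ (p + 1) : ℤ) ∣ 2 ^ p := by
        have := dvd_sub (dvd_mul_right ((2 : ℤ) ^ (p + 1)) x) h3
        simpa using this
      have h5 : (2 : ℕ) ^ (p + 1) ∣ 2 ^ p := by exact_mod_cast h4
      exact absurd ((Nat.pow_dvd_pow_iff_le_right (by norm_num)).1 h5) (by omega)
    · rw [hcpow]
      exact (QuotientGroup.eq_one_iff _).2 (mem_zpowers _)
  have hh₀ : αH (c ^ (2 * l)) = c ^ (2 * l) := by
    rw [hcpow, hαH, hαc, ← hcpow, ← hcpow, pow_eq_pow_iff_modEq, hord, mul_comm]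
    exact hl
  have hiterH : ∀ (n : ℕ) A, αH^[n] (QuotientGroup.mk' Z A) = QuotientGroup.mk' Z (α^[n] A) := by
    intro n A
    induction n with
    | zero => rfl
    | succ n ih => rw [Function.iterate_succ_apply', Function.iterate_succ_apply', ih, hαH]
  have hαN : αH ^ 2 ^ m = MulAut.conj (c ^ (2 * l)) := by
    ext v
    obtain ⟨A, rfl⟩ := QuotientGroup.mk'_surjective Z v
    have hpow : ∀ (n : ℕ) z, (αH ^ n) z = αH^[n] z := by
      intro n z
      induction n with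
      | zero => rfl
      | succ n ih => rw [pow_succ', MulAut.mul_apply, ih, Function.iterate_succ_apply']
    rw [hpow, hiterH, hiter, hσN, hζS, ← dg_conj, map_mul, map_mul, map_inv, MulAut.conj_apply, hcpow]
  obtain ⟨G, hG, hGf, ι, s, ρ, hι, hconj, hpowN, hρι, hρs, hcard⟩ :=
    exists_extension (pow_pos two_pos m) αH (c ^ (2 * l)) hh₀ hαN
  have hneg : ζ ^ 2 ^ (K - 1) = -1 := by
    refine Units.ext ?_
    have h1 : ((ζ ^ 2 ^ (K - 1) : Fˣ) : F) * ((ζ ^ 2 ^ (K - 1) : Fˣ) : F) = 1 := by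
      rw [← Units.val_mul, ← pow_add, ← two_mul, ← pow_succ', Nat.sub_add_cancel (by omega), ← hζ,
        pow_orderOf_eq_one, Units.val_one]
    rcases mul_self_eq_one_iff.1 h1 with h2 | h2
    · exfalso
      have h3 : ζ ^ 2 ^ (K - 1) = 1 := Units.ext h2
      have h4 := orderOf_dvd_of_pow_eq_one h3
      rw [hζ] at h4
      have := (Nat.pow_dvd_pow_iff_le_right (by norm_num)).1 h4
      omega
    · rw [h2, Units.val_neg, Units.val_one]
  have hw2 : w ^ 2 = c ^ 2 ^ (K - 1) := by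
    rw [hw, ← map_pow, weyl_sq, hcpow, hneg]
  have hwc : IsConj w (c ^ 2 ^ (K - 2)) := by
    rw [hcpow]
    refine MonoidHom.map_isConj _ (weyl_isConj _ ?_ fun h2 => ?_)
    · rw [← pow_mul, ← pow_succ, show K - 2 + 1 = K - 1 by omega, hneg]
    · have h5 := (CharP.cast_eq_zero_iff F 5 2).1 (by exact_mod_cast h2)
      norm_num at h5
  refine ⟨G, hG, hGf, s, ι w, ι c, ⟨?_, ?_, ?_, ?_, ?_, ?_, ?_⟩, ?_, ?_⟩
  · rw [hconj, ← map_mul, hw, hαH, hαw, map_mul]
  · rw [hconj, ← map_pow, hcpow, hc, hαH]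
    have h := hαc 1
    rw [pow_one, mul_one] at h
    rw [h]
  · rw [← map_inv, ← map_mul, ← map_mul, ← map_inv, hw, hc, ← map_inv, ← map_mul, ← map_mul, weyl_conj,
      map_inv]
  · rw [← map_pow ι w, ← map_pow ι c, hw2]
  · rw [hpowN, map_pow]
  · rw [orderOf_injective ι hι, hord]
  · intro i f hif
    obtain ⟨x, hx⟩ := mem_zpowers_iff.1 hif
    have h1 := congrArg ρ hx
    rw [map_mul, map_zpow, map_zpow, map_zpow, hρι, hρι, _root_.one_zpow, _root_.one_zpow, mul_one, hρs,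
      ← ofAdd_zsmul] at h1
    have hi : ((2 ^ m : ℕ) : ℤ) ∣ i := by
      have h2 := (congrArg Multiplicative.toAdd h1).symm
      simp only [toAdd_ofAdd, toAdd_one, zsmul_one] at h2
      exact (ZMod.intCast_zmod_eq_zero_iff_dvd _ _).1 h2
    refine ⟨by exact_mod_cast hi, ?_⟩
    obtain ⟨q, rfl⟩ := hi
    rw [zpow_mul, zpow_natCast, hpowN, ← map_zpow ι c, ← map_zpow ι (c ^ (2 * l)), ← map_zpow ι w,
      ← map_mul] at hx
    have h3 := hι hx
    rcases Int.even_or_odd f with ⟨u, rfl⟩ | ⟨u, rfl⟩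
    · exact ⟨u, (two_mul u).symm⟩
    · exfalso
      have hmem : w ∈ zpowers c := by
        have e1 : (c ^ (2 * l)) ^ q * w ^ (2 * u + 1) ∈ zpowers c := h3 ▸ zpow_mem (mem_zpowers c) x
        rw [zpow_add, zpow_one, zpow_mul, zpow_two, ← pow_two, hw2, ← mul_assoc] at e1
        exact (mul_mem_cancel_left (mul_mem (zpow_mem (pow_mem (mem_zpowers c) _) q)
          (zpow_mem (pow_mem (mem_zpowers c) _) u))).1 e1
      obtain ⟨y, hy⟩ := mem_zpowers_iff.1 hmem
      rw [hc, hw, ← map_zpow] at hy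
      obtain ⟨v, hv⟩ := mem_zpowers_iff.1 (QuotientGroup.eq.1 hy)
      refine weyl_not_mem (F := F) ⟨ζ ^ y * (ζ ^ 2 ^ k) ^ v, ?_⟩
      rw [map_mul, map_zpow, map_zpow, hv, mul_inv_cancel_left]
  · rw [← map_pow]
    exact MonoidHom.map_isConj ι hwc
  · obtain ⟨⟨t, hto, ht⟩, u, huo, hu⟩ := five_pow_parts K2
    have h1 := Cfsg.Agent.Lib.Linear.card_SL_two (F := F)
    rw [hq, ht, hu, card_eq_card_quotient_mul_card_subgroup Z, Nat.card_zpowers,
      orderOf_injective dgHom dgHom_injective,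
      orderOf_pow_of_dvd (by positivity) (hζ ▸ pow_dvd_pow 2 (by omega)), hζ,
      Nat.pow_div (by omega) two_pos] at h1
    refine ⟨5 ^ 2 ^ (K - 2) * t * u, ((Odd.pow (by decide)).mul hto).mul huo, ?_⟩
    have hKk : 2 ^ (K + 1) = 2 ^ (k + 1) * 2 ^ (K - k) := by rw [← pow_add]; congr 1; omega
    have h2 : Nat.card (Matrix.SpecialLinearGroup (Fin 2) F ⧸ Z) =
        2 ^ (k + 1) * (5 ^ 2 ^ (K - 2) * t * u) := by
      refine Nat.eq_of_mul_eq_mul_right (pow_pos two_pos (K - k)) ?_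
      rw [h1, mul_right_comm (2 ^ (k + 1)), ← hKk, pow_succ]
      ring
    rw [hcard, h2, show m + k + 1 = m + (k + 1) by omega, pow_add]
    ring

end Cfsg.Agent.Lib.Bicyclic
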