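import Cfsg.Agent.Lib.Bicyclic.CyclicForm
import Cfsg.Agent.Lib.Bicyclic.CyclicModel
import Cfsg.Agent.Lib.Bicyclic.CyclicEmbedding
import Cfsg.Agent.Lib.MetacyclicChains.Pullback

/-!
Bicyclic nonmetacyclic 2-groups with cyclic derived subgroup support noninner saturated systems.
-/

set_option autoImplicit false
set_option linter.style.haveILetI false

namespace Cfsg.Agent.Lib.Bicyclic

open Cfsg Subgroup

theorem exists_noninner {Ω : Type*} [Group Ω] {S : Subgroup Ω} [Finite S] (hS : IsPGroup 2 S)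
    (hb : ∃ x y : ↥S, ∀ g : ↥S, ∃ i j : ℤ, g = x ^ i * y ^ j) (hm : ¬ Cfsg.IsMetacyclic ↥S)
    (hc : IsCyclic ↥(commutator ↥S)) :
    ∃ F : Cfsg.FusionSystem S, F.IsSaturated 2 ∧
      ¬ ∀ P : Subgroup Ω, F.Hom P = (Cfsg.innerFusionSystem S).Hom P := by
  obtain ⟨m, k, K, l, j, a, b, c, P, hX, hgen, hD⟩ := exists_crel hS hb hm hc
  obtain ⟨G, hG, hGf, A, B, C, hR, hconj, t, hto, hcard⟩ := exists_model P
  obtain ⟨f, hf, -, hfb, hfc⟩ := exists_embedding hX hR hgen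
  haveI : Fact (Nat.Prime 2) := ⟨Nat.prime_two⟩
  have hindex : ¬ 2 ∣ f.range.index := by
    obtain ⟨M, hM⟩ := IsPGroup.iff_card.1 hS
    have h1 : Nat.card f.range * f.range.index = 2 ^ (m + k + 1) * t := by
      rw [f.range.card_mul_index, hcard]
    rw [← Nat.card_congr (MonoidHom.ofInjective hf).toEquiv, hM] at h1
    have hge : m + k + 1 ≤ M := by
      have := hX.card_le
      rw [hM] at this
      exact (Nat.pow_le_pow_iff_right (by norm_num)).1 this
    obtain ⟨d, rfl⟩ := Nat.exists_eq_add_of_le hge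
    rw [pow_add, mul_assoc] at h1
    have h2 := Nat.eq_of_mul_eq_mul_left (by positivity) h1
    intro h
    have : 2 ∣ t := h2 ▸ h.mul_left _
    exact hto.not_two_dvd_nat this
  refine ⟨MetacyclicChains.pullback f hf,
    FS.isSaturated_of_realized (MetacyclicChains.realized f hf)
      ((hS.of_surjective f.rangeRestrict f.rangeRestrict_surjective).toSylow hindex) rfl, fun hall => ?_⟩
  obtain ⟨g, hg⟩ := isConj_iff.1 hconj
  have hP : zpowers (b : Ω) ≤ S := zpowers_le.2 b.2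
  have hmem : ∀ z : zpowers (b : Ω), g * f ⟨z, hP z.2⟩ * g⁻¹ ∈ f.range := by
    rintro ⟨z, hz⟩
    obtain ⟨i, rfl⟩ := mem_zpowers_iff.1 hz
    refine ⟨(c ^ 2 ^ (K - 2)) ^ i, ?_⟩
    rw [map_zpow, map_pow, hfc, ← hg, conj_zpow]
    congr 2
    rw [← hfb, ← map_zpow]
    rfl
  let f₁ : zpowers (b : Ω) →* f.range :=
    MonoidHom.codRestrict ((MulAut.conj g).toMonoidHom.comp (f.comp (Subgroup.inclusion hP))) f.range hmem
  let φ : zpowers (b : Ω) →* Ω :=
    S.subtype.comp ((MonoidHom.ofInjective hf).symm.toMonoidHom.comp f₁)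
  have hφ : φ ∈ (MetacyclicChains.pullback f hf).Hom (zpowers (b : Ω)) :=
    ⟨hP, fun z => SetLike.coe_mem _, g, fun z =>
      congrArg Subtype.val ((MonoidHom.ofInjective hf).apply_symm_apply (f₁ z))⟩
  have hval : φ ⟨b, mem_zpowers _⟩ = ((c ^ 2 ^ (K - 2) : S) : Ω) := by
    have he : (MonoidHom.ofInjective hf).symm (f₁ ⟨b, mem_zpowers _⟩) = c ^ 2 ^ (K - 2) := by
      rw [MulEquiv.symm_apply_eq]
      refine Subtype.ext ?_
      show g * f b * g⁻¹ = f (c ^ 2 ^ (K - 2))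
      rw [hfb, map_pow, hfc, hg]
    exact congrArg Subtype.val he
  rw [hall] at hφ
  obtain ⟨-, h, hh, heq⟩ := hφ
  have h1 := (hval.symm.trans (heq ⟨b, mem_zpowers _⟩))
  have h2 : c ^ 2 ^ (K - 2) = (⟨h, hh⟩ : S) * b * (⟨h, hh⟩ : S)⁻¹ := Subtype.ext h1
  have h3 : b ∈ commutator S := by
    have h4 : c ^ 2 ^ (K - 2) ∈ commutator S := hD ▸ pow_mem (mem_zpowers c) _
    have h5 := (inferInstance : (commutator S).Normal).conj_mem _ h4 (⟨h, hh⟩ : S)⁻¹
    rw [h2] at h5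
    simpa [mul_assoc] using h5
  have h6 := (hX.parity 0 1 (by rw [zpow_zero, one_mul, zpow_one, ← hD]; exact h3)).2
  norm_num at h6

end Cfsg.Agent.Lib.Bicyclic
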