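import Cfsg.Agent.Lib.Bicyclic.Structure

/-!
The derived subgroup of a bicyclic nonmetacyclic 2-group with noncyclic derived subgroup.
-/

set_option autoImplicit false
set_option linter.style.haveILetI false
set_option linter.unusedSectionVars false

namespace Cfsg.Agent.Lib.Bicyclic

open Subgroup
open scoped commutatorElement

variable {X : Type*} [Group X]

/-- An element commuting with both generators is central. -/
theorem commute_of_gens {Q : Type*} [Group Q] {s t : Q} (h : closure ({s, t} : Set Q) = ⊤) {q : Q}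
    (hs : Commute q s) (ht : Commute q t) (g : Q) : Commute q g := by
  have hg : g ∈ closure ({s, t} : Set Q) := h ▸ mem_top g
  induction hg using closure_induction with
  | mem x hx =>
    simp only [Set.mem_insert_iff, Set.mem_singleton_iff] at hx
    rcases hx with rfl | rfl <;> assumption
  | one => exact Commute.one_right q
  | mul x y _ _ hx hy => exact hx.mul_right hy
  | inv x _ hx => exact hx.inv_right

/-- The subgroup generated by two commuting elements. -/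
theorem exists_zpow_mul {Q : Type*} [Group Q] {u v x : Q} (h : Commute u v)
    (hx : x ∈ zpowers u ⊔ zpowers v) : ∃ i j : ℤ, u ^ i * v ^ j = x := by
  rw [zpowers_eq_closure, zpowers_eq_closure, ← Subgroup.closure_union] at hx
  induction hx using closure_induction with
  | mem x hx =>
    rcases hx with rfl | rfl
    · exact ⟨1, 0, by simp⟩
    · exact ⟨0, 1, by simp⟩
  | one => exact ⟨0, 0, by simp⟩
  | mul x y _ _ hx hy =>
    obtain ⟨q, l, rfl⟩ := hx
    obtain ⟨q', l', rfl⟩ := hy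
    exact ⟨q + q', l + l', by
      rw [zpow_add, zpow_add, mul_assoc (u ^ q), ← mul_assoc (u ^ q') (v ^ l),
        (h.zpow_zpow q' l).eq]; group⟩
  | inv x _ hx =>
    obtain ⟨q, l, rfl⟩ := hx
    exact ⟨-q, -l, by rw [mul_inv_rev, zpow_neg, zpow_neg, ← (h.zpow_zpow q l).inv_inv.eq]⟩

theorem gens_map {Q : Type*} [Group Q] (f : X →* Q) (hf : Function.Surjective f) {s t : X}
    (h : closure ({s, t} : Set X) = ⊤) : closure ({f s, f t} : Set Q) = ⊤ := by
  rw [← Set.image_pair, ← MonoidHom.map_closure, h, Subgroup.map_top_of_surjective _ hf]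

/-- A commutator commuting with `s` and of order two makes `s ^ 2` commute. -/
theorem commute_sq {Q : Type*} [Group Q] {s v : Q} (h1 : ⁅s, v⁆ ^ 2 = 1) (h2 : Commute ⁅s, v⁆ s) :
    Commute (s ^ 2) v := by
  have e1 : s * v * s⁻¹ = ⁅s, v⁆ * v := by rw [commutatorElement_def, inv_mul_cancel_right]
  have e2 : s * ⁅s, v⁆ * s⁻¹ = ⁅s, v⁆ := by rw [← h2.eq, mul_inv_cancel_right]
  have e3 : s ^ 2 * v * (s ^ 2)⁻¹ = v := by
    calc s ^ 2 * v * (s ^ 2)⁻¹ = s * (s * v * s⁻¹) * s⁻¹ := by rw [pow_two]; group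
      _ = s * ⁅s, v⁆ * s⁻¹ * (s * v * s⁻¹) := by rw [e1]; group
      _ = v := by rw [e2, e1, ← mul_assoc, ← pow_two, h1, one_mul]
  exact mul_inv_eq_iff_eq_mul.1 e3

/-- Bicyclic nonmetacyclic 2-groups with noncyclic derived subgroup. -/
structure NData (X : Type*) [Group X] extends Data X where
  isTwo : IsPGroup 2 X
  comm : ∀ u ∈ commutator X, ∀ v ∈ commutator X, u * v = v * u
  ncyc : ¬ IsCyclic (commutator X)

theorem exists_ndata [Finite X] (hX : IsPGroup 2 X)
    (hb : ∃ x y : X, ∀ g : X, ∃ i j : ℤ, g = x ^ i * y ^ j) (hm : ¬ Cfsg.IsMetacyclic X)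
    (hc : ¬ IsCyclic (commutator X)) : Nonempty (NData X) := by
  obtain ⟨S⟩ := exists_data hX hb hm
  obtain ⟨x, y, h⟩ := hb
  exact ⟨{ toData := S, isTwo := hX, comm := commutator_comm h, ncyc := hc }⟩

namespace NData

variable (S : NData X)

/-- The commutator of the generators. -/
def c : X := ⁅S.a, S.b⁆

/-- The power of `a` in the derived subgroup. -/
def t : X := S.a ^ 2 ^ S.m

/-- The commutator of `a` with `c`. -/
def τ : X := ⁅S.a, S.c⁆

theorem c_mem : S.c ∈ commutator X := commutator_mem_commutator (mem_top _) (mem_top _)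

theorem t_mem : S.t ∈ commutator X := dK_le S.pow_a

theorem τ_mem : S.τ ∈ commutator X := commutator_mem_commutator (mem_top _) (mem_top _)

theorem a_commute_t : Commute S.a S.t := Commute.self_pow _ _

theorem sq_one {N : Subgroup X} [N.Normal] (hN : dSq X ≤ N) {d : X} (hd : d ∈ commutator X) :
    (d : X ⧸ N) ^ 2 = 1 :=
  (QuotientGroup.eq_one_iff (d ^ 2)).2 (hN (sq_mem_dSq hd))

theorem sq_b_mem : S.b ^ 2 ∈ dK X := S.sq_b

theorem step_le [Finite X] :
    ⁅⁅commutator X, (⊤ : Subgroup X)⁆, (⊤ : Subgroup X)⁆ ≤ dSq X ∧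
      commutator X ≤ zpowers S.t ⊔ (zpowers S.c ⊔ dSq X) ∧ dK X ≤ zpowers S.t ⊔ dSq X := by
  classical
  set D := commutator X with hD
  set A1 := ⁅D, (⊤ : Subgroup X)⁆ with hA1
  set A2 := ⁅A1, (⊤ : Subgroup X)⁆ with hA2
  have hA1D : A1 ≤ D := commutator_le_left _ _
  have hA21 : A2 ≤ A1 := commutator_le_left _ _
  set N := A2 ⊔ dSq X with hN
  have hNK : N ≤ dK X := sup_le (hA21.trans le_sup_left) le_sup_right
  -- in the quotient by `N`, `a ^ 2` centralises the derived subgroup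
  have hcomm2 : ∀ v ∈ D, Commute ((S.a : X ⧸ N) ^ 2) (v : X ⧸ N) := by
    intro v hv
    refine commute_sq ?_ ?_
    · exact sq_one le_sup_right (commutator_mem_commutator (mem_top S.a) (mem_top v))
    · rw [Commute, SemiconjBy, ← commutatorElement_eq_one_iff_mul_comm]
      refine (QuotientGroup.eq_one_iff ⁅⁅S.a, v⁆, S.a⁆).2 (mem_sup_left ?_)
      refine commutator_mem_commutator ?_ (mem_top _)
      rw [← commutatorElement_inv v S.a]
      exact inv_mem (commutator_mem_commutator hv (mem_top _))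
  set w := S.c * S.b ^ 2 with hw
  have hwD : w ∈ D := mul_mem S.c_mem (dK_le S.sq_b)
  haveI hcommQ : IsMulCommutative (X ⧸ D) := Normal.quotient_commutative_iff_commutator_le.2 le_rfl
  have hD1 : D ≤ zpowers S.t ⊔ (zpowers w ⊔ N) := by
    intro v hv
    obtain ⟨i, j, hij⟩ := S.prod v
    have hpar : S.a ^ (i - j) * S.b ^ j ∈ D := by
      refine (QuotientGroup.eq_one_iff _).1 ?_
      have h1 : ((S.a ^ i * (S.a⁻¹ * S.b) ^ j : X) : X ⧸ D) = 1 :=
        (QuotientGroup.eq_one_iff _).2 (hij ▸ hv)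
      rw [← h1]
      simp only [QuotientGroup.mk_mul, QuotientGroup.mk_zpow, QuotientGroup.mk_inv]
      rw [Commute.mul_zpow (IsMulCommutative.is_comm.comm _ _), inv_zpow, zpow_sub]
      group
    obtain ⟨⟨q, hq⟩, l, hl⟩ := S.parity _ _ hpar
    have hY : ((S.a⁻¹ * S.b : X) : X ⧸ N) ^ (2 : ℤ) = ((S.a : X ⧸ N) ^ 2)⁻¹ * (w : X ⧸ N) := by
      rw [hw, zpow_two, c]
      simp only [QuotientGroup.mk_mul, QuotientGroup.mk_inv, QuotientGroup.mk_pow]
      have : ((⁅S.a, S.b⁆ : X) : X ⧸ N) =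
          (S.a : X ⧸ N) * (S.b : X ⧸ N) * (S.a : X ⧸ N)⁻¹ * (S.b : X ⧸ N)⁻¹ := rfl
      rw [this, pow_two, pow_two]; group
    have hv' : (v : X ⧸ N) = (S.t : X ⧸ N) ^ q * (w : X ⧸ N) ^ l := by
      rw [hij, QuotientGroup.mk_mul, QuotientGroup.mk_zpow, QuotientGroup.mk_zpow, hl, zpow_mul _ 2 l,
        hY, ((hcomm2 w hwD).inv_left).mul_zpow, t, QuotientGroup.mk_pow, ← mul_assoc]
      congr 1
      rw [← zpow_natCast, ← zpow_natCast, ← zpow_neg, ← zpow_mul, ← zpow_mul, ← zpow_add]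
      congr 1
      push_cast
      rw [show i = (i - j) + j by ring, hq, hl]
      ring
    have h2 : (S.t ^ q * w ^ l)⁻¹ * v ∈ N := by
      refine QuotientGroup.eq.1 ?_
      rw [hv', QuotientGroup.mk_mul, QuotientGroup.mk_zpow, QuotientGroup.mk_zpow]
    have h3 := mul_mem (mul_mem (mem_sup_left (zpow_mem (mem_zpowers S.t) q))
      (mem_sup_right (mem_sup_left (zpow_mem (mem_zpowers w) l))))
      (mem_sup_right (mem_sup_right h2) : (S.t ^ q * w ^ l)⁻¹ * v ∈ zpowers S.t ⊔ (zpowers w ⊔ N))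
    rwa [mul_inv_cancel_left] at h3
  have hA1t : A1 ≤ zpowers S.t ⊔ N := by
    intro v hv
    obtain ⟨p, hp, r, hr, hpr⟩ := mem_sup_of_normal_right.1
      (show v ∈ (zpowers S.t ⊔ zpowers w) ⊔ N by rw [sup_assoc]; exact hD1 (hA1D hv))
    obtain ⟨q, l, rfl⟩ := exists_zpow_mul (S.comm _ S.t_mem _ hwD) hp
    rcases Int.even_or_odd l with ⟨k, rfl⟩ | ⟨k, rfl⟩
    · rw [← hpr]
      refine mul_mem (mul_mem (mem_sup_left (zpow_mem (mem_zpowers _) q)) (mem_sup_right ?_))
        (mem_sup_right hr)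
      rw [← two_mul, zpow_mul, zpow_two, ← pow_two]
      exact zpow_mem (mem_sup_right (sq_mem_dSq hwD)) k
    · exfalso
      have h1 : S.t ^ q * w ^ (2 * k + 1) ∈ dK X := by
        rw [← mul_inv_cancel_right (S.t ^ q * w ^ (2 * k + 1)) r, hpr]
        exact mul_mem (mem_sup_left hv) (inv_mem (hNK hr))
      have h2 : w ^ (2 * k + 1) ∈ dK X := (mul_mem_cancel_left (zpow_mem S.pow_a q)).1 h1
      rw [zpow_add, zpow_one, zpow_mul, zpow_two, ← pow_two] at h2
      have h3 : w ∈ dK X := (mul_mem_cancel_left (zpow_mem (sq_mem_dK hwD) k)).1 h2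
      rw [hw, mul_mem_cancel_right S.sq_b] at h3
      exact S.not_mem h3
  -- one step further down
  set N3 := ⁅A2, (⊤ : Subgroup X)⁆ ⊔ dSq X with hN3
  have hA2c : ∀ v ∈ A2, ∀ g : X, Commute (v : X ⧸ N3) (g : X ⧸ N3) := fun v hv g => by
    rw [Commute, SemiconjBy, ← commutatorElement_eq_one_iff_mul_comm]
    exact (QuotientGroup.eq_one_iff ⁅v, g⁆).2 (mem_sup_left (commutator_mem_commutator hv (mem_top g)))
  have hA1sq : ∀ v ∈ A1, Commute ((S.a : X ⧸ N3) ^ 2) (v : X ⧸ N3) := by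
    intro v hv
    refine commute_sq ?_ ?_
    · exact sq_one le_sup_right (commutator_mem_commutator (mem_top S.a) (mem_top v))
    · refine hA2c ⁅S.a, v⁆ ?_ S.a
      rw [← commutatorElement_inv v S.a]
      exact inv_mem (commutator_mem_commutator hv (mem_top _))
  have ht : ∀ g : X, Commute (S.t : X ⧸ N3) (g : X ⧸ N3) := by
    intro g
    refine commute_of_gens (gens_map (QuotientGroup.mk' N3) (QuotientGroup.mk'_surjective _) S.gen)
      ?_ ?_ _
    · show Commute (S.t : X ⧸ N3) (S.a : X ⧸ N3)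
      rw [t, QuotientGroup.mk_pow]
      exact (Commute.refl _).pow_left _
    · show Commute (S.t : X ⧸ N3) (S.b : X ⧸ N3)
      set e := ⁅S.a ^ 2, S.b⁆ with he
      have he1 : e = ⁅S.a, S.c⁆ * S.c ^ 2 := by
        rw [he, c]; simp only [commutatorElement_def, pow_two]; group
      have heq : (e : X ⧸ N3) = ((⁅S.a, S.c⁆ : X) : X ⧸ N3) := by
        rw [he1, QuotientGroup.mk_mul, (QuotientGroup.eq_one_iff (S.c ^ 2)).2
          (mem_sup_right (sq_mem_dSq S.c_mem)), mul_one]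
      have hce : Commute ((S.a : X ⧸ N3) ^ 2) (e : X ⧸ N3) := by
        rw [heq]
        refine hA1sq _ ?_
        rw [← commutatorElement_inv S.c S.a]
        exact inv_mem (commutator_mem_commutator S.c_mem (mem_top _))
      have h4 : Commute (((S.a : X ⧸ N3) ^ 2) ^ 2) (S.b : X ⧸ N3) := by
        refine commute_sq ?_ ?_
        · rw [show ⁅((S.a : X ⧸ N3) ^ 2), (S.b : X ⧸ N3)⁆ = (e : X ⧸ N3) from rfl, heq]
          exact sq_one le_sup_right S.τ_mem
        · rw [show ⁅((S.a : X ⧸ N3) ^ 2), (S.b : X ⧸ N3)⁆ = (e : X ⧸ N3) from rfl]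
          exact hce.symm
      rw [t, QuotientGroup.mk_pow, ← Nat.sub_add_cancel S.two_le, pow_add, mul_comm, pow_mul,
        show (2 : ℕ) ^ 2 = 2 * 2 from rfl, pow_mul]
      exact h4.pow_left _
  have hA2le : A2 ≤ N3 := by
    refine commutator_le.2 fun v hv g _ => ?_
    obtain ⟨p, hp, r, hr, rfl⟩ := mem_sup_of_normal_right.1 (hA1t hv)
    obtain ⟨q, rfl⟩ := mem_zpowers_iff.1 hp
    obtain ⟨r1, hr1, r2, hr2, rfl⟩ := mem_sup_of_normal_right.1 hr
    refine (QuotientGroup.eq_one_iff _).1 ?_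
    have hc : Commute ((S.t ^ q * (r1 * r2) : X) : X ⧸ N3) (g : X ⧸ N3) := by
      rw [QuotientGroup.mk_mul, QuotientGroup.mk_mul, QuotientGroup.mk_zpow,
        (QuotientGroup.eq_one_iff r2).2 (mem_sup_right hr2), mul_one]
      exact ((ht g).zpow_left q).mul_left (hA2c r1 hr1 g)
    rw [Commute, SemiconjBy, ← commutatorElement_eq_one_iff_mul_comm] at hc
    exact hc
  have hA2S : A2 ≤ dSq X := by
    let π := QuotientGroup.mk' (dSq X)
    haveI : Group.IsNilpotent (X ⧸ dSq X) := (S.isTwo.to_quotient (dSq X)).isNilpotent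
    have h : A2.map π ≤ ⁅A2.map π, (⊤ : Subgroup (X ⧸ dSq X))⁆ := by
      rw [← Subgroup.map_top_of_surjective π (QuotientGroup.mk'_surjective _), ← map_commutator]
      refine (map_mono hA2le).trans ?_
      rw [hN3, Subgroup.map_sup]
      refine sup_le le_rfl ?_
      rintro _ ⟨s, hs, rfl⟩
      rw [show π s = 1 from (QuotientGroup.eq_one_iff s).2 hs]
      exact one_mem _
    have h0 := eq_bot_of_le_commutator h
    intro x hx
    have : π x ∈ A2.map π := mem_map_of_mem π hx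
    rw [h0, mem_bot] at this
    exact (QuotientGroup.eq_one_iff x).1 this
  have hNS : N ≤ dSq X := sup_le hA2S le_rfl
  have hK : dK X ≤ zpowers S.t ⊔ dSq X :=
    sup_le (hA1t.trans (sup_le_sup_left hNS _)) le_sup_right
  refine ⟨hA2S, hD1.trans (sup_le le_sup_left (sup_le ?_ ?_)), hK⟩
  · rw [zpowers_le, hw]
    refine mul_mem (mem_sup_right (mem_sup_left (mem_zpowers _))) ?_
    exact (show zpowers S.t ⊔ dSq X ≤ zpowers S.t ⊔ (zpowers S.c ⊔ dSq X) from
      sup_le_sup_left le_sup_right _) (hK S.sq_b)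
  · exact (hNS.trans le_sup_right).trans le_sup_right

theorem exists_sq (S : NData X) {v : X} (hv : v ∈ dSq X) : ∃ e ∈ commutator X, v = e ^ 2 := by
  induction hv using closure_induction with
  | mem x hx => obtain ⟨d, hd, rfl⟩ := hx; exact ⟨d, hd, rfl⟩
  | one => exact ⟨1, one_mem _, by simp⟩
  | mul x y _ _ hx hy =>
    obtain ⟨e, he, rfl⟩ := hx
    obtain ⟨f, hf, rfl⟩ := hy
    exact ⟨e * f, mul_mem he hf, by rw [(show Commute e f from S.comm e he f hf).mul_pow]⟩
  | inv x _ hx =>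
    obtain ⟨e, he, rfl⟩ := hx
    exact ⟨e⁻¹, inv_mem he, by rw [inv_pow]⟩

/-- `D = ⟨c, t⟩` modulo squares, as products of powers. -/
theorem exists_mod [Finite X] {v : X} (hv : v ∈ commutator X) :
    ∃ i q : ℤ, ∃ e ∈ commutator X, v = S.c ^ i * S.t ^ q * e ^ 2 := by
  have hv' : v ∈ (zpowers S.c ⊔ zpowers S.t) ⊔ dSq X := by
    rw [sup_comm (zpowers S.c), sup_assoc]; exact S.step_le.2.1 hv
  obtain ⟨p, hp, r, hr, rfl⟩ := mem_sup_of_normal_right.1 hv'
  obtain ⟨i, q, rfl⟩ := exists_zpow_mul (S.comm _ S.c_mem _ S.t_mem) hp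
  obtain ⟨e, he, rfl⟩ := S.exists_sq hr
  exact ⟨i, q, e, he, rfl⟩

theorem gen_D [Finite X] : commutator X = zpowers S.c ⊔ zpowers S.t := by
  refine le_antisymm ?_ (sup_le (zpowers_le.2 S.c_mem) (zpowers_le.2 S.t_mem))
  set D := commutator X with hD
  set U : Subgroup D := (zpowers S.c ⊔ zpowers S.t).subgroupOf D with hU
  have hfr : U ⊔ frattini D = ⊤ := by
    refine eq_top_iff.2 fun d _ => ?_
    obtain ⟨i, q, e, he, heq⟩ := S.exists_mod d.2
    have : d = ⟨S.c ^ i * S.t ^ q, mul_mem (zpow_mem S.c_mem i) (zpow_mem S.t_mem q)⟩ * ⟨e, he⟩ ^ 2 :=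
      Subtype.ext heq
    rw [this]
    exact mul_mem (mem_sup_left (mem_subgroupOf.2 (mul_mem (mem_sup_left (zpow_mem (mem_zpowers _) _))
      (mem_sup_right (zpow_mem (mem_zpowers _) _)))))
      (mem_sup_right (PGroups.pow_mem_frattini (S.isTwo.to_subgroup D) _))
  have hU1 : U = ⊤ := frattini_nongenerating hfr
  intro d hd
  have h2 : (⟨d, hd⟩ : D) ∈ U := hU1 ▸ mem_top _
  exact mem_subgroupOf.1 h2

theorem exists_ct [Finite X] {v : X} (hv : v ∈ commutator X) :
    ∃ i q : ℤ, S.c ^ i * S.t ^ q = v :=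
  exists_zpow_mul (S.comm _ S.c_mem _ S.t_mem) (S.gen_D ▸ hv)

theorem dK_central (S : NData X) [Finite X] {v : X} (hv : v ∈ dK X) (g : X) :
    Commute (v : X ⧸ dSq X) (g : X ⧸ dSq X) := by
  obtain ⟨p, hp, r, hr, rfl⟩ := mem_sup_of_normal_right.1 hv
  rw [QuotientGroup.mk_mul, (QuotientGroup.eq_one_iff r).2 hr, mul_one]
  refine commutatorElement_eq_one_iff_mul_comm.1 ((QuotientGroup.eq_one_iff ⁅p, g⁆).2 ?_)
  exact S.step_le.1 (commutator_mem_commutator hp (mem_top g))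

theorem c_not_mem [Finite X] : S.c ∉ zpowers S.t ⊔ dSq X := fun h =>
  S.not_mem (sup_le (zpowers_le.2 S.pow_a) le_sup_right h)

theorem t_not_mem [Finite X] : S.t ∉ dSq X := by
  intro h
  refine S.ncyc ?_
  set D := commutator X with hD
  set U : Subgroup D := (zpowers S.c).subgroupOf D with hU
  have hfr : U ⊔ frattini D = ⊤ := by
    refine eq_top_iff.2 fun d _ => ?_
    obtain ⟨i, q, e, he, heq⟩ := S.exists_mod d.2
    obtain ⟨f, hf, htf⟩ := S.exists_sq h
    have : d = (⟨S.c, S.c_mem⟩ : D) ^ i * (((⟨f, hf⟩ : D) ^ 2) ^ q * (⟨e, he⟩ : D) ^ 2) := by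
      apply Subtype.ext
      simp only [Subgroup.coe_mul, SubgroupClass.coe_zpow, SubmonoidClass.coe_pow]
      rw [heq, mul_assoc, htf]
    rw [this]
    have h1 : (⟨S.c, S.c_mem⟩ : D) ∈ U := mem_subgroupOf.2 (mem_zpowers S.c)
    have h2 : (⟨f, hf⟩ : D) ^ 2 ∈ frattini D :=
      PGroups.pow_mem_frattini (S.isTwo.to_subgroup D) (⟨f, hf⟩ : D)
    have h3 : (⟨e, he⟩ : D) ^ 2 ∈ frattini D :=
      PGroups.pow_mem_frattini (S.isTwo.to_subgroup D) (⟨e, he⟩ : D)
    exact mul_mem (mem_sup_left (zpow_mem h1 i)) (mem_sup_right (mul_mem (zpow_mem h2 q) h3))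
  have hU1 : U = ⊤ := frattini_nongenerating hfr
  refine ⟨⟨⟨S.c, S.c_mem⟩, fun d => ?_⟩⟩
  obtain ⟨i, hi⟩ := mem_zpowers_iff.1 (mem_subgroupOf.1 (hU1 ▸ mem_top d : d ∈ U))
  exact ⟨i, Subtype.ext hi⟩

/-- `b` centralises `D` modulo squares. -/
theorem bc_mem [Finite X] : ⁅S.b, S.c⁆ ∈ dSq X := by
  refine (QuotientGroup.eq_one_iff _).1 ?_
  have hb2 : Commute ((S.b ^ 2 : X) : X ⧸ dSq X) (S.a : X ⧸ dSq X) := S.dK_central S.sq_b S.a
  have h1 : ((⁅S.a, S.b ^ 2⁆ : X) : X ⧸ dSq X) = 1 := commutatorElement_eq_one_iff_mul_comm.2 hb2.symm.eq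
  have h2 : ⁅S.a, S.b ^ 2⁆ = S.c * (⁅S.b, S.c⁆ * S.c) := by
    rw [c]; simp only [commutatorElement_def, pow_two]; group
  have h3 : S.c * (⁅S.b, S.c⁆ * S.c) = ⁅S.b, S.c⁆ * S.c ^ 2 := by
    rw [← mul_assoc, S.comm S.c S.c_mem _ (commutator_mem_commutator (mem_top S.b) (mem_top S.c)),
      mul_assoc, pow_two]
  rwa [h2, h3, QuotientGroup.mk_mul, sq_one le_rfl S.c_mem |> (fun h => (QuotientGroup.mk_pow _ S.c 2).trans h),
    mul_one] at h1

/-- The commutator of `a` and `c` agrees with `t` modulo squares. -/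
theorem exists_τ [Finite X] : ∃ e ∈ commutator X, S.τ = S.t * e ^ 2 := by
  have hA1 : S.τ ∈ dK X := by
    rw [τ, ← commutatorElement_inv S.c S.a]
    exact inv_mem (comm_mem_dK S.c_mem _)
  obtain ⟨p, hp, r, hr, hpr⟩ := mem_sup_of_normal_right.1 (S.step_le.2.2 hA1)
  obtain ⟨q, rfl⟩ := mem_zpowers_iff.1 hp
  obtain ⟨e, he, rfl⟩ := S.exists_sq hr
  rcases Int.even_or_odd q with ⟨k, rfl⟩ | ⟨k, rfl⟩
  · exfalso
    refine S.t_not_mem ?_
    have hτ : S.τ ∈ dSq X := by
      rw [← hpr, ← two_mul, zpow_mul, zpow_two, ← pow_two]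
      exact mul_mem (zpow_mem (sq_mem_dSq S.t_mem) k) (sq_mem_dSq he)
    -- then `c` and `t` are central modulo squares
    have hA : ⁅commutator X, (⊤ : Subgroup X)⁆ ≤ dSq X := by
      refine commutator_le.2 fun v hv g _ => ?_
      refine (QuotientGroup.eq_one_iff ⁅v, g⁆).1 ?_
      show ⁅(v : X ⧸ dSq X), (g : X ⧸ dSq X)⁆ = 1
      refine commutatorElement_eq_one_iff_mul_comm.2 ?_
      obtain ⟨i, j, rfl⟩ := S.exists_ct hv
      have hπ := gens_map (QuotientGroup.mk' (dSq X)) (QuotientGroup.mk'_surjective _) S.gen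
      have hcc : Commute (S.c : X ⧸ dSq X) (g : X ⧸ dSq X) := by
        refine commute_of_gens hπ (Commute.symm ?_) (Commute.symm ?_) _
        · exact commutatorElement_eq_one_iff_mul_comm.1 ((QuotientGroup.eq_one_iff ⁅S.a, S.c⁆).2 hτ)
        · exact commutatorElement_eq_one_iff_mul_comm.1 ((QuotientGroup.eq_one_iff ⁅S.b, S.c⁆).2 S.bc_mem)
      have htc : Commute (S.t : X ⧸ dSq X) (g : X ⧸ dSq X) := S.dK_central S.pow_a g
      rw [QuotientGroup.mk_mul, QuotientGroup.mk_zpow, QuotientGroup.mk_zpow]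
      exact ((hcc.zpow_left i).mul_left (htc.zpow_left j)).eq
    exact sup_le hA le_rfl S.pow_a
  · refine ⟨S.t ^ k * e, mul_mem (zpow_mem S.t_mem k) he, ?_⟩
    rw [← hpr, (show Commute (S.t ^ k) e from S.comm _ (zpow_mem S.t_mem k) _ he).mul_pow,
      ← mul_assoc, zpow_add, zpow_one, zpow_mul, zpow_two, ← pow_two, ← zpow_natCast S.t 2,
      ← zpow_natCast (S.t ^ k) 2, ← zpow_mul, ← zpow_mul, mul_comm k, ← zpow_one_add, ← zpow_add_one,
      add_comm]

end NData

end Cfsg.Agent.Lib.Bicyclic
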