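import Cfsg.Agent.Lib.CharP.StronglyEmb

/-!
No group of automorphisms of `E₈` has a strongly embedded subgroup containing a transvection together
with 2-elements which permute transitively the points outside its axis.
-/

set_option autoImplicit false
set_option linter.style.haveILetI false

namespace Cfsg.Agent.Lib.Bicyclic

open Cfsg

variable {G : Type*} [Group G] [Finite G] {V : Type*} [Group V]

/-- `e` is a transvection with centre `p` and axis `W`. -/
structure IsTransv (e : MulAut V) (W : Subgroup V) (p : V) : Prop where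
  fix : ∀ v ∈ W, e v = v
  move : ∀ v, v ∉ W → e v = v * p
  mem : p ∈ W

namespace IsTransv

variable {e e' : MulAut V} {W W' : Subgroup V} {p p' : V}

theorem cases (h : IsTransv e W p) (v : V) : e v = v ∨ e v = v * p := by
  by_cases hv : v ∈ W
  · exact Or.inl (h.fix v hv)
  · exact Or.inr (h.move v hv)

theorem sq (hV : ∀ v : V, v * v = 1) (h : IsTransv e W p) : e * e = 1 := by
  refine MulEquiv.ext fun v => ?_
  rw [MulAut.mul_apply, MulAut.one_apply]
  by_cases hv : v ∈ W
  · rw [h.fix v hv, h.fix v hv]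
  · rw [h.move v hv, map_mul, h.move v hv, h.fix p h.mem, mul_assoc, hV, mul_one]

theorem conj (h : IsTransv e W p) (φ : MulAut V) :
    IsTransv (φ * e * φ⁻¹) (W.map φ.toMonoidHom) (φ p) := by
  refine ⟨?_, fun v hv => ?_, ⟨p, h.mem, rfl⟩⟩
  · rintro _ ⟨w, hw, rfl⟩
    show φ (e (φ⁻¹ (φ w))) = φ w
    rw [MulAut.inv_apply_self, h.fix w hw]
  · obtain ⟨u, rfl⟩ := φ.surjective v
    show φ (e (φ⁻¹ (φ u))) = φ u * φ p
    rw [MulAut.inv_apply_self, h.move u (fun hu => hv ⟨u, hu, rfl⟩), map_mul]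

theorem pow_four (hV : ∀ v : V, v * v = 1) (h : IsTransv e W p) (h' : IsTransv e' W' p')
    (hp : p' ∈ W) : (e * e') ^ 4 = 1 := by
  have hc : ∀ u v : V, u * v = v * u := fun u v => by
    have h1 := hV (u * v)
    calc u * v = (u * v)⁻¹ := eq_inv_of_mul_eq_one_left h1
      _ = v⁻¹ * u⁻¹ := mul_inv_rev u v
      _ = v * u := by rw [inv_eq_of_mul_eq_one_right (hV v), inv_eq_of_mul_eq_one_right (hV u)]
  set g := e * e' with hg
  have gp' : g p' = p' := by rw [hg, MulAut.mul_apply, h'.fix p' h'.mem, h.fix p' hp]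
  have gp : g p = p ∨ g p = p * p' := by
    rw [hg, MulAut.mul_apply]
    rcases h'.cases p with hq | hq <;> rw [hq]
    · exact Or.inl (h.fix p h.mem)
    · exact Or.inr (by rw [map_mul, h.fix p h.mem, h.fix p' hp])
  have gv : ∀ v, g v = v ∨ g v = v * p ∨ g v = v * p' ∨ g v = v * (p * p') := by
    intro v
    rw [hg, MulAut.mul_apply]
    rcases h'.cases v with hq | hq <;> rw [hq]
    · rcases h.cases v with hr | hr <;> rw [hr] <;> simp
    · rw [map_mul, h.fix p' hp]
      rcases h.cases v with hr | hr <;> rw [hr]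
      · simp
      · exact Or.inr (Or.inr (Or.inr (by rw [mul_assoc])))
  have g2 : ∀ v, (g * g) v = v ∨ (g * g) v = v * p' := by
    intro v
    rw [MulAut.mul_apply]
    rcases gv v with hq | hq | hq | hq <;> rw [hq]
    · exact Or.inl hq
    · rw [map_mul, hq]
      rcases gp with hr | hr <;> rw [hr]
      · exact Or.inl (by rw [mul_assoc, hV, mul_one])
      · exact Or.inr (by rw [mul_assoc v, ← mul_assoc p, hV, one_mul])
    · rw [map_mul, hq, gp']
      exact Or.inl (by rw [mul_assoc, hV, mul_one])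
    · rw [map_mul, hq, map_mul, gp']
      rcases gp with hr | hr <;> rw [hr]
      · exact Or.inl (by rw [mul_assoc, hV, mul_one])
      · exact Or.inr (by rw [mul_assoc v, mul_assoc p p' p', hV, mul_one, hc p p', mul_assoc p' p p,
          hV, mul_one])
  refine MulEquiv.ext fun v => ?_
  rw [show (4 : ℕ) = 2 * 2 from rfl, pow_mul, pow_two, pow_two, MulAut.mul_apply, MulAut.one_apply]
  have gg : (g * g) p' = p' := by rw [MulAut.mul_apply, gp', gp']
  rcases g2 v with hq | hq <;> rw [hq]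
  · exact hq
  · rw [map_mul, hq, gg, mul_assoc, hV, mul_one]

end IsTransv

/-- Two involutions generating a dihedral group of order dividing eight lie together in a strongly
embedded subgroup. -/
theorem mem_of_pow_four {H : Subgroup G} (hH : IsStronglyPEmbedded 2 H) {x y : G} (hx : x ∈ H)
    (hx1 : x ≠ 1) (hx2 : x * x = 1) (hy2 : y * y = 1) (h4 : (x * y) ^ 4 = 1) : y ∈ H := by
  have hxi : x⁻¹ = x := inv_eq_of_mul_eq_one_right hx2
  have hyi : y⁻¹ = y := inv_eq_of_mul_eq_one_right hy2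
  have key : ∀ u g : G, u ∈ H → u ≠ 1 → u * u = 1 → Commute g u → g ∈ H := by
    intro u g hu hu1 hu2 hg
    refine CharP.SE.mem_of_conj_mem hH hu hu1 (n := 1) (by rw [pow_one, pow_two, hu2]) ?_
    rwa [hg.eq, mul_inv_cancel_right]
  set f := (x * y) ^ 2 with hf
  have hf2 : f * f = 1 := by rw [hf, ← pow_add]; exact h4
  have hfi : f⁻¹ = f := inv_eq_of_mul_eq_one_right hf2
  have hfx : x * f * x⁻¹ = f := by
    calc x * f * x⁻¹ = (x * (x * y) * x⁻¹) ^ 2 := conj_pow.symm
      _ = ((x * y)⁻¹) ^ 2 := by rw [mul_inv_rev, hxi, hyi, ← mul_assoc, hx2, one_mul]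
      _ = f := by rw [inv_pow, ← hf, hfi]
  have hfy : y * f * y⁻¹ = f := by
    calc y * f * y⁻¹ = (y * (x * y) * y⁻¹) ^ 2 := conj_pow.symm
      _ = ((x * y)⁻¹) ^ 2 := by
          rw [mul_inv_rev, hxi, hyi, mul_assoc y, mul_assoc x y y, hy2, mul_one]
      _ = f := by rw [inv_pow, ← hf, hfi]
  by_cases hf1 : f = 1
  · refine key x y hx hx1 hx2 ?_
    rw [hf, pow_two] at hf1
    have h := eq_inv_of_mul_eq_one_left hf1
    rw [mul_inv_rev, hxi, hyi] at h
    exact h.symm
  · have hfH : f ∈ H := key x f hx hx1 hx2 (mul_inv_eq_iff_eq_mul.1 hfx).symm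
    exact key f y hfH hf1 hf2 (mul_inv_eq_iff_eq_mul.1 hfy)

/-- The transvection lemma. -/
theorem false_of_transitive {H : Subgroup G} (hH : IsStronglyPEmbedded 2 H) (ρ : G →* MulAut V)
    (hρ : Function.Injective ρ) (hV : ∀ v : V, v * v = 1) {W : Subgroup V} {p : V}
    (hW : 3 ≤ Nat.card W) (hp1 : p ≠ 1) {v₀ : V} (hv₀ : v₀ ∉ W) {e : G} (heH : e ∈ H)
    (he : IsTransv (ρ e) W p)
    (htr : ∀ v v' : V, v ∉ W → v' ∉ W → ∃ h ∈ H, ∃ n : ℕ, h ^ 2 ^ n = 1 ∧ ρ h v = v') : False := by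
  obtain ⟨φ, -, hφ⟩ := SetLike.exists_of_lt (lt_top_iff_ne_top.2 hH.2.1)
  set e' := φ * e * φ⁻¹ with he'def
  have he' : IsTransv (ρ e') (W.map (ρ φ).toMonoidHom) (ρ φ p) := by
    rw [he'def, map_mul, map_mul, map_inv]; exact he.conj _
  set W' := W.map (ρ φ).toMonoidHom
  set p' := ρ φ p
  have he1 : e ≠ 1 := fun h => by
    have := he.move v₀ hv₀
    rw [h, map_one, MulAut.one_apply] at this
    exact hp1 (mul_eq_left.1 this.symm)
  have he2 : e * e = 1 := hρ (by rw [map_mul, map_one]; exact he.sq hV)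
  have he'2 : e' * e' = 1 := hρ (by rw [map_mul, map_one]; exact he'.sq hV)
  have he'H : e' ∉ H := fun h => hφ (CharP.SE.mem_of_conj_mem hH heH he1 (n := 1)
    (by rw [pow_one, pow_two, he2]) h)
  have h4 : ∀ x y : G, (ρ x * ρ y) ^ 4 = 1 → (x * y) ^ 4 = 1 := fun x y h =>
    hρ (by rw [map_pow, map_mul, map_one, h])
  have hp'W : p' ∉ W := fun h =>
    he'H (mem_of_pow_four hH heH he1 he2 he'2 (h4 _ _ (IsTransv.pow_four hV he he' h)))
  -- a second point of the new axis outside `W`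
  obtain ⟨p'', hp''W', hp''W, hne⟩ : ∃ q ∈ W', q ∉ W ∧ q ≠ p' := by
    classical
    have hcard : 3 ≤ Nat.card W' := by
      exact hW.trans (Nat.card_congr ((ρ φ).subgroupMap W).toEquiv).le
    haveI : Finite W' := Nat.finite_of_card_ne_zero (by omega)
    obtain ⟨s, hs1, hs2⟩ : ∃ s : W', s ≠ 1 ∧ (s : V) ≠ p' := by
      by_contra! h
      haveI : Fintype W' := Fintype.ofFinite _
      have h2 : (Finset.univ : Finset W') ⊆ {1, ⟨p', he'.mem⟩} := fun s _ => by
        simp only [Finset.mem_insert, Finset.mem_singleton]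
        by_cases hs : s = 1
        · exact Or.inl hs
        · exact Or.inr (Subtype.ext (h s hs))
      have := (Finset.card_le_card h2).trans Finset.card_le_two
      rw [Finset.card_univ, ← Nat.card_eq_fintype_card] at this
      omega
    by_cases hsW : (s : V) ∈ W
    · refine ⟨p' * s, mul_mem he'.mem s.2, fun h => hp'W ((mul_mem_cancel_right hsW).1 h), ?_⟩
      exact fun h => hs1 (Subtype.ext (mul_eq_left.1 h))
    · exact ⟨s, s.2, hsW, hs2⟩
  obtain ⟨h, hhH, n, hn, hh⟩ := htr p' p'' hp'W hp''W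
  set e'' := h * e' * h⁻¹ with he''def
  have he'' : IsTransv (ρ e'') (W'.map (ρ h).toMonoidHom) p'' := by
    rw [he''def, map_mul, map_mul, map_inv, ← hh]; exact he'.conj _
  have he''2 : e'' * e'' = 1 := hρ (by rw [map_mul, map_one]; exact he''.sq hV)
  -- both conjugates lie in the conjugate of `H`
  have hy : φ⁻¹ * e'' * φ ∈ H := by
    refine mem_of_pow_four hH heH he1 he2 ?_ ?_
    · calc φ⁻¹ * e'' * φ * (φ⁻¹ * e'' * φ) = φ⁻¹ * (e'' * e'') * φ := by group
        _ = 1 := by rw [he''2]; group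
    · rw [show e * (φ⁻¹ * e'' * φ) = φ⁻¹ * (e' * e'') * φ⁻¹⁻¹ by rw [he'def]; group, conj_pow,
        h4 _ _ (IsTransv.pow_four hV he' he'' hp''W'), mul_one, mul_inv_cancel]
  have hk : φ⁻¹ * h * φ ∈ H := by
    refine CharP.SE.mem_of_conj_mem hH heH he1 (n := 1) (by rw [pow_one, pow_two, he2]) ?_
    rwa [show φ⁻¹ * h * φ * e * (φ⁻¹ * h * φ)⁻¹ = φ⁻¹ * e'' * φ by rw [he''def, he'def]; group]
  have hh1 : h ≠ 1 := fun h1 => hne (by rw [← hh, h1, map_one, MulAut.one_apply])
  exact hφ (inv_mem_iff.1 (CharP.SE.mem_of_conj_mem hH hhH hh1 hn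
    (by rw [inv_inv]; exact hk)))

end Cfsg.Agent.Lib.Bicyclic
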