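import Cfsg.Agent.Lib.Bicyclic.EssentialShape
import Cfsg.Agent.Lib.Bicyclic.Transvection

/-!
Over a bicyclic 2-group with noncyclic derived subgroup every map of a saturated system fixes the central
involution of the derived subgroup.
-/

set_option autoImplicit false
set_option linter.style.haveILetI false
set_option linter.unusedSectionVars false

namespace Cfsg.Agent.Lib.Bicyclic

open Cfsg Cfsg.FusionSystem Cfsg.Agent.Lib.FS
open scoped commutatorElement

variable {Ω : Type*} [Group Ω] {S : Subgroup Ω} [Finite S] {F : FusionSystem S} {R : Subgroup Ω}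

/-- An essential subgroup has no central involution outside the Frattini subgroup. -/
theorem false_of_involution (hS : IsPGroup 2 S) (hF : F.IsSaturated 2) (N : NData S)
    (hR : F.IsEssential 2 R) {x : S} (hxR : x ∈ R.subgroupOf S) (hxP : x ∉ N.Phi) (hx : x ^ 2 = 1)
    (hxc : ∀ r ∈ R.subgroupOf S, r * x = x * r) : False := by
  classical
  have hRS : R ≤ S := hR.2.1.1
  haveI := finite_sub hRS
  haveI hN : ((Inn R).subgroupOf (F.autGroup R)).Normal := hR.2.2.fst
  set R' := R.subgroupOf S with hR'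
  set C := Subgroup.centralizer ({x} : Set S)
  have hRC : R' ≤ C := fun r hr => Subgroup.mem_centralizer_singleton_iff.2 (hxc r hr)
  have hCR : C ≤ R' := fun g hg => centric_sub hR fun r hr => N.centralizer_comm hxP hx hg (hRC hr)
  have heq : R' = C := le_antisymm hRC hCR
  have hW := W_le_essential hS hF N hR
  let mk : ∀ u : S, u ∈ R' → R := fun u hu => ⟨u, Subgroup.mem_subgroupOf.1 hu⟩
  have hcomm : ∀ u v : R, u * v = v * u := fun u v => Subtype.ext (congrArg Subtype.val
    (N.centralizer_comm hxP hx (hRC (Subgroup.mem_subgroupOf.2 u.2 : (⟨u, hRS u.2⟩ : S) ∈ R'))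
      (hRC (Subgroup.mem_subgroupOf.2 v.2 : (⟨v, hRS v.2⟩ : S) ∈ R'))) :)
  have hlt : R < S := lt_of_le_of_ne hRS fun h => ne_top_sub hS hF hR (by rw [h]; exact Subgroup.subgroupOf_self S)
  have hSE : IsStronglyPEmbedded 2 (((Subgroup.closure (extendable F R)).subgroupOf (F.autGroup R)).map
      (QuotientGroup.mk' ((Inn R).subgroupOf (F.autGroup R)))) := by
    rcases extendable_closure hS hF hlt hR.2.1 with ⟨h, -⟩ | ⟨-, hN', h⟩
    · exact absurd hR h
    · exact h
  -- the subgroup of involutions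
  let V : Subgroup R :=
    { carrier := {r | r ^ 2 = 1}
      one_mem' := one_pow 2
      mul_mem' := fun {u v} hu hv => by
        show (u * v) ^ 2 = 1
        rw [(show Commute u v from hcomm u v).mul_pow, hu, hv, one_mul]
      inv_mem' := fun {u} hu => by
        show u⁻¹ ^ 2 = 1
        rw [inv_pow, hu, inv_one] }
  have hmemV : ∀ (α : MulAut R) (v : V), α v ∈ V := fun α v => by
    show (α v) ^ 2 = 1
    rw [← map_pow, show (v : R) ^ 2 = 1 from v.2, map_one]
  let res : MulAut R → MulAut V := fun α =>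
    { toFun := fun v => ⟨α v, hmemV α v⟩
      invFun := fun v => ⟨α⁻¹ v, hmemV α⁻¹ v⟩
      left_inv := fun v => Subtype.ext (MulAut.inv_apply_self R α v)
      right_inv := fun v => Subtype.ext (MulAut.apply_inv_self R α v)
      map_mul' := fun u v => Subtype.ext (map_mul α (u : R) v) }
  let ρ0 : F.autGroup R →* MulAut V := MonoidHom.mk' (fun α => res α) fun α β => rfl
  have hR2 : IsPGroup 2 R := isPGroup_of_le hS hRS
  -- the restriction is faithful modulo inner automorphisms
  have hInn : ∀ α ∈ Inn R, α = 1 := by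
    rintro _ ⟨w, rfl⟩
    refine MulEquiv.ext fun r => ?_
    show w * r * w⁻¹ = r
    rw [hcomm w r, mul_inv_cancel_right]
  have hker : ∀ α : F.autGroup R, ρ0 α = 1 → (α : MulAut R) = 1 := by
    intro α hα
    let K : Subgroup (MulAut R) :=
      { carrier := {β | β ∈ F.autGroup R ∧ ∀ r : R, r ^ 2 = 1 → β r = r}
        one_mem' := ⟨one_mem _, fun _ _ => rfl⟩
        mul_mem' := fun {β γ} hβ hγ => ⟨mul_mem hβ.1 hγ.1, fun r hr => by
          rw [MulAut.mul_apply, hγ.2 r hr, hβ.2 r hr]⟩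
        inv_mem' := fun {β} hβ => ⟨inv_mem hβ.1, fun r hr => by
          conv_lhs => rw [← hβ.2 r hr]
          exact MulAut.inv_apply_self _ _ _⟩ }
    have hp : IsPGroup 2 K := TwoGroups.MetacyclicFusion.isPGroup_of_odd K fun ψ hψ ho =>
      eq_one_of_fix_sq hR2 hcomm ho hψ.2
    have hn : ∀ β ∈ F.autGroup R, ∀ k ∈ K, β * k * β⁻¹ ∈ K := fun β hβ k hk =>
      ⟨mul_mem (mul_mem hβ hk.1) (inv_mem hβ), fun r hr => by
        rw [MulAut.mul_apply, MulAut.mul_apply, hk.2 _ (by rw [← map_pow, hr, map_one]),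
          MulAut.apply_inv_self]⟩
    have hKle : K ≤ F.autGroup R := fun β hβ => hβ.1
    exact hInn _ (le_inn_of_radical (radical_of_essential hS hF hR) hKle hn hp
      ⟨α.2, fun r hr => (congrArg Subtype.val (DFunLike.congr_fun hα (⟨r, hr⟩ : V)) :)⟩)
  set NI := (Inn R).subgroupOf (F.autGroup R)
  have hle : NI ≤ ρ0.ker := fun α hα => by
    rw [MonoidHom.mem_ker, show α = 1 from Subtype.ext (hInn _ (Subgroup.mem_subgroupOf.1 hα)), map_one]
  let ρ := QuotientGroup.lift NI ρ0 hle
  have hρ : Function.Injective ρ := by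
    refine (injective_iff_map_eq_one _).2 fun q hq => ?_
    obtain ⟨α, rfl⟩ := QuotientGroup.mk_surjective q
    refine (QuotientGroup.eq_one_iff α).2 (Subgroup.mem_subgroupOf.2 ?_)
    rw [hker α hq]
    exact one_mem _
  -- `W` inside `V`
  let toS : R → S := fun r => ⟨r, hRS r.2⟩
  let WV : Subgroup V :=
    { carrier := {v | toS v ∈ N.W}
      one_mem' := N.W.one_mem
      mul_mem' := fun {u v} hu hv => N.W.mul_mem hu hv
      inv_mem' := fun {u} hu => N.W.inv_mem hu }
  have hcardW : 3 ≤ Nat.card WV := by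
    let f : N.W → WV := fun w =>
      ⟨⟨mk w (hW w.2), Subtype.ext (by
        have := congrArg Subtype.val w.2.2
        simpa [mk] using this)⟩, w.2⟩
    have hf : Function.Injective f := fun a b h => Subtype.ext (Subtype.ext
      (congrArg (fun v : WV => (((v : V) : R) : Ω)) h))
    have := Nat.card_le_card_of_injective f hf
    rw [N.card_W] at this
    omega
  have hV : ∀ v : V, v * v = 1 := fun v => Subtype.ext (by
    show (v : R) * v = 1
    rw [← pow_two]; exact v.2)
  have hout : ∀ v : V, v ∉ WV → ∃ u ∈ N.W, toS v = u * x := by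
    intro v hv
    have h2 : toS v ^ 2 = 1 := Subtype.ext (by
      have := congrArg Subtype.val (show (v : R) ^ 2 = 1 from v.2)
      simpa [toS] using this)
    have hvC : toS v ∈ C := hRC (Subgroup.mem_subgroupOf.2 v.1.2)
    rcases N.centralizer_sq_one hxP hx hvC h2 with h | h
    · exact absurd h hv
    · refine ⟨_, h, ?_⟩
      rw [mul_assoc, (show Commute (toS v) x from Subgroup.mem_centralizer_singleton_iff.1 hvC).eq,
        inv_mul_cancel_left]
  -- automorphisms induced by conjugating elements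
  have hnorm : ∀ g : S, ∀ u ∈ N.W, g * x * g⁻¹ = u * x → (g : Ω) ∈ normalizerIn S R := fun g u hu hg =>
    mem_normalizerIn_sub hRS fun r hr => hCR (N.conj_centralizer hxP hx hu hg (hRC hr))
  set π := QuotientGroup.mk' NI
  set HB := ((Subgroup.closure (extendable F R)).subgroupOf (F.autGroup R)).map π
  have hmemH : ∀ (g : Ω) (hg : g ∈ normalizerIn S R),
      ∃ e : F.autGroup R, (∀ r : R, (((e : MulAut R) r : R) : Ω) = g * r * g⁻¹) ∧
        π e ∈ HB ∧ ∃ n : ℕ, π e ^ 2 ^ n = 1 := by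
    intro g hg
    have hug : R.normalizerMonoidHom ⟨g, hg.2⟩ ∈ autInducedBy S R :=
      mem_autInducedBy.2 ⟨g, hg.1, fun _ => rfl⟩
    refine ⟨⟨_, autInducedBy_le_autGroup F hRS hug⟩, fun _ => rfl, ⟨_, Subgroup.mem_subgroupOf.2
      (Subgroup.subset_closure (autInducedBy_subset_extendable hS hlt hug)), rfl⟩, ?_⟩
    obtain ⟨k, hk⟩ := isPGroup_autInducedBy_of_le hS le_rfl R ⟨_, hug⟩
    refine ⟨k, ?_⟩
    rw [← map_pow]
    convert map_one π
    exact Subtype.ext (congrArg Subtype.val hk :)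
  obtain ⟨g0, w0, hw0, hw01, hg0, hg0W⟩ := N.exists_transvection hxP hx
  obtain ⟨e, he, heH, -⟩ := hmemH _ (hnorm g0 w0 hw0 hg0)
  let p : V := ⟨mk w0 (hW hw0), Subtype.ext (by
    have := congrArg Subtype.val hw0.2
    simpa [mk] using this)⟩
  let v0 : V := ⟨mk x hxR, Subtype.ext (by
    have := congrArg Subtype.val hx
    simpa [mk] using this)⟩
  have hv0 : v0 ∉ WV := fun h => hxP (N.commutator_le_Phi h.1)
  have hp1 : p ≠ 1 := fun h => hw01 (Subtype.ext (congrArg (fun v : V => ((v : R) : Ω)) h))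
  have hconj0 : ∀ u ∈ N.W, g0 * u * g0⁻¹ = u := fun u hu =>
    mul_inv_eq_iff_eq_mul.2 (Subgroup.mem_centralizer_iff.1 hg0W u hu).symm
  refine false_of_transitive hSE ρ hρ hV hcardW hp1 hv0 heH (W := WV) (p := p) ?_ ?_
  · refine ⟨fun v hv => ?_, fun v hv => ?_, hw0⟩
    · refine Subtype.ext (Subtype.ext ?_)
      show ((((e : MulAut R) (v : R)) : R) : Ω) = _
      rw [he]
      exact congrArg Subtype.val (hconj0 _ hv)
    · obtain ⟨u, hu, hvu⟩ := hout v hv
      have h1 : g0 * toS v * g0⁻¹ = toS v * w0 := by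
        rw [hvu, show g0 * (u * x) * g0⁻¹ = g0 * u * g0⁻¹ * (g0 * x * g0⁻¹) by group, hconj0 u hu, hg0,
          mul_assoc, N.centralizes_W_of_commute hxP hx (N.involution_mem_Mid hx) hw0]
      refine Subtype.ext (Subtype.ext ?_)
      show ((((e : MulAut R) (v : R)) : R) : Ω) = _
      rw [he]
      exact congrArg Subtype.val h1
  · intro v v' hv hv'
    obtain ⟨u, hu, hvu⟩ := hout v hv
    obtain ⟨u', hu', hvu'⟩ := hout v' hv'
    obtain ⟨g1, hg1⟩ := N.exists_conj_eq hxP hx hu.1
    obtain ⟨g2, hg2⟩ := N.exists_conj_eq hxP hx hu'.1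
    have hn : ((g2 * g1⁻¹ : S) : Ω) ∈ normalizerIn S R := by
      push_cast
      exact mul_mem (hnorm g2 u' hu' hg2) (inv_mem (hnorm g1 u hu hg1))
    obtain ⟨f, hf, hfH, n, hfn⟩ := hmemH _ hn
    refine ⟨π f, hfH, n, hfn, Subtype.ext (Subtype.ext ?_)⟩
    show ((((f : MulAut R) (v : R)) : R) : Ω) = _
    rw [hf]
    have h1 : g2 * g1⁻¹ * toS v * (g2 * g1⁻¹)⁻¹ = toS v' := by
      rw [hvu, hvu', ← hg1, ← hg2]; group
    exact congrArg Subtype.val h1

/-- The involution is fixed by the automorphism group of an essential subgroup if it is fixed by the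
extendable automorphisms. -/
theorem fix_of_essential (hS : IsPGroup 2 S) (hF : F.IsSaturated 2) (N : NData S) {z : S}
    (hz : z ∈ N.W) (hz1 : z ≠ 1) (hzc : z ∈ Subgroup.center S) (hR : F.IsEssential 2 R)
    (hH : ∀ h ∈ Subgroup.closure (extendable F R), ∀ r : R, (r : Ω) = z → h r = r)
    {α : MulAut R} (hα : α ∈ F.autGroup R) (r : R) (hr : (r : Ω) = z) : α r = r := by
  classical
  have hRS : R ≤ S := hR.2.1.1
  haveI := finite_sub hRS
  set R' := R.subgroupOf S with hR'
  obtain ⟨hM, hnP⟩ := le_Mid_of_essential hS hF N hR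
  have hW := W_le_essential hS hF N hR
  by_contra hne
  let toS : R → S := fun r => ⟨r, hRS r.2⟩
  have htr : toS r = z := Subtype.ext hr
  -- central involutions of `R` lie in `W`
  have hcinv : ∀ s : R, s ^ 2 = 1 → (∀ q : R, q * s = s * q) → toS s ∈ N.W := by
    intro s hs hsc
    have h2 : toS s ^ 2 = 1 := Subtype.ext (congrArg Subtype.val hs :)
    refine N.mem_W_of_sq (by_contra fun hP => ?_) h2
    exact false_of_involution hS hF N hR (x := toS s) (Subgroup.mem_subgroupOf.2 s.2) hP h2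
      fun q hq => Subtype.ext (congrArg Subtype.val (hsc ⟨q, Subgroup.mem_subgroupOf.1 hq⟩) :)
  have hr2 : r ^ 2 = 1 := Subtype.ext (by
    have := congrArg Subtype.val hz.2
    simpa [hr] using this)
  have hrc : ∀ q : R, q * r = r * q := fun q => Subtype.ext (by
    have := congrArg Subtype.val (Subgroup.mem_center_iff.1 hzc (toS q))
    simpa [toS, hr] using this)
  set u := α r with hu
  have hu2 : u ^ 2 = 1 := by rw [hu, ← map_pow, hr2, map_one]
  have huc : ∀ q : R, q * u = u * q := fun q => by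
    obtain ⟨q, rfl⟩ := α.surjective q
    rw [hu, ← map_mul, hrc, map_mul]
  have huW : toS u ∈ N.W := hcinv u hu2 huc
  have hu1 : toS u ≠ 1 := fun h => by
    have h' : u = 1 := Subtype.ext (congrArg Subtype.val h :)
    have h'' : r = 1 := α.injective (h'.trans (map_one α).symm)
    exact hz1 (Subtype.ext (by rw [← hr, h'']; rfl))
  have huz : toS u ≠ z := fun h => hne (Subtype.ext (by rw [hr]; exact congrArg Subtype.val h))
  -- `R` centralises `W`
  have hRW : R' ≤ Subgroup.centralizer (N.W : Set S) := by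
    intro q hq
    refine Subgroup.mem_centralizer_iff.2 fun w hw => ?_
    have hle : N.W ≤ Subgroup.centralizer ({q} : Set S) := by
      refine N.W_le_of_two hz hz1 huW hu1 huz ?_ ?_
      · exact Subgroup.mem_centralizer_singleton_iff.2 (Subgroup.mem_center_iff.1 hzc q).symm
      · refine Subgroup.mem_centralizer_singleton_iff.2 (Subtype.ext ?_)
        exact (congrArg Subtype.val (huc ⟨q, Subgroup.mem_subgroupOf.1 hq⟩) :).symm
    exact Subgroup.mem_centralizer_singleton_iff.1 (hle hw)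
  by_cases hex : ∃ g : S, (∀ q ∈ R', g * q * g⁻¹ ∈ R') ∧ g ∉ R' ∧ g ∈ Subgroup.centralizer (N.W : Set S)
  · obtain ⟨g, hgn, hgR, hgW⟩ := hex
    -- the kernel of the action on `W`
    let K : Subgroup (MulAut R) :=
      { carrier := {β | β ∈ F.autGroup R ∧ ∀ q : R, toS q ∈ N.W → β q = q}
        one_mem' := ⟨one_mem _, fun _ _ => rfl⟩
        mul_mem' := fun {β γ} hβ hγ => ⟨mul_mem hβ.1 hγ.1, fun q hq => by
          rw [MulAut.mul_apply, hγ.2 q hq, hβ.2 q hq]⟩
        inv_mem' := fun {β} hβ => ⟨inv_mem hβ.1, fun q hq => by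
          conv_lhs => rw [← hβ.2 q hq]
          exact MulAut.inv_apply_self _ _ _⟩ }
    have hinvW : ∀ β : MulAut R, ∀ q : R, toS q ∈ N.W → toS (β q) ∈ N.W := by
      intro β q hq
      have hq2 : q ^ 2 = 1 := Subtype.ext (congrArg Subtype.val hq.2 :)
      refine hcinv _ (by rw [← map_pow, hq2, map_one]) fun s => ?_
      obtain ⟨s, rfl⟩ := β.surjective s
      rw [← map_mul, ← map_mul]
      congr 1
      exact Subtype.ext (congrArg Subtype.val
        (Subgroup.mem_centralizer_iff.1 (hRW (Subgroup.mem_subgroupOf.2 s.2 : toS s ∈ R')) _ hq) :).symm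
    have hn : ∀ β ∈ F.autGroup R, ∀ k ∈ K, β * k * β⁻¹ ∈ K := fun β hβ k hk =>
      ⟨mul_mem (mul_mem hβ hk.1) (inv_mem hβ), fun q hq => by
        rw [MulAut.mul_apply, MulAut.mul_apply, hk.2 _ (hinvW β⁻¹ q hq), MulAut.apply_inv_self]⟩
    have hgN := mem_normalizerIn_sub hRS hgn
    obtain ⟨k, hk, h, hh, hαhk⟩ := exists_mul_extendable hS hF hR hn hgN
      (fun h => hgR (Subgroup.mem_subgroupOf.2 h))
      ⟨autInducedBy_le_autGroup F hRS (mem_autInducedBy.2 ⟨g, g.2, fun _ => rfl⟩), fun q hq => by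
        refine Subtype.ext ?_
        show (g : Ω) * q * (g : Ω)⁻¹ = q
        exact mul_inv_eq_iff_eq_mul.2
          (congrArg Subtype.val (Subgroup.mem_centralizer_iff.1 hgW _ hq)).symm⟩ hα
    apply hne
    rw [hu, hαhk, MulAut.mul_apply, hk.2 r (by rw [htr]; exact hz), hH h hh r hr]
  push Not at hex
  -- then `R` is the middle maximal subgroup
  have hD : commutator S ≤ R' := by
    by_contra hD
    obtain ⟨d, hd, hdR, hdn⟩ := exists_normalizer_of_normal hS (H := R') hD
    exact hex d hdn hdR (Subgroup.mem_centralizer_iff.2 fun w hw => N.comm w hw.1 d hd)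
  have hnorm : ∀ g : S, ∀ q ∈ R', g * q * g⁻¹ ∈ R' := fun g q hq => by
    rw [show g * q * g⁻¹ = ⁅g, q⁆ * q by group]
    exact mul_mem (hD (Subgroup.commutator_mem_commutator (Subgroup.mem_top g) (Subgroup.mem_top q))) hq
  have hCW : ∀ g : S, g ∈ Subgroup.centralizer (N.W : Set S) → g ∈ R' := fun g hg =>
    by_contra fun h => hex g (hnorm g) h hg
  have hPR : N.Phi ≤ R' := fun g hg => hCW g (Subgroup.mem_centralizer_iff.2 fun w hw =>
    (N.Phi_centralizes_W hg hw).symm)
  obtain ⟨x, hxR, hxP⟩ := SetLike.not_le_iff_exists.1 hnP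
  have heq : R' = N.Mid := by
    refine le_antisymm hM fun g hg => ?_
    rcases N.mem_Phi_or hxP (hM hxR) hg with h | h
    · exact hPR h
    · simpa using mul_mem hxR (hPR h)
  have haW : N.a ∉ Subgroup.centralizer (N.W : Set S) := fun h =>
    N.a_not_mem_Mid (heq ▸ hCW N.a h)
  have hfix : ∀ w ∈ N.W, N.a * w * N.a⁻¹ = w → w = 1 ∨ w = z := by
    intro w hw hwa
    by_contra! hcon
    refine haW (Subgroup.mem_centralizer_iff.2 fun v hv => ?_)
    have hle : N.W ≤ Subgroup.centralizer ({N.a} : Set S) :=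
      N.W_le_of_two hz hz1 hw hcon.1 hcon.2
        (Subgroup.mem_centralizer_singleton_iff.2 (Subgroup.mem_center_iff.1 hzc N.a).symm)
        (Subgroup.mem_centralizer_singleton_iff.2 (mul_inv_eq_iff_eq_mul.1 hwa).symm)
    exact Subgroup.mem_centralizer_singleton_iff.1 (hle hv)
  obtain ⟨hτL, hLK, haL⟩ := N.mid_derived
  set L := ⁅N.Mid, N.Mid⁆ with hL
  -- the exponent of `L`
  have hexE : ∃ e : ℕ, ∀ v ∈ L, v ^ 2 ^ e = 1 := by
    obtain ⟨e, he⟩ := IsPGroup.iff_card.1 hS
    exact ⟨e, fun v _ => by rw [← he]; exact pow_card_eq_one'⟩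
  set e := Nat.find hexE with he
  have heL : ∀ v ∈ L, v ^ 2 ^ e = 1 := Nat.find_spec hexE
  have hτ1 : N.τ ≠ 1 := fun h => by
    obtain ⟨f, hf, hτ⟩ := N.exists_τ
    refine N.t_not_mem ?_
    rw [h] at hτ
    rw [eq_inv_of_mul_eq_one_left hτ.symm]
    exact inv_mem (sq_mem_dSq hf)
  obtain ⟨e', he'⟩ : ∃ e', e = e' + 1 := by
    refine ⟨e - 1, (Nat.sub_add_cancel ?_).symm⟩
    by_contra h0
    have h := heL _ hτL
    rw [show e = 0 by omega, pow_zero, pow_one] at h
    exact hτ1 h
  obtain ⟨v, hv, hv1⟩ : ∃ v ∈ L, v ^ 2 ^ e' ≠ 1 := by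
    by_contra! h
    exact Nat.find_min hexE (show e' < Nat.find hexE by omega) h
  have htop : ∀ q ∈ L, q ^ 2 ^ e' = 1 ∨ q ^ 2 ^ e' = z := by
    intro q hq
    have hqW : q ^ 2 ^ e' ∈ N.W := by
      refine ⟨pow_mem (dK_le (hLK hq)) _, ?_⟩
      rw [← pow_mul, ← pow_succ, ← he']; exact heL q hq
    refine hfix _ hqW ?_
    obtain ⟨i, hi⟩ := haL q (hLK hq)
    have hc : Commute (N.τ ^ (2 * i)) q :=
      N.comm _ (zpow_mem N.τ_mem _) _ (dK_le (hLK hq))
    rw [← conj_pow, hi, hc.mul_pow]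
    have h1 : (N.τ ^ (2 * i)) ^ 2 ^ e' = 1 := by
      rw [← zpow_natCast, ← zpow_mul, show 2 * i * ((2 ^ e' : ℕ) : ℤ) = ((2 ^ e : ℕ) : ℤ) * i by
        rw [he']; push_cast; ring, zpow_mul, zpow_natCast, heL _ hτL, one_zpow]
    rw [h1, one_mul]
  have hvz : v ^ 2 ^ e' = z := (htop v hv).resolve_left hv1
  -- `L` is invariant under automorphisms of `R`
  have hRmap : R = N.Mid.map S.subtype := by
    rw [← heq, hR', Subgroup.subgroupOf_map_subtype, inf_eq_left.2 hRS]
  have hLmap : (commutator R).map R.subtype = L.map S.subtype := by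
    rw [commutator_def, Subgroup.map_commutator, ← MonoidHom.range_eq_map, Subgroup.range_subtype, hL,
      Subgroup.map_commutator, ← hRmap]
  obtain ⟨vR, hvR, hvRe⟩ := hLmap.ge (Subgroup.mem_map_of_mem S.subtype hv)
  have hαv : α vR ∈ commutator R := by
    have h := Subgroup.mem_map_of_mem α.toMonoidHom hvR
    rw [commutator_def, Subgroup.map_commutator,
      Subgroup.map_top_of_surjective _ α.surjective] at h
    exact h
  obtain ⟨q, hq, hqe⟩ := hLmap.le (Subgroup.mem_map_of_mem R.subtype hαv)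
  have hpow : u = (α vR) ^ 2 ^ e' := by
    rw [hu, ← map_pow]
    congr 1
    refine Subtype.ext ?_
    rw [hr, SubmonoidClass.coe_pow, show (vR : Ω) = v from hvRe, ← SubmonoidClass.coe_pow, hvz]
  have huq : toS u = q ^ 2 ^ e' := Subtype.ext (by
    show (u : Ω) = _
    rw [hpow, SubmonoidClass.coe_pow, SubmonoidClass.coe_pow, show ((α vR : R) : Ω) = q from hqe.symm])
  rcases htop q hq with h | h
  · exact hu1 (huq.trans h)
  · exact huz (huq.trans h)

/-- Every map of the system fixes the central involution. -/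
theorem fix_z (hS : IsPGroup 2 S) (hF : F.IsSaturated 2) (N : NData S) {z : S}
    (hz : z ∈ N.W) (hz1 : z ≠ 1) (hzc : z ∈ Subgroup.center S) :
    ∀ (P : Subgroup Ω) (φ : P →* Ω), φ ∈ F.Hom P → ∀ x : P, (x : Ω) = z → φ x = z := by
  refine FusionP3.Induction.hom_induction hS hF (M := fun P φ => ∀ x : P, (x : Ω) = z → φ x = z) ?_ ?_ ?_
  · intro P Q φ ψ χ _ _ hm hχ hφ hψ x hx
    rw [hχ]
    exact hψ _ (hφ x hx)
  · intro P Q φ ψ h _ he hψ x hx
    rw [he]
    exact hψ _ hx
  intro P hPn _ _ α hα big x hx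
  show ((α x : P) : Ω) = z
  haveI := finite_sub hPn.1
  rcases eq_or_lt_of_le hPn.1 with hPS | hPS
  · subst hPS
    obtain ⟨T, hT⟩ := (fullyAutomized_of_fullyNormalized hS hF (isFullyNormalized_base F)).2
    have htop : (T : Subgroup (F.autGroup P)) = ⊤ :=
      (T.is_maximal' (((N.toData.isPGroup_mulAut hS).to_subgroup _).to_subgroup ⊤) le_top).symm
    obtain ⟨g, hg, hge⟩ := mem_autInducedBy.1
      (Subgroup.mem_subgroupOf.1 (hT ▸ htop ▸ Subgroup.mem_top (⟨α, hα⟩ : F.autGroup P)))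
    rw [hge, hx]
    exact mul_inv_eq_iff_eq_mul.2 (congrArg Subtype.val (Subgroup.mem_center_iff.1 hzc ⟨g, hg⟩))
  have hH : ∀ h ∈ Subgroup.closure (extendable F P), ∀ r : P, (r : Ω) = z → h r = r := by
    intro h hh
    induction hh using Subgroup.closure_induction with
    | mem β hβ =>
      obtain ⟨Q, hPQ, φ, hφ, he⟩ := hβ
      intro r hr
      haveI := finite_sub (src_le hφ)
      refine Subtype.ext ?_
      rw [← he r, hr]
      exact big Q (lt_of_not_ge fun h => hPQ.ne (Subgroup.eq_of_le_of_card_ge hPQ.le h)) φ hφ _ hr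
    | one => exact fun r _ => rfl
    | mul a b _ _ ha hb => exact fun r hr => by rw [MulAut.mul_apply, hb r hr, ha r hr]
    | inv a _ ha =>
      exact fun r hr => by
        conv_lhs => rw [← ha r hr]
        exact MulAut.inv_apply_self _ _ _
  rcases extendable_closure hS hF hPS hPn with ⟨-, heq⟩ | ⟨hess, -⟩
  · rw [hH α (heq ▸ hα) x hx]; exact hx
  · rw [fix_of_essential hS hF N hz hz1 hzc hess hH hα x hx]; exact hx

end Cfsg.Agent.Lib.Bicyclic
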