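import Cfsg.Agent.Lib.FusionSystem.Essential
import Cfsg.Agent.Lib.TwoGroups.OddAut
import Cfsg.Agent.Lib.TwoGroups.MetacyclicFusion
import Cfsg.Agent.Lib.CharP.StronglyEmb

/-!
General facts about essential subgroups of saturated fusion systems on 2-groups.
-/

set_option autoImplicit false
set_option linter.style.haveILetI false
set_option linter.unusedSectionVars false

namespace Cfsg.Agent.Lib.Bicyclic

open Cfsg Cfsg.FusionSystem Cfsg.Agent.Lib.FS

variable {Ω : Type*} [Group Ω] {S : Subgroup Ω} [Finite S] {F : FusionSystem S} {R : Subgroup Ω}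

/-- Essential subgroups have automorphisms of odd order in the system. -/
theorem exists_odd (hS : IsPGroup 2 S) (hF : F.IsSaturated 2) (hR : F.IsEssential 2 R) :
    ∃ φ ∈ F.autGroup R, Odd (orderOf φ) ∧ φ ≠ 1 := by
  by_contra! hno
  haveI := finite_sub hR.2.1.1
  have hp : IsPGroup 2 (F.autGroup R) :=
    TwoGroups.MetacyclicFusion.isPGroup_of_odd _ fun φ h1 h2 => hno φ h1 h2
  obtain ⟨M, ⟨a, ha, haM⟩, hSM, -, -⟩ := FusionEssential.exists_data hS hF hR
  obtain ⟨T, hT⟩ := (fullyAutomized_of_fullyNormalized hS hF hR.2.1).2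
  have htop : (T : Subgroup (F.autGroup R)) = ⊤ :=
    (T.is_maximal' (hp.to_subgroup ⊤) le_top).symm
  refine haM (hSM ?_)
  exact Subgroup.mem_subgroupOf.1 (hT ▸ htop ▸ Subgroup.mem_top (⟨a, ha⟩ : F.autGroup R))

/-- A system without essential subgroups whose Sylow group has a 2-group of automorphisms is inner. -/
theorem eq_inner_of_no_essential (hS : IsPGroup 2 S) (hF : F.IsSaturated 2)
    (hA : IsPGroup 2 (MulAut S)) (hno : ∀ R : Subgroup Ω, ¬ F.IsEssential 2 R) :
    F = innerFusionSystem S := by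
  refine fusion_le_antisymm (le_of_essential_autGroup_le hS hF fun P hP => ?_)
    fun P φ ⟨hP, g, hg, he⟩ => mem_of_conj F hP hg he
  rcases hP with rfl | hess
  · obtain ⟨T, hT⟩ := (fullyAutomized_of_fullyNormalized hS hF (isFullyNormalized_base F)).2
    have htop : (T : Subgroup (F.autGroup P)) = ⊤ :=
      (T.is_maximal' ((hA.to_subgroup _).to_subgroup ⊤) le_top).symm
    intro α hα
    exact autInducedBy_le_autGroup (innerFusionSystem P) le_rfl
      (Subgroup.mem_subgroupOf.1 (hT ▸ htop ▸ Subgroup.mem_top (⟨α, hα⟩ : F.autGroup P)))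
  · exact absurd hess (hno P)

/-- Conjugation by an element of `S` lying in a normal 2-subgroup of `Aut_F(R)` comes from `R`. -/
theorem mem_of_stab (hS : IsPGroup 2 S) (hF : F.IsSaturated 2) (hR : F.IsEssential 2 R)
    {K : Subgroup (MulAut R)} (hK : K ≤ F.autGroup R)
    (hn : ∀ α ∈ F.autGroup R, ∀ k ∈ K, α * k * α⁻¹ ∈ K) (hp : IsPGroup 2 K) {g : Ω}
    (hg : g ∈ normalizerIn S R) (hgK : R.normalizerMonoidHom ⟨g, hg.2⟩ ∈ K) : g ∈ R := by
  by_contra hgR
  exact not_inn_of_not_mem (hR.1.2 R (isConj_refl F hR.2.1.1)) hR.2.1.1 hg hgR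
    (le_inn_of_radical (radical_of_essential hS hF hR) hK hn hp hgK)

/-- An automorphism of odd order of a commutative 2-group fixing the involutions is trivial. -/
theorem eq_one_of_fix_sq {G : Type*} [Group G] (hG : IsPGroup 2 G) (hc : ∀ u v : G, u * v = v * u)
    {φ : MulAut G} (hφ : Odd (orderOf φ)) (hfix : ∀ u : G, u ^ 2 = 1 → φ u = u) : φ = 1 := by
  have h : ∀ (k : ℕ) (u : G), u ^ 2 ^ k = 1 → φ u = u := by
    intro k
    induction k with
    | zero => intro u hu; rw [pow_zero, pow_one] at hu; rw [hu, map_one]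
    | succ k ih =>
      intro u hu
      have h2 : φ (u ^ 2) = u ^ 2 := ih (u ^ 2) (by rw [← pow_mul, ← pow_succ', hu])
      have hd : (u⁻¹ * φ u) ^ 2 = 1 := by
        rw [(show Commute u⁻¹ (φ u) from hc _ _).mul_pow, ← map_pow, h2, inv_pow, inv_mul_cancel]
      exact TwoGroups.OddAut.fix_of_translate hφ (by rw [mul_inv_cancel_left]) (hfix _ hd)
        (n := 1) (by rw [pow_one, hd])
  refine MulEquiv.ext fun u => ?_
  obtain ⟨k, hk⟩ := hG u
  exact h k u hk

/-- The group of extendable automorphisms supplements every normal subgroup of `Aut_F(R)` containing a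
non-inner automorphism induced by `S`. -/
theorem exists_mul_extendable (hS : IsPGroup 2 S) (hF : F.IsSaturated 2) (hR : F.IsEssential 2 R)
    {K : Subgroup (MulAut R)} (hn : ∀ α ∈ F.autGroup R, ∀ k ∈ K, α * k * α⁻¹ ∈ K) {g : Ω}
    (hg : g ∈ normalizerIn S R) (hgR : g ∉ R) (hgK : R.normalizerMonoidHom ⟨g, hg.2⟩ ∈ K)
    {α : MulAut R} (hα : α ∈ F.autGroup R) :
    ∃ k ∈ K, ∃ h ∈ Subgroup.closure (extendable F R), α = h * k := by
  classical
  have hRS : R ≤ S := hR.2.1.1
  haveI := finite_sub hRS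
  have hlt : R < S := lt_of_le_of_ne hRS fun h => hgR (h ▸ hg.1)
  haveI hN : ((Inn R).subgroupOf (F.autGroup R)).Normal := hR.2.2.fst
  have hSE : IsStronglyPEmbedded 2 (((Subgroup.closure (extendable F R)).subgroupOf (F.autGroup R)).map
      (QuotientGroup.mk' ((Inn R).subgroupOf (F.autGroup R)))) := by
    rcases extendable_closure hS hF hlt hR.2.1 with ⟨h, -⟩ | ⟨-, hN', hSE⟩
    · exact absurd hR h
    · exact hSE
  set A := F.autGroup R
  set H := Subgroup.closure (extendable F R) with hH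
  set π := QuotientGroup.mk' ((Inn R).subgroupOf A)
  set KA := K.subgroupOf A
  haveI : KA.Normal := ⟨fun n hn' a => Subgroup.mem_subgroupOf.2 (hn a a.2 n (Subgroup.mem_subgroupOf.1 hn'))⟩
  have hInnH : Inn R ≤ H := fun w hw =>
    Subgroup.subset_closure (autInducedBy_subset_extendable hS hlt (inn_le_autInducedBy hRS hw))
  have hug : R.normalizerMonoidHom ⟨g, hg.2⟩ ∈ autInducedBy S R :=
    mem_autInducedBy.2 ⟨g, hg.1, fun _ => rfl⟩
  set u : A := ⟨R.normalizerMonoidHom ⟨g, hg.2⟩, autInducedBy_le_autGroup F hRS hug⟩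
  -- a Sylow subgroup of the normal subgroup containing the conjugation by `g`
  have hu2 : IsPGroup 2 (Subgroup.zpowers (⟨u, Subgroup.mem_subgroupOf.2 hgK⟩ : KA)) := by
    obtain ⟨k, hk⟩ := isPGroup_autInducedBy_of_le hS le_rfl R ⟨_, hug⟩
    refine CharP.isPGroup_zpowers (n := k) (Subtype.ext (Subtype.ext ?_))
    simpa using congrArg Subtype.val hk
  obtain ⟨P, hP⟩ := hu2.exists_le_sylow
  set PA := (P : Subgroup KA).map KA.subtype with hPA
  have huP : u ∈ PA := ⟨⟨u, Subgroup.mem_subgroupOf.2 hgK⟩, hP (Subgroup.mem_zpowers _), rfl⟩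
  have hsup : Subgroup.normalizer (PA : Set A) ⊔ KA = ⊤ := Sylow.normalizer_sup_eq_top P
  have hmem : (⟨α, hα⟩ : A) ∈ Subgroup.normalizer (PA : Set A) ⊔ KA := hsup ▸ Subgroup.mem_top _
  obtain ⟨n, hnm, k, hk, hnk⟩ := Subgroup.mem_sup_of_normal_right.1 hmem
  refine ⟨k, Subgroup.mem_subgroupOf.1 hk, n, ?_, (congrArg Subtype.val hnk).symm⟩
  set HB := (H.subgroupOf A).map π
  have hπu : π u ≠ 1 := fun h => not_inn_of_not_mem (hR.1.2 R (isConj_refl F hRS)) hRS hg hgR
    (Subgroup.mem_subgroupOf.1 ((QuotientGroup.eq_one_iff u).1 h))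
  have hπP : IsPGroup 2 (PA.map π) := (P.isPGroup'.map KA.subtype).map π
  have huHB : π u ∈ HB :=
    ⟨u, Subgroup.mem_subgroupOf.2 (Subgroup.subset_closure (autInducedBy_subset_extendable hS hlt hug)), rfl⟩
  have hle : PA.map π ≤ HB := CharP.SE.le_of_inf_ne_bot hSE hπP fun h => by
    have h1 : π u ∈ PA.map π ⊓ HB := ⟨Subgroup.mem_map_of_mem π huP, huHB⟩
    rw [h, Subgroup.mem_bot] at h1
    exact hπu h1
  have hne : PA.map π ≠ ⊥ := fun h => hπu (by
    rw [← Subgroup.mem_bot, ← h]; exact Subgroup.mem_map_of_mem π huP)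
  have hπn : π n ∈ HB :=
    K41.normalizer_le_of_sE hSE hle hπP hne (Subgroup.le_normalizer_map π ⟨n, hnm, rfl⟩)
  obtain ⟨b, hb, hbe⟩ := hπn
  have h2 := (QuotientGroup.eq_one_iff (b⁻¹ * n)).1 (by
    show π (b⁻¹ * n) = 1
    rw [map_mul, map_inv, hbe, inv_mul_cancel])
  have h3 := H.mul_mem (Subgroup.mem_subgroupOf.1 hb) (hInnH (Subgroup.mem_subgroupOf.1 h2))
  simpa using h3

/-- Normalisers grow inside `R Q` for a normal subgroup `Q`. -/
theorem exists_normalizer_of_normal {X : Type*} [Group X] [Finite X] (hX : IsPGroup 2 X)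
    {H Q : Subgroup X} [Q.Normal] (h : ¬ Q ≤ H) :
    ∃ q ∈ Q, q ∉ H ∧ ∀ r ∈ H, q * r * q⁻¹ ∈ H := by
  haveI : Group.IsNilpotent X := hX.isNilpotent
  set U := H ⊔ Q with hU
  have hne : H.subgroupOf U ≠ ⊤ := fun ht => h (le_sup_right.trans (Subgroup.subgroupOf_eq_top.1 ht))
  haveI : Group.IsNilpotent U := (hX.to_subgroup U).isNilpotent
  have hlt := Group.normalizerCondition_of_isNilpotent (H := H.subgroupOf U) (lt_top_iff_ne_top.2 hne)
  obtain ⟨g, hg, hgH⟩ := SetLike.exists_of_lt hlt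
  obtain ⟨r, hr, q, hq, hrq⟩ := Subgroup.mem_sup_of_normal_right.1 (g.2 : (g : X) ∈ H ⊔ Q)
  refine ⟨q, hq, fun hqH => hgH (Subgroup.mem_subgroupOf.2 (hrq ▸ mul_mem hr hqH)), fun s hs => ?_⟩
  have hs' : (⟨s, (le_sup_left : H ≤ U) hs⟩ : U) ∈ H.subgroupOf U := Subgroup.mem_subgroupOf.2 hs
  have h1 := Subgroup.mem_subgroupOf.1 ((Subgroup.mem_normalizer_iff.1 hg _).1 hs')
  simp only [Subgroup.coe_mul, Subgroup.coe_inv] at h1
  have h2 := mul_mem (mul_mem (inv_mem hr) h1) hr
  rw [← hrq] at h2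
  simpa [mul_assoc] using h2

end Cfsg.Agent.Lib.Bicyclic
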