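import Cfsg.Agent.Lib.Bicyclic.Involution
import Cfsg.Agent.Lib.Bicyclic.FusionAux

/-!
The shape of an essential subgroup over a bicyclic 2-group with noncyclic derived subgroup.
-/

set_option autoImplicit false
set_option linter.style.haveILetI false
set_option linter.unusedSectionVars false

namespace Cfsg.Agent.Lib.Bicyclic

open Cfsg Cfsg.FusionSystem Cfsg.Agent.Lib.FS
open scoped commutatorElement

section Group

variable {X : Type*} [Group X]

theorem quaternion_sq_one : ∀ u v : QuaternionGroup 2, u * u = 1 → v * v = 1 → u ≠ 1 → v ≠ 1 → u = v := by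
  decide

namespace Data

variable (N : Data X)

theorem swap_Phi_le : N.swap.Phi ≤ N.Phi :=
  sup_le (Subgroup.zpowers_le.2 (N.sq_mem_Phi _)) le_sup_right

theorem Phi_le_swap_Phi : N.Phi ≤ N.swap.Phi :=
  sup_le (Subgroup.zpowers_le.2 (N.swap.sq_mem_Phi _)) le_sup_right

/-- A proper subgroup meets at most two cosets of `Φ`. -/
theorem proper_cosets [Finite X] (hX : IsPGroup 2 X) {H : Subgroup X} (hH : H ≠ ⊤) {r s : X}
    (hr : r ∈ H) (hs : s ∈ H) (hrP : r ∉ N.Phi) : s ∈ N.Phi ∨ r⁻¹ * s ∈ N.Phi := by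
  have htop : ∀ u v : X, u ∈ H → v ∈ H → Subgroup.closure ({u, v} : Set X) ≠ ⊤ := by
    intro u v hu hv h
    refine hH (eq_top_iff.2 (h ▸ (Subgroup.closure_le _).2 ?_))
    rintro w (rfl | rfl) <;> assumption
  by_contra hcon
  obtain ⟨hsP, hrsP⟩ := not_or.1 hcon
  have hrs : r⁻¹ * s ∈ H := mul_mem (inv_mem hr) hs
  by_cases hrM : r ∈ N.Mid
  · by_cases hsM : s ∈ N.Mid
    · obtain ⟨i, j, hij⟩ := N.exists_form r
      obtain ⟨k, l, hkl⟩ := N.exists_form s
      -- both lie in the coset of `b`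
      have hb : ∀ g : X, g ∈ N.Mid → g ∉ N.Phi → N.b⁻¹ * g ∈ N.Phi := by
        intro g hg hgP
        obtain ⟨p, hp, q, hq, rfl⟩ := Subgroup.mem_sup_of_normal_right.1 hg
        obtain ⟨n, rfl⟩ := Subgroup.mem_zpowers_iff.1 hp
        rcases Int.even_or_odd n with ⟨e, rfl⟩ | ⟨e, rfl⟩
        · refine absurd (mul_mem ?_ hq) hgP
          rw [← two_mul, zpow_mul, zpow_two, ← pow_two]
          exact N.commutator_le_Phi (zpow_mem N.b_sq_mem e)
        · rw [← mul_assoc, add_comm, zpow_add, zpow_one, inv_mul_cancel_left, zpow_mul, zpow_two,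
            ← pow_two]
          exact mul_mem (N.commutator_le_Phi (zpow_mem N.b_sq_mem e)) hq
      have h1 := mul_mem (inv_mem (hb r hrM hrP)) (hb s hsM hsP)
      rw [mul_inv_rev, inv_inv, mul_assoc, mul_inv_cancel_left] at h1
      exact hrsP h1
    · exact htop s r hs hr (N.gen_of_not_mem_Mid hX hsM hrM hrP)
  · by_cases hsM : s ∈ N.Mid
    · exact htop r s hr hs (N.gen_of_not_mem_Mid hX hrM hsM hsP)
    · refine htop r (r⁻¹ * s) hr hrs (N.gen_of_not_mem_Mid hX hrM ?_ hrsP)
      obtain ⟨i, j, hij⟩ := N.exists_form r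
      obtain ⟨k, l, hkl⟩ := N.exists_form s
      have hi : Odd i := Int.not_even_iff_odd.1 fun h => hrM (N.mem_Mid hij h)
      have hk : Odd k := Int.not_even_iff_odd.1 fun h => hsM (N.mem_Mid hkl h)
      haveI : IsMulCommutative (X ⧸ commutator X) :=
        Subgroup.Normal.quotient_commutative_iff_commutator_le.2 le_rfl
      have hcomm : ∀ p q : X ⧸ commutator X, Commute p q := IsMulCommutative.is_comm.comm
      refine N.mem_Mid (i := k - i) (j := l - j) ?_ (hk.sub_odd hi)
      refine QuotientGroup.eq.1 ?_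
      rw [QuotientGroup.mk_mul, QuotientGroup.mk_mul, QuotientGroup.mk_inv, ← QuotientGroup.eq.2 hij,
        ← QuotientGroup.eq.2 hkl, QuotientGroup.mk_mul, QuotientGroup.mk_mul]
      simp only [zpow_sub, QuotientGroup.mk_mul, QuotientGroup.mk_inv, QuotientGroup.mk_zpow,
        mul_inv_rev]
      set A := (N.a : X ⧸ commutator X) with hA
      set B := (N.b : X ⧸ commutator X) with hB
      rw [((hcomm (A ^ k) ((A ^ i)⁻¹)).eq), ((hcomm (B ^ l) ((B ^ j)⁻¹)).eq)]
      rw [mul_assoc ((A ^ i)⁻¹), ← mul_assoc (A ^ k) ((B ^ j)⁻¹), (hcomm (A ^ k) ((B ^ j)⁻¹)).eq,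
        ← mul_assoc, ← mul_assoc, (hcomm ((A ^ i)⁻¹) ((B ^ j)⁻¹)).eq]
      group

end Data

namespace NData

variable (N : NData X)

theorem Long_or [Finite X] {g : X} (hg : g ∉ N.Mid) : g ∈ N.Long ∨ g ∈ N.swap.Long := by
  obtain ⟨i, j, hij⟩ := N.exists_form g
  rcases Int.even_or_odd j with hj | hj
  · left
    have h1 : N.a ^ i * N.b ^ j ∈ N.Long := by
      refine mul_mem (Subgroup.mem_sup_left (zpow_mem (Subgroup.mem_zpowers _) i)) (Subgroup.mem_sup_right ?_)
      obtain ⟨q, rfl⟩ := hj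
      rw [← two_mul, zpow_mul, zpow_two, ← pow_two]
      exact N.commutator_le_Phi (zpow_mem N.b_sq_mem q)
    have := mul_mem h1 (Subgroup.mem_sup_right (N.commutator_le_Phi hij) :
      (N.a ^ i * N.b ^ j)⁻¹ * g ∈ N.Long)
    rwa [mul_inv_cancel_left] at this
  · right
    have hi : Odd i := Int.not_even_iff_odd.1 fun hi => hg (N.mem_Mid hij hi)
    have h1 : (N.a⁻¹ * N.b)⁻¹ * g ∈ N.Phi := by
      refine N.mem_Phi_of_even (i := i + 1) (j := j - 1) ?_ (hi.add_odd odd_one) (hj.sub_odd odd_one)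
      haveI : IsMulCommutative (X ⧸ commutator X) :=
        Subgroup.Normal.quotient_commutative_iff_commutator_le.2 le_rfl
      have hcomm : ∀ p q : X ⧸ commutator X, Commute p q := IsMulCommutative.is_comm.comm
      refine QuotientGroup.eq.1 ?_
      rw [QuotientGroup.mk_mul, QuotientGroup.mk_mul, ← QuotientGroup.eq.2 hij]
      simp only [mul_inv_rev, inv_inv, QuotientGroup.mk_mul, QuotientGroup.mk_inv, QuotientGroup.mk_zpow]
      rw [(hcomm ((N.b : X ⧸ commutator X)⁻¹) (N.a : X ⧸ commutator X)).eq, zpow_add, zpow_sub, zpow_one,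
        zpow_one]
      rw [mul_assoc (N.a : X ⧸ commutator X), ← mul_assoc ((N.b : X ⧸ commutator X)⁻¹),
        (hcomm ((N.b : X ⧸ commutator X)⁻¹) ((N.a : X ⧸ commutator X) ^ i)).eq]
      rw [(hcomm ((N.b : X ⧸ commutator X) ^ j) ((N.b : X ⧸ commutator X)⁻¹)).eq,
        (hcomm ((N.a : X ⧸ commutator X) ^ i) (N.a : X ⧸ commutator X)).eq]
      group
    have h2 := mul_mem (Subgroup.mem_sup_left (Subgroup.mem_zpowers (N.a⁻¹ * N.b)) :
      N.a⁻¹ * N.b ∈ N.swap.Long) (Subgroup.mem_sup_right (N.Phi_le_swap_Phi h1))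
    rwa [mul_inv_cancel_left] at h2

theorem long_le [Finite X] {H : Subgroup X} (hH : H ≠ ⊤) (hHM : ¬ H ≤ N.Mid) :
    ∃ L : Subgroup X, H ≤ L ∧ Cfsg.IsMetacyclic L := by
  obtain ⟨g, hg, hgM⟩ := SetLike.not_le_iff_exists.1 hHM
  have hgP : g ∉ N.Phi := fun h => hgM (N.Phi_le_Mid h)
  have key : ∀ L : Subgroup X, g ∈ L → N.Phi ≤ L → H ≤ L := fun L hgL hPL s hs => by
    rcases N.proper_cosets N.isTwo hH hg hs hgP with h | h
    · exact hPL h
    · simpa using mul_mem hgL (hPL h)
  rcases N.Long_or hgM with h | h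
  · exact ⟨N.Long, key _ h le_sup_right, N.long_metacyclic⟩
  · exact ⟨N.swap.Long, key _ h (N.Phi_le_swap_Phi.trans le_sup_right), N.swap.long_metacyclic⟩

/-- Every involution of a commutative metacyclic subgroup containing `W` lies in `W`. -/
theorem mem_W_of_metacyclic [Finite X] {L H : Subgroup X} (hL : Cfsg.IsMetacyclic L) (hHL : H ≤ L)
    (hWH : N.W ≤ H) (hc : ∀ u ∈ H, ∀ v ∈ H, u * v = v * u) {u : X} (hu : u ∈ H) (h2 : u ^ 2 = 1) :
    u ∈ N.W := by
  by_contra hne
  set E : Subgroup X := Subgroup.zpowers u ⊔ N.W with hE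
  have hEH : E ≤ H := sup_le (Subgroup.zpowers_le.2 hu) hWH
  have hsq : ∀ v ∈ E, v ^ 2 = 1 := by
    intro v hv
    obtain ⟨p, hp, w, hw, rfl⟩ := Subgroup.mem_sup_of_normal_right.1 hv
    obtain ⟨k, rfl⟩ := Subgroup.mem_zpowers_iff.1 hp
    rw [((show Commute u w from hc u hu w (hWH hw)).zpow_left k).mul_pow, hw.2, mul_one, ← zpow_natCast,
      ← zpow_mul, mul_comm, zpow_mul, zpow_natCast, h2, one_zpow]
  have h4 : Nat.card E ≤ 4 := by
    have hmE := TwoGroups.MetacyclicTwo.subgroup_metacyclic hL (E.subgroupOf L)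
    have h := card_le_four_of_sq_one hmE fun v => Subtype.ext (Subtype.ext (hsq _ v.2))
    rwa [Nat.card_congr (Subgroup.subgroupOfEquivOfLe (hEH.trans hHL)).toEquiv] at h
  exact hne ((Subgroup.eq_of_le_of_card_ge le_sup_right (h4.trans N.card_W.ge)).ge
    (Subgroup.mem_sup_left (Subgroup.mem_zpowers u)))

/-- `W` is generated by `z` and any further element. -/
theorem W_le_of_two [Finite X] {z u : X} (hz : z ∈ N.W) (hz1 : z ≠ 1) (hu : u ∈ N.W) (hu1 : u ≠ 1)
    (huz : u ≠ z) {H : Subgroup X} (hzH : z ∈ H) (huH : u ∈ H) : N.W ≤ H := by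
  classical
  haveI : Fintype N.W := Fintype.ofFinite _
  have hsub : H.subgroupOf N.W = ⊤ := by
    have h3 : 3 ≤ Nat.card (H.subgroupOf N.W) := by
      let f : Fin 3 → H.subgroupOf N.W :=
        ![1, ⟨⟨z, hz⟩, Subgroup.mem_subgroupOf.2 hzH⟩, ⟨⟨u, hu⟩, Subgroup.mem_subgroupOf.2 huH⟩]
      have hf : Function.Injective f := by
        intro i j h
        fin_cases i <;> fin_cases j <;> simp_all [f, Subtype.ext_iff]
      simpa using Nat.card_le_card_of_injective f hf
    have hdvd := Subgroup.card_subgroup_dvd_card (H.subgroupOf N.W)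
    rw [N.card_W] at hdvd
    have hle := Nat.le_of_dvd (by norm_num) hdvd
    refine Subgroup.eq_top_of_card_eq _ ?_
    rw [N.card_W]
    interval_cases hv : Nat.card (H.subgroupOf N.W) <;> omega
  exact Subgroup.subgroupOf_eq_top.1 hsub

end NData

end Group

variable {Ω : Type*} [Group Ω] {S : Subgroup Ω} [Finite S] {F : FusionSystem S} {R : Subgroup Ω}

/-- Basic data of an essential subgroup read inside `S`. -/
theorem centric_sub (hR : F.IsEssential 2 R) {g : S} (h : ∀ r ∈ R.subgroupOf S, g * r = r * g) :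
    g ∈ R.subgroupOf S :=
  Subgroup.mem_subgroupOf.2 (hR.1.2 R (isConj_refl F hR.2.1.1)
    (mem_centralizerIn'.2 ⟨g.2, fun y hy => mul_inv_eq_iff_eq_mul.2
      (congrArg Subtype.val (h ⟨y, hR.2.1.1 hy⟩ (Subgroup.mem_subgroupOf.2 hy)))⟩))

theorem mem_normalizerIn_sub (hRS : R ≤ S) {g : S}
    (h : ∀ r ∈ R.subgroupOf S, g * r * g⁻¹ ∈ R.subgroupOf S) : (g : Ω) ∈ normalizerIn S R := by
  haveI := finite_sub hRS
  refine ⟨g.2, mem_normalizer_of_conj_mem fun r hr => ?_⟩
  exact Subgroup.mem_subgroupOf.1 (h ⟨r, hRS hr⟩ (Subgroup.mem_subgroupOf.2 hr))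

theorem ne_top_sub (hS : IsPGroup 2 S) (hF : F.IsSaturated 2) (hR : F.IsEssential 2 R) :
    R.subgroupOf S ≠ ⊤ := fun h => by
  obtain ⟨-, -, -, -, hne⟩ := FusionEssential.exists_data hS hF hR
  exact hne (le_antisymm hR.2.1.1 (Subgroup.subgroupOf_eq_top.1 h))

/-- `W` lies in every essential subgroup. -/
theorem W_le_essential (hS : IsPGroup 2 S) (hF : F.IsSaturated 2) (N : NData S)
    (hR : F.IsEssential 2 R) : N.W ≤ R.subgroupOf S := by
  classical
  have hRS : R ≤ S := hR.2.1.1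
  haveI := finite_sub hRS
  set R' := R.subgroupOf S with hR'
  obtain ⟨z, hz, hz1, hzc⟩ := N.exists_z
  have hzR : z ∈ R' := centric_sub hR fun r _ => (Subgroup.mem_center_iff.1 hzc r).symm
  by_contra hW
  obtain ⟨w, hw, hwR⟩ := SetLike.not_le_iff_exists.1 hW
  have hrw : ∀ r ∈ R', w * r * w⁻¹ = r ∨ w * r * w⁻¹ = r * z := by
    intro r _
    have hz2 : z⁻¹ = z := inv_eq_of_mul_eq_one_right (by rw [← pow_two, hz.2])
    rcases N.W_cases hz hz1 hzc hw r with h | h
    · exact Or.inl (mul_inv_eq_iff_eq_mul.2 (mul_inv_eq_iff_eq_mul.1 h).symm)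
    · right
      have h1 : r * w = w * z * r := mul_inv_eq_iff_eq_mul.1 h
      have h2 : w * r = z⁻¹ * (r * w) := by
        rw [h1, Subgroup.mem_center_iff.1 hzc w, mul_assoc, inv_mul_cancel_left]
      rw [h2, hz2, mul_assoc z, mul_inv_cancel_right, Subgroup.mem_center_iff.1 hzc r]
  -- `z` is not a square in `R`
  by_cases hsq : ∃ v ∈ R', v ^ 2 = z
  · obtain ⟨v, hv, hvz⟩ := hsq
    let K : Subgroup (MulAut R) :=
      { carrier := {α | α ∈ F.autGroup R ∧ ∀ r : R, α r * r⁻¹ ∈ frattini R}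
        one_mem' := ⟨one_mem _, fun r => by simp⟩
        mul_mem' := fun {α β} hα hβ => ⟨mul_mem hα.1 hβ.1, fun r => by
          have := mul_mem (hα.2 (β r)) (hβ.2 r)
          simpa [mul_assoc] using this⟩
        inv_mem' := fun {α} hα => ⟨inv_mem hα.1, fun r => by
          have := inv_mem (hα.2 (α⁻¹ r))
          simpa using this⟩ }
    have hR2 : IsPGroup 2 R := isPGroup_of_le hS hRS
    have hp : IsPGroup 2 K := TwoGroups.MetacyclicFusion.isPGroup_of_odd K fun φ hφ hodd =>
      LA5.HSub.Core.eq_one_of_mod φ hR2 (Nat.coprime_two_right.2 hodd) (N := frattini R) hφ.2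
        (Or.inr le_rfl)
    have hKle : K ≤ F.autGroup R := fun α hα => hα.1
    have hn : ∀ α ∈ F.autGroup R, ∀ k ∈ K, α * k * α⁻¹ ∈ K := fun α hα k hk =>
      ⟨mul_mem (mul_mem hα hk.1) (inv_mem hα), fun r => by
        have hchar : (frattini R).map α.toMonoidHom = frattini R :=
          Subgroup.characteristic_iff_map_eq.1 frattini_characteristic α
        have h1 := Subgroup.mem_map_of_mem α.toMonoidHom (hk.2 (α⁻¹ r))
        rw [hchar] at h1
        simpa using h1⟩
    have hwN : (w : Ω) ∈ normalizerIn S R := mem_normalizerIn_sub hRS fun r hr => by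
      rcases hrw r hr with h | h <;> rw [h]
      · exact hr
      · exact mul_mem hr hzR
    refine hwR (Subgroup.mem_subgroupOf.2 (mem_of_stab hS hF hR hKle hn hp hwN ⟨?_, ?_⟩))
    · exact autInducedBy_le_autGroup F hRS (mem_autInducedBy.2 ⟨w, w.2, fun _ => rfl⟩)
    · intro r
      have hzF : (⟨(z : Ω), Subgroup.mem_subgroupOf.1 hzR⟩ : R) ∈ frattini R := by
        have : (⟨(z : Ω), Subgroup.mem_subgroupOf.1 hzR⟩ : R) = (⟨(v : Ω), Subgroup.mem_subgroupOf.1 hv⟩ : R) ^ 2 :=
          Subtype.ext (congrArg Subtype.val hvz).symm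
        rw [this]
        exact PGroups.pow_mem_frattini hR2 _
      rcases hrw ⟨r, hRS r.2⟩ (Subgroup.mem_subgroupOf.2 r.2) with h | h
      · have : R.normalizerMonoidHom ⟨(w : Ω), hwN.2⟩ r = r :=
          Subtype.ext (congrArg Subtype.val h :)
        rw [this, mul_inv_cancel]
        exact one_mem _
      · have : R.normalizerMonoidHom ⟨(w : Ω), hwN.2⟩ r = r * ⟨(z : Ω), Subgroup.mem_subgroupOf.1 hzR⟩ :=
          Subtype.ext (congrArg Subtype.val h :)
        rw [this]
        exact (inferInstance : (frattini R).Normal).conj_mem _ hzF r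
  push Not at hsq
  have hWR : ∀ u ∈ N.W, u ∈ R' → u = 1 ∨ u = z := by
    intro u hu huR
    by_contra! h
    exact hW (N.W_le_of_two hz hz1 hu h.1 h.2 hzR huR)
  have hR0 : ∀ v ∈ R', v ∈ N.Phi → v = 1 ∨ v = z := by
    intro v hv hvP
    obtain ⟨k, hk⟩ := hS v
    induction k generalizing v with
    | zero => exact Or.inl (by simpa using hk)
    | succ k ih =>
      rcases ih (v ^ 2) (pow_mem hv 2) (pow_mem hvP 2) (by rw [← pow_mul, ← pow_succ', hk]) with h | h
      · exact hWR v (N.mem_W_of_sq hvP h) hv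
      · exact absurd h (hsq v hv)
  -- so `R` has order at most four and its centralizer at least eight
  have hbound : ∀ r ∈ R', r ∉ N.Phi → ∀ s ∈ R', s = 1 ∨ s = z ∨ s = r ∨ s = r * z := by
    intro r hr hrP s hs
    rcases N.proper_cosets N.isTwo (ne_top_sub hS hF hR) hr hs hrP with h | h
    · rcases hR0 s hs h with h' | h'
      · exact Or.inl h'
      · exact Or.inr (Or.inl h')
    · rcases hR0 _ (mul_mem (inv_mem hr) hs) h with h' | h'
      · exact Or.inr (Or.inr (Or.inl (inv_mul_eq_one.1 h').symm))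
      · exact Or.inr (Or.inr (Or.inr (inv_mul_eq_iff_eq_mul.1 h')))
  obtain ⟨r, hrR, hrall⟩ : ∃ r ∈ R', ∀ s ∈ R', s = 1 ∨ s = z ∨ s = r ∨ s = r * z := by
    by_cases h : ∃ r ∈ R', r ∉ N.Phi
    · obtain ⟨r, hr, hrP⟩ := h
      exact ⟨r, hr, hbound r hr hrP⟩
    · push Not at h
      exact ⟨z, hzR, fun s hs => (hR0 s hs (h s hs)).elim Or.inl fun h' => Or.inr (Or.inl h')⟩
  have hC : (Subgroup.centralizer ({r} : Set S)) ≤ R' := by
    intro g hg
    have hgr : Commute g r := Subgroup.mem_centralizer_singleton_iff.1 hg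
    have hgz : Commute g z := Subgroup.mem_center_iff.1 hzc g
    refine centric_sub hR fun s hs => ?_
    rcases hrall s hs with rfl | rfl | rfl | rfl
    · simp
    · exact hgz.eq
    · exact hgr.eq
    · exact (hgr.mul_right hgz).eq
  have h4 : Nat.card R' ≤ 4 := by
    let f : Fin 4 → R' := ![1, ⟨z, hzR⟩, ⟨r, hrR⟩, ⟨r * z, mul_mem hrR hzR⟩]
    have hf : Function.Surjective f := by
      rintro ⟨s, hs⟩
      rcases hrall s hs with h | h | h | h
      · exact ⟨0, Subtype.ext h.symm⟩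
      · exact ⟨1, Subtype.ext h.symm⟩
      · exact ⟨2, Subtype.ext h.symm⟩
      · exact ⟨3, Subtype.ext h.symm⟩
    simpa using Nat.card_le_card_of_surjective f hf
  have h8 := N.eight_le_index.trans (Data.index_le_centralizer r)
  have := Subgroup.card_le_of_le hC
  omega

/-- Essential subgroups lie in the middle maximal subgroup and are not inside the Frattini subgroup. -/
theorem le_Mid_of_essential (hS : IsPGroup 2 S) (hF : F.IsSaturated 2) (N : NData S)
    (hR : F.IsEssential 2 R) : R.subgroupOf S ≤ N.Mid ∧ ¬ R.subgroupOf S ≤ N.Phi := by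
  classical
  have hRS : R ≤ S := hR.2.1.1
  haveI := finite_sub hRS
  set R' := R.subgroupOf S with hR'
  have hW := W_le_essential hS hF N hR
  obtain ⟨φ, hφ, hφo, hφ1⟩ := exists_odd hS hF hR
  -- a metacyclic overgroup forces `R` to be homocyclic, then automorphisms fixing `W` are trivial
  have key : ∀ L : Subgroup S, Cfsg.IsMetacyclic L → R' ≤ L →
      (∀ u ∈ R', ∀ v ∈ R', u * v = v * u) ∧
      ∀ g : S, (∀ r ∈ R', g * r * g⁻¹ ∈ R') → (∀ w ∈ N.W, g * w = w * g) → g ∈ R' := by
    intro L hL hRL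
    have hm : Cfsg.IsMetacyclic R := by
      have h := TwoGroups.MetacyclicTwo.subgroup_metacyclic hL (R'.subgroupOf L)
      obtain ⟨K, hK, hKc, hQc⟩ := h
      let e : R'.subgroupOf L ≃* R :=
        (Subgroup.subgroupOfEquivOfLe hRL).trans (Subgroup.subgroupOfEquivOfLe hRS)
      haveI : (K.map e.toMonoidHom).Normal := hK.map _ e.surjective
      refine ⟨K.map e.toMonoidHom, inferInstance, ?_, ?_⟩
      · exact isCyclic_of_surjective (e.subgroupMap K).toMonoidHom (e.subgroupMap K).surjective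
      · exact isCyclic_of_surjective (QuotientGroup.congr K (K.map e.toMonoidHom) e rfl).toMonoidHom
          (QuotientGroup.congr K (K.map e.toMonoidHom) e rfl).surjective
    have hR2 : IsPGroup 2 R := isPGroup_of_le hS hRS
    have hc : ∀ u v : R, u * v = v * u := by
      rcases TwoGroups.MetacyclicTwo.aut_cases hR2 hm hφo hφ1 with ⟨⟨e⟩⟩ | ⟨n, -, ⟨e⟩⟩
      · exfalso
        obtain ⟨z, hz, hz1, hzc⟩ := N.exists_z
        obtain ⟨w, hw, hw1, hwz⟩ : ∃ w ∈ N.W, w ≠ 1 ∧ w ≠ z := by
          by_contra! h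
          haveI : Fintype N.W := Fintype.ofFinite _
          have h2 : (Finset.univ : Finset N.W) ⊆ {1, ⟨z, hz⟩} := fun s _ => by
            simp only [Finset.mem_insert, Finset.mem_singleton]
            by_cases hs : (s : S) = 1
            · exact Or.inl (Subtype.ext hs)
            · exact Or.inr (Subtype.ext (h s s.2 hs))
          have := (Finset.card_le_card h2).trans Finset.card_le_two
          rw [Finset.card_univ, ← Nat.card_eq_fintype_card, N.card_W] at this
          omega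
        set z' : R := ⟨z, Subgroup.mem_subgroupOf.1 (hW hz)⟩
        set w' : R := ⟨w, Subgroup.mem_subgroupOf.1 (hW hw)⟩
        have hz'2 : z' * z' = 1 := Subtype.ext (by
          have := congrArg Subtype.val hz.2; simpa [pow_two] using this)
        have hw'2 : w' * w' = 1 := Subtype.ext (by
          have := congrArg Subtype.val hw.2; simpa [pow_two] using this)
        have h := quaternion_sq_one (e w') (e z') (by rw [← map_mul, hw'2, map_one])
          (by rw [← map_mul, hz'2, map_one])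
          (fun h => hw1 (Subtype.ext (congrArg Subtype.val (e.injective (h.trans (map_one e).symm)) :)))
          (fun h => hz1 (Subtype.ext (congrArg Subtype.val (e.injective (h.trans (map_one e).symm)) :)))
        exact hwz (Subtype.ext (congrArg Subtype.val (e.injective h) :))
      · exact fun u v => e.injective (by rw [map_mul, map_mul, mul_comm])
    have hc' : ∀ u ∈ R', ∀ v ∈ R', u * v = v * u := fun u hu v hv => Subtype.ext (congrArg Subtype.val
      (hc ⟨u, Subgroup.mem_subgroupOf.1 hu⟩ ⟨v, Subgroup.mem_subgroupOf.1 hv⟩) :)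
    refine ⟨hc', fun g hgn hgW => ?_⟩
    let K : Subgroup (MulAut R) :=
      { carrier := {α | α ∈ F.autGroup R ∧ ∀ r : R, r ^ 2 = 1 → α r = r}
        one_mem' := ⟨one_mem _, fun _ _ => rfl⟩
        mul_mem' := fun {α β} hα hβ => ⟨mul_mem hα.1 hβ.1, fun r hr => by
          rw [MulAut.mul_apply, hβ.2 r hr, hα.2 r hr]⟩
        inv_mem' := fun {α} hα => ⟨inv_mem hα.1, fun r hr => by
          conv_lhs => rw [← hα.2 r hr]
          exact MulAut.inv_apply_self _ _ _⟩ }
    have hp : IsPGroup 2 K := TwoGroups.MetacyclicFusion.isPGroup_of_odd K fun ψ hψ ho =>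
      eq_one_of_fix_sq hR2 hc ho hψ.2
    have hKle : K ≤ F.autGroup R := fun α hα => hα.1
    have hn : ∀ α ∈ F.autGroup R, ∀ k ∈ K, α * k * α⁻¹ ∈ K := fun α hα k hk =>
      ⟨mul_mem (mul_mem hα hk.1) (inv_mem hα), fun r hr => by
        rw [MulAut.mul_apply, MulAut.mul_apply, hk.2 _ (by rw [← map_pow, hr, map_one]),
          MulAut.apply_inv_self]⟩
    have hgN := mem_normalizerIn_sub hRS hgn
    refine Subgroup.mem_subgroupOf.2 (mem_of_stab hS hF hR hKle hn hp hgN ⟨?_, ?_⟩)
    · exact autInducedBy_le_autGroup F hRS (mem_autInducedBy.2 ⟨g, g.2, fun _ => rfl⟩)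
    · intro r hr
      have hrW : (⟨r, hRS r.2⟩ : S) ∈ N.W :=
        N.mem_W_of_metacyclic hL hRL hW hc' (Subgroup.mem_subgroupOf.2 r.2)
          (Subtype.ext (congrArg Subtype.val hr :))
      refine Subtype.ext ?_
      show (g : Ω) * r * (g : Ω)⁻¹ = r
      exact mul_inv_eq_iff_eq_mul.2 (congrArg Subtype.val (hgW _ hrW))
  have hM : R' ≤ N.Mid := by
    by_contra hnle
    obtain ⟨L, hRL, hL⟩ := N.long_le (ne_top_sub hS hF hR) hnle
    obtain ⟨hc, hker⟩ := key L hL hRL
    have hD : commutator S ≤ R' := by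
      by_contra hD
      obtain ⟨d, hd, hdR, hdn⟩ := exists_normalizer_of_normal hS (H := R') hD
      exact hdR (hker d hdn fun w hw => N.comm d hd w hw.1)
    obtain ⟨g, hg, hgM⟩ := SetLike.not_le_iff_exists.1 hnle
    exact N.not_commute_c hgM (hc g hg _ (hD N.c_mem))
  refine ⟨hM, fun hP => ?_⟩
  obtain ⟨hc, hker⟩ := key N.Phi N.phi_metacyclic hP
  have hPR : N.Phi ≤ R' := by
    by_contra hPR
    obtain ⟨d, hd, hdR, hdn⟩ := exists_normalizer_of_normal hS (H := R') hPR
    exact hdR (hker d hdn fun w hw => N.Phi_centralizes_W hd hw)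
  have heq : R' = N.Phi := le_antisymm hP hPR
  -- an element outside `Φ` centralising `W`
  obtain ⟨g, hgP, hgW⟩ : ∃ g : S, g ∉ N.Phi ∧ g ∈ Subgroup.centralizer (N.W : Set S) := by
    by_contra! h
    have h1 := h N.a N.a_not_mem_Phi
    have h2 := h N.b N.b_not_mem_Phi
    refine h (N.a * N.b) ?_ (N.mul_mem_centralizer_W h1 h2)
    intro hab
    exact N.b_not_mem_Phi (by
      have hm : N.a * N.b ∈ N.Mid := N.Phi_le_Mid hab
      exact absurd ((mul_mem_cancel_right (Subgroup.mem_sup_left (Subgroup.mem_zpowers _) :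
        N.b ∈ N.Mid)).1 hm) N.a_not_mem_Mid)
  refine hgP (hP (hker g (fun r hr => ?_) fun w hw => (Subgroup.mem_centralizer_iff.1 hgW w hw).symm))
  rw [heq] at hr ⊢
  exact N.Phi_normal.conj_mem r hr g

end Cfsg.Agent.Lib.Bicyclic
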