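import Cfsg.Agent.Lib.Bicyclic.EssentialFix
import Cfsg.Agent.Lib.FusionSystem.FactorSaturated

/-!
Saturated fusion systems over bicyclic nonmetacyclic 2-groups with noncyclic derived subgroup are inner.
-/

set_option autoImplicit false
set_option linter.style.haveILetI false
set_option linter.unusedSectionVars false

namespace Cfsg.Agent.Lib.Bicyclic

open Cfsg Cfsg.FusionSystem Cfsg.Agent.Lib.FS
open scoped commutatorElement

section Group

variable {X : Type*} [Group X] {Y : Type*} [Group Y]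

theorem map_commutator_surj (f : X →* Y) (hf : Function.Surjective f) :
    (commutator X).map f = commutator Y := by
  rw [commutator_def, Subgroup.map_commutator, Subgroup.map_top_of_surjective _ hf, commutator_def]

theorem dK_le_map (f : X →* Y) (hf : Function.Surjective f) : dK Y ≤ (dK X).map f := by
  refine sup_le ?_ ?_
  · rw [← map_commutator_surj f hf, ← Subgroup.map_top_of_surjective f hf, ← Subgroup.map_commutator]
    exact Subgroup.map_mono le_sup_left
  · refine (Subgroup.closure_le _).2 ?_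
    rintro _ ⟨d, hd, rfl⟩
    rw [← map_commutator_surj f hf] at hd
    obtain ⟨e, he, rfl⟩ := hd
    exact ⟨e ^ 2, sq_mem_dK he, map_pow f e 2⟩

/-- The data pass to quotients by subgroups of the squares of the derived subgroup. -/
def NData.map [Finite X] (N : NData X) (f : X →* Y) (hf : Function.Surjective f) (hker : f.ker ≤ dSq X)
    (hY : IsPGroup 2 Y) : NData Y where
  a := f N.a
  b := f N.b
  m := N.m
  two_le := N.two_le
  gen := gens_map f hf N.gen
  prod := fun g => by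
    obtain ⟨g, rfl⟩ := hf g
    obtain ⟨i, j, h⟩ := N.prod g
    exact ⟨i, j, by rw [h, map_mul, map_zpow, map_zpow, map_mul, map_inv]⟩
  sq_b := by
    have h := Subgroup.mem_map_of_mem f (N.sq_b)
    rw [map_pow] at h
    have hle : (dK X).map f ≤ dK Y := by
      rw [dK, Subgroup.map_sup, Subgroup.map_commutator, map_commutator_surj f hf,
        Subgroup.map_top_of_surjective _ hf]
      refine sup_le le_sup_left ?_
      rw [dSq, MonoidHom.map_closure]
      refine (Subgroup.closure_le _).2 ?_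
      rintro _ ⟨_, ⟨d, hd, rfl⟩, rfl⟩
      rw [map_pow]
      exact sq_mem_dK (map_commutator_surj f hf ▸ Subgroup.mem_map_of_mem f hd)
    exact hle h
  pow_a := by
    have h := Subgroup.mem_map_of_mem f (N.pow_a)
    rw [map_pow] at h
    have hle : (dK X).map f ≤ dK Y := by
      rw [dK, Subgroup.map_sup, Subgroup.map_commutator, map_commutator_surj f hf,
        Subgroup.map_top_of_surjective _ hf]
      refine sup_le le_sup_left ?_
      rw [dSq, MonoidHom.map_closure]
      refine (Subgroup.closure_le _).2 ?_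
      rintro _ ⟨_, ⟨d, hd, rfl⟩, rfl⟩
      rw [map_pow]
      exact sq_mem_dK (map_commutator_surj f hf ▸ Subgroup.mem_map_of_mem f hd)
    exact hle h
  parity := fun i j h => by
    refine N.parity i j ?_
    rw [← map_zpow, ← map_zpow, ← map_mul, ← map_commutator_surj f hf] at h
    obtain ⟨e, he, hee⟩ := h
    have h1 : e⁻¹ * (N.a ^ i * N.b ^ j) ∈ commutator X :=
      dSq_le (hker (by rw [MonoidHom.mem_ker, map_mul, map_inv, hee, inv_mul_cancel]))
    have h2 := mul_mem he h1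
    rwa [mul_inv_cancel_left] at h2
  not_mem := fun h => by
    obtain ⟨e, he, hee⟩ := dK_le_map f hf h
    have h1 : e⁻¹ * ⁅N.a, N.b⁆ ∈ dK X :=
      Subgroup.mem_sup_right (hker (by
        rw [MonoidHom.mem_ker, map_mul, map_inv, hee, map_commutatorElement, inv_mul_cancel]))
    have h2 := mul_mem he h1
    rw [mul_inv_cancel_left] at h2
    exact N.not_mem h2
  isTwo := hY
  comm := fun u hu v hv => by
    rw [← map_commutator_surj f hf] at hu hv
    obtain ⟨u, hu, rfl⟩ := hu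
    obtain ⟨v, hv, rfl⟩ := hv
    rw [← map_mul, N.comm u hu v hv, map_mul]
  ncyc := fun hcyc => by
    obtain ⟨g, hg⟩ := hcyc.exists_generator
    obtain ⟨d, hd, hdg⟩ : ∃ d ∈ commutator X, f d = g := (map_commutator_surj f hf).ge g.2
    refine N.ncyc ⟨⟨⟨d, hd⟩, fun u => ?_⟩⟩
    set D := commutator X
    have hfr : Subgroup.zpowers (⟨d, hd⟩ : D) ⊔ frattini D = ⊤ := by
      refine eq_top_iff.2 fun u _ => ?_
      obtain ⟨k, hk⟩ := Subgroup.mem_zpowers_iff.1
        (hg ⟨f u, map_commutator_surj f hf ▸ Subgroup.mem_map_of_mem f u.2⟩)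
      have hk' : f d ^ k = f u := by rw [hdg]; exact congrArg Subtype.val hk
      obtain ⟨e, he, hee⟩ := N.exists_sq (hker (show (d ^ k)⁻¹ * u ∈ f.ker by
        rw [MonoidHom.mem_ker, map_mul, map_inv, map_zpow, hk', inv_mul_cancel]))
      have hu : u = (⟨d, hd⟩ : D) ^ k * (⟨e, he⟩ : D) ^ 2 := by
        apply Subtype.ext
        simp only [Subgroup.coe_mul, SubgroupClass.coe_zpow, SubmonoidClass.coe_pow]
        rw [← hee, mul_inv_cancel_left]
      rw [hu]
      exact mul_mem (Subgroup.mem_sup_left (zpow_mem (Subgroup.mem_zpowers _) k))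
        (Subgroup.mem_sup_right (PGroups.pow_mem_frattini (N.isTwo.to_subgroup D) _))
    exact (frattini_nongenerating hfr).ge (Subgroup.mem_top u)

/-- A nontrivial normal subgroup of a 2-group contains a central element of order two. -/
theorem exists_central_involution [Finite X] (hX : IsPGroup 2 X) {U : Subgroup X} [U.Normal]
    (hU : U ≠ ⊥) : ∃ z ∈ U, z ≠ 1 ∧ z ^ 2 = 1 ∧ z ∈ Subgroup.center X := by
  classical
  have h1 : U ⊓ Subgroup.center X ≠ ⊥ := by
    letI : MulAction X U :=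
      { smul := fun g w => ⟨g * w * g⁻¹, (inferInstance : U.Normal).conj_mem w w.2 g⟩
        one_smul := fun w => Subtype.ext (by show 1 * (w : X) * 1⁻¹ = w; simp)
        mul_smul := fun g h w => Subtype.ext (by
          show g * h * (w : X) * (g * h)⁻¹ = g * (h * w * h⁻¹) * g⁻¹; group) }
    haveI : Nontrivial U := (Subgroup.nontrivial_iff_ne_bot U).2 hU
    obtain ⟨n, hn, hcard⟩ := (hX.to_subgroup U).nontrivial_iff_card.1 inferInstance
    have hfix : (1 : U) ∈ MulAction.fixedPoints X U := fun g =>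
      Subtype.ext (by show g * 1 * g⁻¹ = 1; simp)
    obtain ⟨w, hw, hne⟩ := hX.exists_fixed_point_of_prime_dvd_card_of_fixed_point U
      (hcard ▸ dvd_pow_self 2 hn.ne') hfix
    intro hbot
    have hmem : (w : X) ∈ U ⊓ Subgroup.center X :=
      ⟨w.2, Subgroup.mem_center_iff.2 fun g => mul_inv_eq_iff_eq_mul.1 (congrArg Subtype.val (hw g))⟩
    rw [hbot, Subgroup.mem_bot] at hmem
    exact hne (Subtype.ext hmem.symm)
  haveI : Nontrivial ↥(U ⊓ Subgroup.center X) := (Subgroup.nontrivial_iff_ne_bot _).2 h1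
  obtain ⟨n, hn, hcard⟩ := (hX.to_subgroup (U ⊓ Subgroup.center X)).nontrivial_iff_card.1 inferInstance
  haveI : Fact (Nat.Prime 2) := ⟨Nat.prime_two⟩
  obtain ⟨w, hw⟩ := exists_prime_orderOf_dvd_card' (G := ↥(U ⊓ Subgroup.center X)) 2
    (hcard ▸ dvd_pow_self 2 hn.ne')
  rw [← Subgroup.orderOf_coe] at hw
  refine ⟨w, w.2.1, fun h => ?_, by rw [← hw, pow_orderOf_eq_one], w.2.2⟩
  rw [h, orderOf_one] at hw
  omega

end Group

variable {Ω : Type*} [Group Ω] {S : Subgroup Ω} [Finite S] {F : FusionSystem S} {R : Subgroup Ω}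

/-- No essential subgroups when the derived subgroup has exponent two. -/
theorem no_essential_base (hS : IsPGroup 2 S) (hF : F.IsSaturated 2) (N : NData S)
    (hD2 : ∀ d ∈ commutator S, d ^ 2 = 1) : ¬ F.IsEssential 2 R := by
  classical
  intro hR
  have hRS : R ≤ S := hR.2.1.1
  haveI := finite_sub hRS
  set R' := R.subgroupOf S with hR'
  obtain ⟨hM, hnP⟩ := le_Mid_of_essential hS hF N hR
  have hW := W_le_essential hS hF N hR
  have hDW : ∀ d ∈ commutator S, d ∈ N.W := fun d hd => ⟨hd, hD2 d hd⟩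
  have hsq : ∀ v ∈ dSq S, v = 1 := fun v hv => by
    obtain ⟨e, he, rfl⟩ := N.exists_sq hv
    exact hD2 e he
  have hcen : ∀ v ∈ dK S, ∀ g : S, v * g = g * v := fun v hv g => by
    have h := N.dK_central hv g
    have h1 : ⁅v, g⁆ = 1 := hsq _ ((QuotientGroup.eq_one_iff ⁅v, g⁆).1
      (commutatorElement_eq_one_iff_mul_comm.2 h.eq))
    exact commutatorElement_eq_one_iff_mul_comm.1 h1
  have htc : N.t ∈ Subgroup.center S :=
    Subgroup.mem_center_iff.2 fun g => (hcen _ N.pow_a g).symm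
  have ht1 : N.t ≠ 1 := fun h => N.t_not_mem (h ▸ one_mem _)
  have hτ : N.τ = N.t := by
    obtain ⟨e, he, h⟩ := N.exists_τ
    rw [h, hD2 e he, mul_one]
  have hbc : N.b * N.c = N.c * N.b :=
    commutatorElement_eq_one_iff_mul_comm.1 (hsq _ N.bc_mem)
  -- the derived subgroup commutes with the middle maximal subgroup
  have hDMid : ∀ d ∈ commutator S, ∀ g ∈ N.Mid, Commute g d := by
    intro d hd g hg
    obtain ⟨p, hp, q, hq, rfl⟩ := Subgroup.mem_sup_of_normal_right.1 hg
    obtain ⟨k, rfl⟩ := Subgroup.mem_zpowers_iff.1 hp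
    have hb : Commute N.b d := by
      obtain ⟨i, j, rfl⟩ := N.exists_ct hd
      exact ((show Commute N.b N.c from hbc).zpow_right i).mul_right
        ((show Commute N.b N.t from (hcen _ N.pow_a N.b).symm).zpow_right j)
    exact (hb.zpow_left k).mul_left (N.Phi_centralizes_W hq (hDW d hd))
  have hPhi : ∀ u ∈ N.Phi, ∀ v ∈ N.Phi, Commute u v := by
    intro u hu v hv
    obtain ⟨k, d, hd, rfl⟩ := N.exists_Phi hu
    obtain ⟨l, e, he, rfl⟩ := N.exists_Phi hv
    have h1 : Commute d (N.a ^ (2 * l) * e) := (show _ * d = d * _ from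
      N.Phi_centralizes_W hv (hDW d hd)).symm
    have h2 : Commute (N.a ^ (2 * k)) e :=
      N.Phi_centralizes_W (by
        rw [zpow_mul, zpow_two, ← pow_two]
        exact Subgroup.mem_sup_left (zpow_mem (Subgroup.mem_zpowers _) k)) (hDW e he)
    exact (((Commute.refl N.a).zpow_zpow _ _).mul_right h2).mul_left h1
  -- `a ^ 2` moves the elements outside `Φ` by `t`
  have hmove : ∀ u ∈ N.Mid, u ∉ N.Phi → N.a ^ 2 * u * (N.a ^ 2)⁻¹ = N.t * u := by
    intro u hu huP
    have hb : N.b⁻¹ * u ∈ N.Phi := (N.mem_Phi_or (x := N.b) N.b_not_mem_Phi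
      (Subgroup.mem_sup_left (Subgroup.mem_zpowers _)) hu).resolve_left huP
    have h1 : N.a ^ 2 * N.b * (N.a ^ 2)⁻¹ * N.b⁻¹ = N.t := by
      have h2 : N.a ^ 2 * N.b * (N.a ^ 2)⁻¹ * N.b⁻¹ = N.τ * N.c ^ 2 := by
        rw [NData.τ, NData.c]; simp only [commutatorElement_def, pow_two]; group
      rw [h2, hτ, hD2 _ N.c_mem, mul_one]
    have h3 : N.a ^ 2 * (N.b⁻¹ * u) * (N.a ^ 2)⁻¹ = N.b⁻¹ * u :=
      mul_inv_eq_iff_eq_mul.2 (hPhi _ (Subgroup.mem_sup_left (Subgroup.mem_zpowers _)) _ hb).eq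
    calc N.a ^ 2 * u * (N.a ^ 2)⁻¹ = N.a ^ 2 * N.b * (N.a ^ 2)⁻¹ * N.b⁻¹ * N.b *
          (N.a ^ 2 * (N.b⁻¹ * u) * (N.a ^ 2)⁻¹) := by group
      _ = _ := by rw [h1, h3]; group
  have ha4c : ∀ g ∈ N.Mid, Commute (N.a ^ 4) g := by
    intro g hg
    by_cases hgP : g ∈ N.Phi
    · have h4 : N.a ^ 4 ∈ N.Phi := by
        rw [show (4 : ℕ) = 2 * 2 from rfl, pow_mul]
        exact pow_mem (Subgroup.mem_sup_left (Subgroup.mem_zpowers _)) 2
      exact hPhi _ h4 _ hgP
    · have h := hmove g hg hgP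
      have h2 : N.t * N.t = 1 := by rw [← pow_two]; exact hD2 _ N.t_mem
      refine mul_inv_eq_iff_eq_mul.1 ?_
      calc N.a ^ 4 * g * (N.a ^ 4)⁻¹ = N.a ^ 2 * (N.a ^ 2 * g * (N.a ^ 2)⁻¹) * (N.a ^ 2)⁻¹ := by
            rw [show 4 = 2 + 2 from rfl, pow_add]; group
        _ = N.t * (N.t * g) := by
            rw [h, show N.a ^ 2 * (N.t * g) * (N.a ^ 2)⁻¹ =
              (N.a ^ 2 * N.t * (N.a ^ 2)⁻¹) * (N.a ^ 2 * g * (N.a ^ 2)⁻¹) by group, h,
              show N.a ^ 2 * N.t * (N.a ^ 2)⁻¹ = N.t from mul_inv_eq_iff_eq_mul.2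
                (show N.a ^ 2 * N.t = N.t * N.a ^ 2 from (hcen _ N.pow_a _).symm)]
        _ = g := by rw [← mul_assoc, h2, one_mul]
  have ha4 : N.a ^ 4 ∈ R' := centric_sub hR fun r hr => (ha4c r (hM hr)).eq
  have hDR : commutator S ≤ R' := fun d hd => hW (hDW d hd)
  obtain ⟨x, hxR, hxP⟩ := SetLike.not_le_iff_exists.1 hnP
  have hnorm : ∀ g : S, (g : Ω) ∈ normalizerIn S R := fun g => mem_normalizerIn_sub hRS fun q hq => by
    rw [show g * q * g⁻¹ = ⁅g, q⁆ * q by group]
    exact mul_mem (hDR (Subgroup.commutator_mem_commutator (Subgroup.mem_top g) (Subgroup.mem_top q))) hq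
  have hR2 : IsPGroup 2 R := isPGroup_of_le hS hRS
  let toS : R → S := fun r => ⟨r, hRS r.2⟩
  have htoR : ∀ r : R, toS r ∈ R' := fun r => Subgroup.mem_subgroupOf.2 r.2
  by_cases ha2 : N.a ^ 2 ∈ R'
  · -- `R` is the middle maximal subgroup
    have hPR : N.Phi ≤ R' := sup_le (Subgroup.zpowers_le.2 ha2) hDR
    have heq : R' = N.Mid := by
      refine le_antisymm hM fun g hg => ?_
      rcases N.mem_Phi_or hxP (hM hxR) hg with h | h
      · exact hPR h
      · simpa using mul_mem hxR (hPR h)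
    let tR : R := ⟨N.t, Subgroup.mem_subgroupOf.1 (hDR N.t_mem)⟩
    have hfixt : ∀ α ∈ F.autGroup R, α tR = tR := fun α hα => by
      obtain ⟨φ, hφ, -, he⟩ := exists_hom_of_aut hRS hα
      refine Subtype.ext ?_
      rw [← he]
      exact fix_z hS hF N (hDW _ N.t_mem) ht1 htc R φ hφ tR rfl
    set T0 := Subgroup.zpowers tR
    have hT0 : ∀ α ∈ F.autGroup R, ∀ δ ∈ T0, α δ = δ := fun α hα δ hδ => by
      obtain ⟨k, rfl⟩ := Subgroup.mem_zpowers_iff.1 hδ
      rw [map_zpow, hfixt α hα]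
    have hcenMap : ∀ (α : MulAut R) (u : R), u ∈ Subgroup.center R → α u ∈ Subgroup.center R :=
      fun α u hu => Subgroup.mem_center_iff.2 fun q => by
        obtain ⟨q, rfl⟩ := α.surjective q
        rw [← map_mul, ← map_mul, Subgroup.mem_center_iff.1 hu q]
    let K : Subgroup (MulAut R) :=
      { carrier := {α | α ∈ F.autGroup R ∧ (∀ r : R, r⁻¹ * α r ∈ Subgroup.center R) ∧
          ∀ u ∈ Subgroup.center R, u⁻¹ * α u ∈ T0}
        one_mem' := ⟨one_mem _, fun r => by simp, fun u _ => by simp⟩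
        mul_mem' := fun {α β} hα hβ => ⟨mul_mem hα.1 hβ.1, fun r => by
            have := mul_mem (hβ.2.1 r) (hα.2.1 (β r))
            simpa [mul_assoc] using this, fun u hu => by
            have := mul_mem (hβ.2.2 u hu) (hα.2.2 (β u) (hcenMap β u hu))
            simpa [mul_assoc] using this⟩
        inv_mem' := fun {α} hα => ⟨inv_mem hα.1, fun r => by
            have := inv_mem (hα.2.1 (α⁻¹ r))
            simpa using this, fun u hu => by
            have := inv_mem (hα.2.2 (α⁻¹ u) (hcenMap α⁻¹ u hu))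
            simpa using this⟩ }
    have hKle : K ≤ F.autGroup R := fun α hα => hα.1
    have hn : ∀ α ∈ F.autGroup R, ∀ k ∈ K, α * k * α⁻¹ ∈ K := fun α hα k hk =>
      ⟨mul_mem (mul_mem hα hk.1) (inv_mem hα), fun r => by
        have := hcenMap α _ (hk.2.1 (α⁻¹ r))
        simpa using this, fun u hu => by
        have h := hk.2.2 (α⁻¹ u) (hcenMap α⁻¹ u hu)
        have h2 : α ((α⁻¹ u)⁻¹ * k (α⁻¹ u)) ∈ T0 := by rw [hT0 α hα _ h]; exact h
        simpa using h2⟩
    have hp : IsPGroup 2 K := TwoGroups.MetacyclicFusion.isPGroup_of_odd K fun φ hφ ho => by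
      have hc : ∀ u ∈ Subgroup.center R, φ u = u := fun u hu => by
        obtain ⟨n, hn⟩ := hR2 (u⁻¹ * φ u)
        exact TwoGroups.OddAut.fix_of_translate ho (by rw [mul_inv_cancel_left])
          (hT0 φ hφ.1 _ (hφ.2.2 u hu)) hn
      refine MulEquiv.ext fun r => ?_
      obtain ⟨n, hn⟩ := hR2 (r⁻¹ * φ r)
      exact TwoGroups.OddAut.fix_of_translate ho (by rw [mul_inv_cancel_left]) (hc _ (hφ.2.1 r)) hn
    refine N.a_not_mem_Mid (heq ▸ Subgroup.mem_subgroupOf.2
      (mem_of_stab hS hF hR hKle hn hp (hnorm N.a) ⟨?_, ?_, ?_⟩))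
    · exact autInducedBy_le_autGroup F hRS (mem_autInducedBy.2 ⟨N.a, N.a.2, fun _ => rfl⟩)
    · intro r
      refine Subgroup.mem_center_iff.2 fun q => Subtype.ext ?_
      have hd : (toS r)⁻¹ * (N.a * toS r * N.a⁻¹) ∈ commutator S := by
        rw [show (toS r)⁻¹ * (N.a * toS r * N.a⁻¹) = ⁅(toS r)⁻¹, N.a⁆ by group]
        exact Subgroup.commutator_mem_commutator (Subgroup.mem_top _) (Subgroup.mem_top _)
      exact (congrArg Subtype.val (hDMid _ hd _ (hM (htoR q))).eq :)
    · intro u hu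
      have huP : toS u ∈ N.Phi := by
        by_contra hP
        refine ht1 ?_
        have h := hmove _ (hM (htoR u)) hP
        have hcomm : Commute (N.a ^ 2) (toS u) := Subtype.ext (congrArg Subtype.val
          (Subgroup.mem_center_iff.1 hu ⟨(N.a ^ 2 : S), Subgroup.mem_subgroupOf.1 ha2⟩) :)
        rw [hcomm.eq, mul_inv_cancel_right] at h
        exact mul_eq_right.1 h.symm
      obtain ⟨k, d, hd, hkd⟩ := N.exists_Phi huP
      obtain ⟨i, hi⟩ := N.exists_comm_a hd
      refine Subgroup.mem_zpowers_iff.2 ⟨i, Subtype.ext ?_⟩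
      have h1 : (toS u)⁻¹ * (N.a * toS u * N.a⁻¹) = N.t ^ i := by
        rw [← hkd, ← hτ]
        calc (N.a ^ (2 * k) * d)⁻¹ * (N.a * (N.a ^ (2 * k) * d) * N.a⁻¹)
            = d⁻¹ * (N.a * d * N.a⁻¹) := by group
          _ = _ := by rw [hi, ← mul_assoc, N.comm _ (inv_mem hd) _ (zpow_mem N.τ_mem i), mul_assoc,
                inv_mul_cancel, mul_one]
      rw [SubgroupClass.coe_zpow]
      show (N.t : Ω) ^ i = _
      rw [← SubgroupClass.coe_zpow, ← h1]
      rfl
  · -- `R` is abelian without involutions outside `Φ`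
    have hRP : ∀ u ∈ R', u ∈ N.Phi → ∀ v ∈ N.Mid, Commute u v := by
      intro u hu huP v hv
      obtain ⟨k, d, hd, rfl⟩ := N.exists_Phi huP
      have hak : N.a ^ (2 * k) ∈ R' := (mul_mem_cancel_right (hDR hd)).1 hu
      refine Commute.mul_left ?_ (hDMid d hd v hv).symm
      rcases Int.even_or_odd k with ⟨l, rfl⟩ | ⟨l, rfl⟩
      · rw [show 2 * (l + l) = ((4 : ℕ) : ℤ) * l by push_cast; ring, zpow_mul, zpow_natCast]
        exact (ha4c v hv).zpow_left l
      · exfalso
        refine ha2 ?_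
        rw [show 2 * (2 * l + 1) = ((4 : ℕ) : ℤ) * l + ((2 : ℕ) : ℤ) by push_cast; ring, zpow_add,
          zpow_mul, zpow_natCast, zpow_natCast] at hak
        exact (mul_mem_cancel_left (zpow_mem ha4 l)).1 hak
    have hcomm : ∀ u ∈ R', ∀ v ∈ R', Commute u v := by
      intro u hu v hv
      rcases N.mem_Phi_or hxP (hM hxR) (hM hu) with h | h
      · exact hRP u hu h v (hM hv)
      rcases N.mem_Phi_or hxP (hM hxR) (hM hv) with h' | h'
      · exact (hRP v hv h' u (hM hu)).symm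
      have h1 : Commute (x⁻¹ * u) (x⁻¹ * v) := hRP _ (mul_mem (inv_mem hxR) hu) h _ (hM (mul_mem (inv_mem hxR) hv))
      have h2 : Commute (x⁻¹ * u) x := hRP _ (mul_mem (inv_mem hxR) hu) h _ (hM hxR)
      have h3 : Commute x (x⁻¹ * v) := (hRP _ (mul_mem (inv_mem hxR) hv) h' _ (hM hxR)).symm
      have := ((Commute.refl x).mul_right h3).mul_left (h2.mul_right h1)
      rwa [mul_inv_cancel_left, mul_inv_cancel_left] at this
    have hinv : ∀ u ∈ R', u ^ 2 = 1 → u ∈ N.W := fun u hu h2 => N.mem_W_of_sq (by_contra fun hP =>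
      false_of_involution hS hF N hR hu hP h2 fun q hq => hcomm q hq u hu) h2
    have hc : ∀ u v : R, u * v = v * u := fun u v =>
      Subtype.ext (congrArg Subtype.val (hcomm _ (htoR u) _ (htoR v)).eq :)
    let K : Subgroup (MulAut R) :=
      { carrier := {α | α ∈ F.autGroup R ∧ ∀ r : R, r ^ 2 = 1 → α r = r}
        one_mem' := ⟨one_mem _, fun _ _ => rfl⟩
        mul_mem' := fun {α β} hα hβ => ⟨mul_mem hα.1 hβ.1, fun r hr => by
          rw [MulAut.mul_apply, hβ.2 r hr, hα.2 r hr]⟩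
        inv_mem' := fun {α} hα => ⟨inv_mem hα.1, fun r hr => by
          conv_lhs => rw [← hα.2 r hr]
          exact MulAut.inv_apply_self _ _ _⟩ }
    have hKle : K ≤ F.autGroup R := fun α hα => hα.1
    have hp : IsPGroup 2 K := TwoGroups.MetacyclicFusion.isPGroup_of_odd K fun ψ hψ ho =>
      eq_one_of_fix_sq hR2 hc ho hψ.2
    have hn : ∀ α ∈ F.autGroup R, ∀ k ∈ K, α * k * α⁻¹ ∈ K := fun α hα k hk =>
      ⟨mul_mem (mul_mem hα hk.1) (inv_mem hα), fun r hr => by
        rw [MulAut.mul_apply, MulAut.mul_apply, hk.2 _ (by rw [← map_pow, hr, map_one]),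
          MulAut.apply_inv_self]⟩
    refine ha2 (Subgroup.mem_subgroupOf.2 (mem_of_stab hS hF hR hKle hn hp (hnorm _) ⟨?_, ?_⟩))
    · exact autInducedBy_le_autGroup F hRS (mem_autInducedBy.2 ⟨_, (N.a ^ 2).2, fun _ => rfl⟩)
    · intro r hr
      have hrW : toS r ∈ N.W := hinv _ (htoR r) (Subtype.ext (congrArg Subtype.val hr :))
      refine Subtype.ext ?_
      exact (congrArg Subtype.val (mul_inv_eq_iff_eq_mul.2
        (N.Phi_centralizes_W (Subgroup.mem_sup_left (Subgroup.mem_zpowers _)) hrW) :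
        N.a ^ 2 * toS r * (N.a ^ 2)⁻¹ = toS r) :)

end Cfsg.Agent.Lib.Bicyclic

namespace Cfsg.Agent.Lib.Bicyclic

open Cfsg Cfsg.FusionSystem Cfsg.Agent.Lib.FS

universe u

/-- No saturated system over such a group has an essential subgroup. -/
theorem no_essential : ∀ (n : ℕ) {Ω : Type u} [Group Ω] {S : Subgroup Ω} [Finite S] (F : FusionSystem S),
    Nat.card S ≤ n → IsPGroup 2 S → F.IsSaturated 2 → NData S → ∀ R, ¬ F.IsEssential 2 R := by
  intro n
  induction n with
  | zero =>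
    intro Ω _ S _ F hn
    exact absurd hn (Nat.not_le.2 Nat.card_pos)
  | succ n ih =>
    intro Ω _ S _ F hn hS hF N R hR
    classical
    by_cases hD2 : ∀ d ∈ commutator S, d ^ 2 = 1
    · exact no_essential_base hS hF N hD2 hR
    push Not at hD2
    obtain ⟨d, hd, hd2⟩ := hD2
    have hne : dSq S ≠ ⊥ := fun h => hd2 (Subgroup.mem_bot.1 (h ▸ sq_mem_dSq hd))
    obtain ⟨z, hzS, hz1, hz2, hzc⟩ := exists_central_involution hS hne
    have hzW : z ∈ N.W := ⟨dSq_le hzS, hz2⟩
    have hfix := fix_z hS hF N hzW hz1 hzc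
    set Z := Subgroup.zpowers z
    haveI : Z.Normal := ⟨fun m hm g => by
      obtain ⟨k, rfl⟩ := Subgroup.mem_zpowers_iff.1 hm
      rw [← conj_zpow, Subgroup.mem_center_iff.1 hzc g, mul_inv_cancel_right]
      exact zpow_mem (Subgroup.mem_zpowers _) k⟩
    -- the quotient system
    set S₀ := Z.map S.subtype with hS₀def
    have hS₀ : F.StronglyClosed S₀ := by
      refine ⟨Subgroup.map_subtype_le _, fun P hP φ hφ x => ?_⟩
      obtain ⟨m, hm, hmx⟩ := hP x.2
      obtain ⟨k, rfl⟩ := Subgroup.mem_zpowers_iff.1 hm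
      rcases Int.even_or_odd k with ⟨l, rfl⟩ | ⟨l, rfl⟩
      · have hx : x = 1 := by
          apply Subtype.ext
          rw [← hmx, ← two_mul, zpow_mul, zpow_two, ← pow_two, hz2, one_zpow]
          simp
        rw [hx, map_one]
        exact one_mem _
      · have hx : (x : Ω) = z := by
          rw [← hmx, zpow_add, zpow_one, zpow_mul, zpow_two, ← pow_two, hz2, one_zpow, one_mul]
          rfl
        rw [hfix P φ hφ x hx]
        exact ⟨z, Subgroup.mem_zpowers z, rfl⟩
    let θ : S →* S ⧸ Z := QuotientGroup.mk' Z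
    have hker : ∀ s : S, θ s = 1 ↔ (s : Ω) ∈ S₀ := fun s => by
      show (s : S ⧸ Z) = 1 ↔ _
      rw [QuotientGroup.eq_one_iff]
      exact ⟨fun h => ⟨s, h, rfl⟩, fun ⟨m, hm, hms⟩ => Subtype.ext hms ▸ hm⟩
    have hr : θ.range = (⊤ : Subgroup (S ⧸ Z)) :=
      MonoidHom.range_eq_top.2 (QuotientGroup.mk'_surjective Z)
    obtain ⟨E, hE⟩ := exists_factorSystem hS₀ θ hker hr
    have hE2 : IsPGroup 2 (⊤ : Subgroup (S ⧸ Z)) := isPGroup_image hS hr
    haveI : Finite (⊤ : Subgroup (S ⧸ Z)) := finite_image hr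
    have hEsat : E.IsSaturated 2 := factor_isSaturated hS hF hS₀ hE
    let f : S →* (⊤ : Subgroup (S ⧸ Z)) := θ.codRestrict ⊤ fun _ => Subgroup.mem_top _
    have hf : Function.Surjective f := fun q => by
      obtain ⟨s, hs⟩ := QuotientGroup.mk'_surjective Z q.1
      exact ⟨s, Subtype.ext hs⟩
    have hfk : f.ker ≤ dSq S := fun s hs => by
      have h : θ s = 1 := congrArg Subtype.val hs
      exact (Subgroup.zpowers_le.2 hzS) ((QuotientGroup.eq_one_iff s).1 h)
    let N' : NData (⊤ : Subgroup (S ⧸ Z)) := N.map f hf hfk hE2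
    have hcard : Nat.card (⊤ : Subgroup (S ⧸ Z)) ≤ n := by
      rw [Nat.card_congr Subgroup.topEquiv.toEquiv]
      have h := Z.card_mul_index
      rw [Subgroup.index] at h
      have h2 : 2 ≤ Nat.card Z := by
        rw [Nat.card_zpowers]
        by_contra h3
        have h4 := orderOf_pos z
        exact hz1 (orderOf_eq_one_iff.1 (by omega))
      have h5 : 0 < Nat.card (S ⧸ Z) := Nat.card_pos
      nlinarith
    have hinner := eq_inner_of_no_essential hE2 hEsat (N'.toData.isPGroup_mulAut hE2)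
      (ih E hcard hE2 hEsat N')
    -- an automorphism of odd order of `R` is trivial modulo `z`
    have hRS : R ≤ S := hR.2.1.1
    haveI := finite_sub hRS
    obtain ⟨φ, hφ, hφo, hφ1⟩ := exists_odd hS hF hR
    have hW := W_le_essential hS hF N hR
    have hzR : (z : Ω) ∈ R := Subgroup.mem_subgroupOf.1 (hW hzW)
    obtain ⟨χ, hχ, -, he⟩ := exists_hom_of_aut hRS hφ
    set P' := imageAlong θ R
    have hP' : P' ≤ (⊤ : Subgroup (S ⧸ Z)) := le_top
    have hle : preimageAlong θ P' ≤ R := by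
      intro y hy
      obtain ⟨hyS, s, hs, hse⟩ := mem_preimageAlong.1 hy
      have h1 : s⁻¹ * ⟨y, hyS⟩ ∈ Z := (QuotientGroup.eq_one_iff _).1 (by
        show θ (s⁻¹ * ⟨y, hyS⟩) = 1
        rw [map_mul, map_inv, hse, inv_mul_cancel])
      have h2 : (Subgroup.map S.subtype Z) ≤ R := by
        rw [MonoidHom.map_zpowers]; exact Subgroup.zpowers_le.2 hzR
      have h3 := R.mul_mem (Subgroup.mem_subgroupOf.1 hs) (h2 ⟨_, h1, rfl⟩)
      simpa using h3
    obtain ⟨χ', hχ', he'⟩ := exists_restrict hχ hle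
    obtain ⟨φ', hφ'⟩ := exists_induced (S' := (⊤ : Subgroup (S ⧸ Z)))
      (by rw [ker_map_eq hS₀.1 hker]; exact hS₀) hr hP' hχ'
    have hmem : φ' ∈ E.Hom P' := (hE.2.2.2 _ _).2 ⟨hP', χ', hχ', hφ'⟩
    rw [hinner] at hmem
    obtain ⟨-, g, -, hg⟩ := hmem
    let toS : R → S := fun r => ⟨r, hRS r.2⟩
    have hstep : ∀ r : R, θ (toS (φ r)) = g * θ (toS r) * g⁻¹ := by
      intro r
      have hm : θ (toS r) ∈ P' := ⟨toS r, Subgroup.mem_subgroupOf.2 r.2, rfl⟩
      have hpre : (r : Ω) ∈ preimageAlong θ P' := mem_preimageAlong.2 ⟨hRS r.2, hm⟩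
      have h1 := inducedAlong_apply hφ' ⟨r, hpre⟩ (hRS r.2) hm (apply_mem hχ' _)
      rw [hg ⟨_, hm⟩] at h1
      rw [h1]
      congr 1
      refine Subtype.ext ?_
      show ((φ r : R) : Ω) = χ' _
      rw [he']; exact (he r).symm
    have hpow : ∀ (k : ℕ) (r : R), θ (toS ((φ ^ k) r)) = g ^ k * θ (toS r) * (g ^ k)⁻¹ := by
      intro k
      induction k with
      | zero => intro r; simp
      | succ k ih => intro r; rw [pow_succ', MulAut.mul_apply, hstep, ih, pow_succ']; group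
    obtain ⟨k, hk⟩ := hE2 ⟨g, Subgroup.mem_top g⟩
    have hgk : g ^ 2 ^ k = 1 := congrArg Subtype.val hk
    have hmod : ∀ r : R, θ (toS (φ r)) = θ (toS r) := by
      intro r
      have hcop : (2 ^ k).Coprime (orderOf φ) := (Nat.coprime_two_left.2 hφo).pow_left k
      obtain ⟨m, hm⟩ := exists_pow_eq_self_of_coprime hcop
      have h := hpow (2 ^ k * m) r
      rw [pow_mul φ, hm, pow_mul g, hgk, one_pow] at h
      simpa using h
    apply hφ1
    refine MulEquiv.ext fun r => ?_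
    have h1 : (toS r)⁻¹ * toS (φ r) ∈ Z := (QuotientGroup.eq_one_iff _).1 (by
      show θ ((toS r)⁻¹ * toS (φ r)) = 1
      rw [map_mul, map_inv, hmod, inv_mul_cancel])
    obtain ⟨l, hl⟩ := Subgroup.mem_zpowers_iff.1 h1
    set zR : R := ⟨z, hzR⟩
    have hfz : φ zR = zR := Subtype.ext (by rw [← he]; exact hfix R χ hχ zR rfl)
    have hδ : r⁻¹ * φ r = zR ^ l := Subtype.ext (by
      rw [SubgroupClass.coe_zpow, show (zR : Ω) = ((z : S) : Ω) from rfl, ← SubgroupClass.coe_zpow, hl]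
      rfl)
    refine TwoGroups.OddAut.fix_of_translate hφo (f := r⁻¹ * φ r) (n := 1) (by rw [mul_inv_cancel_left])
      ?_ ?_
    · rw [hδ, map_zpow, hfz]
    · rw [hδ, pow_one, ← zpow_natCast, ← zpow_mul, mul_comm, zpow_mul, zpow_natCast]
      have : zR ^ 2 = 1 := Subtype.ext (congrArg Subtype.val hz2 :)
      rw [this, one_zpow]

/-- Saturated fusion systems over bicyclic nonmetacyclic 2-groups with noncyclic derived subgroup are
inner. -/
theorem eq_inner {Ω : Type u} [Group Ω] {S : Subgroup Ω} [Finite S] {F : FusionSystem S}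
    (hS : IsPGroup 2 S) (hF : F.IsSaturated 2) (hb : ∃ x y : S, ∀ g : S, ∃ i j : ℤ, g = x ^ i * y ^ j)
    (hm : ¬ Cfsg.IsMetacyclic S) (hc : ¬ IsCyclic (commutator S)) : F = innerFusionSystem S := by
  obtain ⟨N⟩ := exists_ndata hS hb hm hc
  exact eq_inner_of_no_essential hS hF (N.toData.isPGroup_mulAut hS)
    (no_essential _ F le_rfl hS hF N)

end Cfsg.Agent.Lib.Bicyclic
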