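import Cfsg.Agent.Lib.Bicyclic.Centralizers

/-!
The centralizer of an involution outside the Frattini subgroup, and the derived subgroup of the middle
maximal subgroup.
-/

set_option autoImplicit false
set_option linter.style.haveILetI false
set_option linter.unusedSectionVars false

namespace Cfsg.Agent.Lib.Bicyclic

open Subgroup
open scoped commutatorElement

variable {X : Type*} [Group X]

namespace NData

variable (S : NData X)

/-- The class of an involution outside `Φ` is its coset of the derived subgroup. -/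
theorem exists_conj_eq [Finite X] {x : X} (hxP : x ∉ S.Phi) (hx : x ^ 2 = 1) {d : X}
    (hd : d ∈ commutator X) : ∃ g : X, g * x * g⁻¹ = d * x := by
  have hxi : x⁻¹ = x := inv_eq_of_mul_eq_one_right (by rw [← pow_two, hx])
  have hadd : ∀ e ∈ commutator X, ∀ g : X,
      e * g * x * (e * g)⁻¹ * x⁻¹ = (g * x * g⁻¹ * x⁻¹) * e ^ 2 := by
    intro e he g
    have h1 : x * e⁻¹ * x⁻¹ = e := by rw [S.inverts hxP hx (inv_mem he), inv_inv]
    have hv : g * x * g⁻¹ * x⁻¹ ∈ commutator X := commutator_mem_commutator (mem_top g) (mem_top x)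
    calc e * g * x * (e * g)⁻¹ * x⁻¹ = e * (g * x * g⁻¹ * x⁻¹) * (x * e⁻¹ * x⁻¹) := by group
      _ = _ := by rw [h1, S.comm e he _ hv, mul_assoc, ← pow_two]
  -- four classes modulo squares
  set c' := S.a * x * S.a⁻¹ * x⁻¹ with hc'
  have hc'm : c' ∈ commutator X := commutator_mem_commutator (mem_top S.a) (mem_top x)
  have hc'K : c' ∉ dK X := fun h =>
    S.not_mem (commutator_le_of_gens (S.gen_of_mem_Mid S.isTwo (S.involution_mem_Mid hx) hxP) _ h
      (commutator_mem_commutator (mem_top _) (mem_top _)))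
  obtain ⟨i, q, hiq⟩ := S.exists_ct hc'm
  have hi : Odd i := by
    refine Int.not_even_iff_odd.1 fun hi => hc'K ?_
    obtain ⟨k, rfl⟩ := hi
    rw [← hiq, ← two_mul, zpow_mul, zpow_two, ← pow_two]
    exact mul_mem (zpow_mem (sq_mem_dK S.c_mem) k) (zpow_mem S.pow_a q)
  obtain ⟨k, rfl⟩ := hi
  obtain ⟨e0, he0, hτ⟩ := S.exists_τ
  have hct : Commute c' S.t := S.comm _ hc'm _ S.t_mem
  -- `D` is generated by `c'` and `t`
  have hD : commutator X ≤ zpowers c' ⊔ zpowers S.t := by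
    rw [S.gen_D]
    refine sup_le (zpowers_le.2 ?_) le_sup_right
    refine zpowers_le.2 ?_ (mem_zpowers_zpow_odd S.isTwo S.c ⟨k, rfl⟩)
    have h1 := mul_mem (mem_sup_left (mem_zpowers c'))
      (inv_mem (mem_sup_right (zpow_mem (mem_zpowers S.t) q)) :
        (S.t ^ q)⁻¹ ∈ zpowers c' ⊔ zpowers S.t)
    rwa [← hiq, mul_inv_cancel_right, hiq] at h1
  obtain ⟨n, r, rfl⟩ := exists_zpow_mul hct (hD hd)
  -- the value at `a ^ 2` is `t` modulo squares
  obtain ⟨f, hf, hv2⟩ : ∃ f ∈ commutator X, S.a ^ 2 * x * (S.a ^ 2)⁻¹ * x⁻¹ = S.t * f ^ 2 := by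
    refine ⟨e0 * S.τ ^ k * c', mul_mem (mul_mem he0 (zpow_mem S.τ_mem k)) hc'm, ?_⟩
    have h1 : S.a ^ 2 * x * (S.a ^ 2)⁻¹ * x⁻¹ = S.a * c' * S.a⁻¹ * c' := by
      rw [hc', pow_two]; group
    have h2 : S.a * c' * S.a⁻¹ = S.τ ^ (2 * k + 1) * c' := by
      rw [← hiq, ← S.comm_ct (2 * k + 1) q, commutatorElement_def, inv_mul_cancel_right]
    have hc1 : Commute (e0 * S.τ ^ k) c' :=
      S.comm _ (mul_mem he0 (zpow_mem S.τ_mem k)) _ hc'm
    have hc2 : Commute e0 (S.τ ^ k) := S.comm _ he0 _ (zpow_mem S.τ_mem k)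
    rw [h1, h2]
    calc S.τ ^ (2 * k + 1) * c' * c' = S.τ * (S.τ ^ k) ^ 2 * c' ^ 2 := by
          rw [pow_two c', pow_two (S.τ ^ k), zpow_add, zpow_one, two_mul, zpow_add]; group
      _ = S.t * (e0 * S.τ ^ k * c') ^ 2 := by rw [hc1.mul_pow, hc2.mul_pow, hτ]; group
  -- reduce to the four representatives
  have hrep : ∀ g : X, ∀ v ∈ commutator X, ∀ u ∈ commutator X,
      g * x * g⁻¹ * x⁻¹ = u * v ^ 2 → ∀ w ∈ commutator X, ∃ h, h * x * h⁻¹ = u * w ^ 2 * x := by
    intro g v hv u hu hg w hw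
    refine ⟨v⁻¹ * w * g, ?_⟩
    have h1 := hadd (v⁻¹ * w) (mul_mem (inv_mem hv) hw) g
    rw [hg, (show Commute v⁻¹ w from S.comm _ (inv_mem hv) _ hw).mul_pow, inv_pow, mul_assoc u,
      mul_inv_cancel_left] at h1
    rw [← h1, inv_mul_cancel_right]
  obtain ⟨n0, nr, rfl, hn⟩ : ∃ n0 n1 : ℤ, n = n0 + 2 * n1 ∧ (n0 = 0 ∨ n0 = 1) :=
    ⟨n % 2, n / 2, (Int.emod_add_mul_ediv n 2).symm, Int.emod_two_eq_zero_or_one n⟩
  obtain ⟨r0, rr, rfl, hr⟩ : ∃ r0 r1 : ℤ, r = r0 + 2 * r1 ∧ (r0 = 0 ∨ r0 = 1) :=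
    ⟨r % 2, r / 2, (Int.emod_add_mul_ediv r 2).symm, Int.emod_two_eq_zero_or_one r⟩
  set w0 := c' ^ nr * S.t ^ rr with hw0
  have hw0m : w0 ∈ commutator X := mul_mem (zpow_mem hc'm _) (zpow_mem S.t_mem _)
  have hrw : c' ^ (n0 + 2 * nr) * S.t ^ (r0 + 2 * rr) = c' ^ n0 * S.t ^ r0 * w0 ^ 2 := by
    rw [hw0, (hct.zpow_zpow nr rr).mul_pow]
    calc c' ^ (n0 + 2 * nr) * S.t ^ (r0 + 2 * rr)
        = c' ^ n0 * (c' ^ (2 * nr) * S.t ^ r0) * S.t ^ (2 * rr) := by group
      _ = _ := by rw [(hct.zpow_zpow (2 * nr) r0).eq]; group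
  rw [hrw]
  rcases hn with rfl | rfl <;> rcases hr with rfl | rfl
  · exact hrep 1 1 (one_mem _) _ (mul_mem (zpow_mem hc'm _) (zpow_mem S.t_mem _)) (by simp) w0 hw0m
  · refine hrep (S.a ^ 2) f hf _ (mul_mem (zpow_mem hc'm _) (zpow_mem S.t_mem _)) ?_ w0 hw0m
    rw [hv2]; simp
  · refine hrep S.a 1 (one_mem _) _ (mul_mem (zpow_mem hc'm _) (zpow_mem S.t_mem _)) ?_ w0 hw0m
    rw [← hc']; simp
  · obtain ⟨i', hi'⟩ := S.exists_comm_a hf
    have hF : S.τ ^ i' * f ∈ commutator X := mul_mem (zpow_mem S.τ_mem _) hf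
    refine hrep (S.a ^ 3) _ hF _ (mul_mem (zpow_mem hc'm _) (zpow_mem S.t_mem _)) ?_ w0 hw0m
    calc S.a ^ 3 * x * (S.a ^ 3)⁻¹ * x⁻¹
        = S.a * (S.a ^ 2 * x * (S.a ^ 2)⁻¹ * x⁻¹) * S.a⁻¹ * c' := by
          rw [hc', pow_succ' S.a 2]; group
      _ = S.a * S.t * S.a⁻¹ * (S.a * f * S.a⁻¹) ^ 2 * c' := by rw [hv2, conj_pow]; group
      _ = c' * (S.t * (S.τ ^ i' * f) ^ 2) := by
          rw [S.conj_t, hi', S.comm _ (mul_mem S.t_mem (pow_mem hF 2)) _ hc'm]
      _ = _ := by simp only [zpow_one, hc']; group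

theorem card_centralizer [Finite X] {x : X} (hxP : x ∉ S.Phi) (hx : x ^ 2 = 1) :
    Nat.card (centralizer ({x} : Set X)) = (commutator X).index := by
  classical
  refine le_antisymm ?_ (Data.index_le_centralizer x)
  set C := centralizer ({x} : Set X)
  choose f hf using fun d : commutator X => S.exists_conj_eq hxP hx d.2
  have hinj : Function.Injective fun d : commutator X => ((f d : X) : X ⧸ C) := by
    intro d e h
    have h1 := QuotientGroup.eq.1 h
    rw [mem_centralizer_singleton_iff] at h1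
    refine Subtype.ext (mul_right_cancel (b := x) ?_)
    rw [← hf d, ← hf e]
    calc f d * x * (f d)⁻¹ = f d * (x * ((f d)⁻¹ * f e)) * (f e)⁻¹ := by group
      _ = f d * ((f d)⁻¹ * f e * x) * (f e)⁻¹ := by rw [h1]
      _ = f e * x * (f e)⁻¹ := by group
  have h1 := Nat.card_le_card_of_injective _ hinj
  rw [← Subgroup.index] at h1
  have h2 := C.card_mul_index
  have h3 := (commutator X).card_mul_index
  have h4 : 0 < C.index := Nat.pos_of_ne_zero Subgroup.index_ne_zero_of_finite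
  nlinarith

theorem centralizer_le_Mid [Finite X] {x : X} (hxP : x ∉ S.Phi) (hx : x ^ 2 = 1) :
    centralizer ({x} : Set X) ≤ S.Mid := by
  intro g hg
  by_contra hgM
  have hgen := S.gen_of_not_mem_Mid S.isTwo hgM (S.involution_mem_Mid hx) hxP
  rw [mem_centralizer_singleton_iff] at hg
  have hle : commutator X ≤ (⊥ : Subgroup X) :=
    commutator_le_of_gens hgen ⊥ (mem_bot.2 (commutatorElement_eq_one_iff_mul_comm.2 hg))
  exact S.t_not_mem ((mem_bot.1 (hle S.t_mem)).symm ▸ one_mem _)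

theorem W_le_centralizer [Finite X] {x : X} (hxP : x ∉ S.Phi) (hx : x ^ 2 = 1) :
    S.W ≤ centralizer ({x} : Set X) := fun w hw => by
  have h := mul_inv_eq_iff_eq_mul.1 (S.inverts hxP hx hw.1)
  rw [inv_eq_of_mul_eq_one_right (a := w) (b := w) (by rw [← pow_two, hw.2])] at h
  exact mem_centralizer_singleton_iff.2 h.symm

/-- `Mid = Φ ∪ xΦ`. -/
theorem mem_Phi_or [Finite X] {x : X} (hxP : x ∉ S.Phi) (hxM : x ∈ S.Mid) {g : X} (hg : g ∈ S.Mid) :
    g ∈ S.Phi ∨ x⁻¹ * g ∈ S.Phi := by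
  have hform : ∀ g : X, g ∈ S.Mid → g ∈ S.Phi ∨ S.b⁻¹ * g ∈ S.Phi := by
    intro g hg
    obtain ⟨p, hp, r, hr, rfl⟩ := mem_sup_of_normal_right.1 hg
    obtain ⟨n, rfl⟩ := mem_zpowers_iff.1 hp
    rcases Int.even_or_odd n with ⟨k, rfl⟩ | ⟨k, rfl⟩
    · left
      rw [← two_mul, zpow_mul, zpow_two, ← pow_two]
      exact mul_mem (S.commutator_le_Phi (zpow_mem S.b_sq_mem k)) hr
    · right
      rw [← mul_assoc, add_comm, zpow_add, zpow_one, inv_mul_cancel_left, zpow_mul, zpow_two, ← pow_two]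
      exact mul_mem (S.commutator_le_Phi (zpow_mem S.b_sq_mem k)) hr
  rcases hform g hg with h | h
  · exact Or.inl h
  · rcases hform x hxM with h' | h'
    · exact absurd h' hxP
    · exact Or.inr (by simpa [mul_assoc] using mul_mem (inv_mem h') h)

theorem centralizes_W_of_commute [Finite X] {x g w : X} (hxP : x ∉ S.Phi) (hx : x ^ 2 = 1)
    (hg : g ∈ S.Mid) (hw : w ∈ S.W) : g * w = w * g := by
  rcases S.mem_Phi_or hxP (S.involution_mem_Mid hx) hg with h | h
  · exact S.Phi_centralizes_W h hw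
  · have h1 : Commute x w := mem_centralizer_singleton_iff.1 (S.W_le_centralizer hxP hx hw) |>.symm
    have h2 : Commute (x⁻¹ * g) w := S.Phi_centralizes_W h hw
    have := h1.mul_left h2
    rw [mul_inv_cancel_left] at this
    exact this

theorem centralizer_comm [Finite X] {x : X} (hxP : x ∉ S.Phi) (hx : x ^ 2 = 1) {g h : X}
    (hg : g ∈ centralizer ({x} : Set X)) (hh : h ∈ centralizer ({x} : Set X)) : g * h = h * g := by
  have hM := S.centralizer_le_Mid hxP hx
  have hxC : x ∈ centralizer ({x} : Set X) := mem_centralizer_singleton_iff.2 rfl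
  have hgx : Commute g x := mem_centralizer_singleton_iff.1 hg
  have hhx : Commute h x := mem_centralizer_singleton_iff.1 hh
  -- the part inside `Φ` is commutative
  have key : ∀ u v : X, u ∈ S.Phi → v ∈ S.Phi → Commute u x → Commute v x → Commute u v := by
    intro u v hu hv hux hvx
    obtain ⟨k, d, hd, rfl⟩ := S.exists_Phi hu
    obtain ⟨l, e, he, rfl⟩ := S.exists_Phi hv
    -- the commutator lies in `W`
    set H := centralizer ({x} : Set X) ⊓ S.Phi
    haveI : IsMulCommutative (X ⧸ commutator X) := Normal.quotient_commutative_iff_commutator_le.2 le_rfl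
    by_contra hne
    -- the group `H` is cyclic modulo a central subgroup
    let f : H →* X ⧸ commutator X := (QuotientGroup.mk' (commutator X)).comp H.subtype
    have hker : f.ker ≤ center H := by
      intro y hy
      have hyD : (y : X) ∈ commutator X := (QuotientGroup.eq_one_iff _).1 hy
      have hyW : (y : X) ∈ S.W := by
        refine ⟨hyD, ?_⟩
        have h1 := S.inverts hxP hx hyD
        rw [← (mem_centralizer_singleton_iff.1 y.2.1), mul_inv_cancel_right] at h1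
        rw [pow_two]; nth_rw 2 [h1]; exact mul_inv_cancel _
      refine mem_center_iff.2 fun z => Subtype.ext ?_
      exact S.Phi_centralizes_W z.2.2 hyW
    have hrange : f.range ≤ zpowers ((S.a ^ 2 : X) : X ⧸ commutator X) := by
      rintro _ ⟨y, rfl⟩
      obtain ⟨n, d', hd', hy⟩ := S.exists_Phi y.2.2
      refine ⟨n, ?_⟩
      show ((S.a ^ 2 : X) : X ⧸ commutator X) ^ n = ((y : X) : X ⧸ commutator X)
      rw [← hy, QuotientGroup.mk_mul, (QuotientGroup.eq_one_iff d').2 hd', mul_one,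
        ← QuotientGroup.mk_zpow, zpow_mul, zpow_two, pow_two]
    haveI : IsCyclic f.range :=
      isCyclic_of_injective (Subgroup.inclusion hrange) (Subgroup.inclusion_injective hrange)
    have hcomm : ∀ y z : H, y * z = z * y :=
      commutative_of_cyclic_center_quotient f.rangeRestrict (by rw [MonoidHom.ker_rangeRestrict]; exact hker)
    exact hne (congrArg Subtype.val (hcomm ⟨_, mem_centralizer_singleton_iff.2 hux, hu⟩
      ⟨_, mem_centralizer_singleton_iff.2 hvx, hv⟩))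
  have hxx : Commute x x := Commute.refl x
  rcases S.mem_Phi_or hxP (S.involution_mem_Mid hx) (hM hg) with h1 | h1 <;>
    rcases S.mem_Phi_or hxP (S.involution_mem_Mid hx) (hM hh) with h2 | h2
  · exact (key g h h1 h2 hgx hhx).eq
  · have := hgx.mul_right (key g (x⁻¹ * h) h1 h2 hgx ((hxx.inv_left).mul_left hhx))
    rw [mul_inv_cancel_left] at this
    exact this.eq
  · have := (hhx.mul_right (key h (x⁻¹ * g) h2 h1 hhx ((hxx.inv_left).mul_left hgx)))
    rw [mul_inv_cancel_left] at this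
    exact this.eq.symm
  · have h3 := key _ _ h1 h2 ((hxx.inv_left).mul_left hgx) ((hxx.inv_left).mul_left hhx)
    have h4 : Commute x (x⁻¹ * h) := (hxx.inv_right).mul_right hhx.symm
    have h5 : Commute (x * (x⁻¹ * g)) (x * (x⁻¹ * h)) :=
      (hxx.mul_right h4).mul_left ((((hxx.inv_left).mul_left hgx)).mul_right h3)
    rw [mul_inv_cancel_left, mul_inv_cancel_left] at h5
    exact h5.eq

theorem centralizer_sq_one [Finite X] {x : X} (hxP : x ∉ S.Phi) (hx : x ^ 2 = 1) {g : X}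
    (hg : g ∈ centralizer ({x} : Set X)) (h2 : g ^ 2 = 1) : g ∈ S.W ∨ x⁻¹ * g ∈ S.W := by
  rcases S.mem_Phi_or hxP (S.involution_mem_Mid hx) (S.centralizer_le_Mid hxP hx hg) with h | h
  · exact Or.inl (S.mem_W_of_sq h h2)
  · refine Or.inr (S.mem_W_of_sq h ?_)
    rw [((show Commute g x from mem_centralizer_singleton_iff.1 hg).inv_right).symm.mul_pow, h2,
      inv_pow, hx, inv_one, one_mul]

theorem conj_centralizer [Finite X] {x : X} (hxP : x ∉ S.Phi) (hx : x ^ 2 = 1) {g w : X}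
    (hw : w ∈ S.W) (hg : g * x * g⁻¹ = w * x) {h : X} (hh : h ∈ centralizer ({x} : Set X)) :
    g * h * g⁻¹ ∈ centralizer ({x} : Set X) := by
  set C := centralizer ({x} : Set X)
  set C' := centralizer ({w * x} : Set X)
  have hle : C ≤ C' := fun u hu => by
    refine mem_centralizer_singleton_iff.2 ?_
    have h1 : Commute u x := mem_centralizer_singleton_iff.1 hu
    have h2 : Commute u w := S.centralizes_W_of_commute hxP hx (S.centralizer_le_Mid hxP hx hu) hw
    exact (h2.mul_right h1).eq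
  have hmap : C.map (MulAut.conj g).toMonoidHom = C' := by
    ext u
    constructor
    · rintro ⟨v, hv, rfl⟩
      refine mem_centralizer_singleton_iff.2 ?_
      show g * v * g⁻¹ * (w * x) = w * x * (g * v * g⁻¹)
      rw [← hg]
      calc g * v * g⁻¹ * (g * x * g⁻¹) = g * (v * x) * g⁻¹ := by group
        _ = g * (x * v) * g⁻¹ := by rw [mem_centralizer_singleton_iff.1 hv]
        _ = g * x * g⁻¹ * (g * v * g⁻¹) := by group
    · intro hu
      refine ⟨g⁻¹ * u * g, mem_centralizer_singleton_iff.2 ?_, ?_⟩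
      · have h1 := mem_centralizer_singleton_iff.1 hu
        rw [← hg] at h1
        calc g⁻¹ * u * g * x = g⁻¹ * (u * (g * x * g⁻¹)) * g := by group
          _ = g⁻¹ * (g * x * g⁻¹ * u) * g := by rw [h1]
          _ = x * (g⁻¹ * u * g) := by group
      · show g * (g⁻¹ * u * g) * g⁻¹ = u; group
  have hcard : Nat.card C' = Nat.card C := by
    rw [← hmap]
    exact (Nat.card_congr ((MulAut.conj g).subgroupMap C).toEquiv).symm
  rw [Subgroup.eq_of_le_of_card_ge hle hcard.le]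
  exact hmap.le ⟨h, hh, rfl⟩

/-- A conjugating element centralizing `W`. -/
theorem exists_transvection [Finite X] {x : X} (hxP : x ∉ S.Phi) (hx : x ^ 2 = 1) :
    ∃ g : X, ∃ w ∈ S.W, w ≠ 1 ∧ g * x * g⁻¹ = w * x ∧ g ∈ centralizer (S.W : Set X) := by
  obtain ⟨z, hz, hz1, hzc⟩ := S.exists_z
  obtain ⟨w, hw, hw1, hwz⟩ : ∃ w ∈ S.W, w ≠ 1 ∧ w ≠ z := by
    classical
    by_contra! h
    haveI : Fintype S.W := Fintype.ofFinite _
    have h2 : (Finset.univ : Finset S.W) ⊆ {1, ⟨z, hz⟩} := fun s _ => by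
      simp only [Finset.mem_insert, Finset.mem_singleton]
      by_cases hs : (s : X) = 1
      · exact Or.inl (Subtype.ext hs)
      · exact Or.inr (Subtype.ext (h s s.2 hs))
    have := (Finset.card_le_card h2).trans Finset.card_le_two
    rw [Finset.card_univ, ← Nat.card_eq_fintype_card, S.card_W] at this
    omega
  obtain ⟨g1, hg1⟩ := S.exists_conj_eq hxP hx hz.1
  by_cases h1 : g1 ∈ centralizer (S.W : Set X)
  · exact ⟨g1, z, hz, hz1, hg1, h1⟩
  obtain ⟨g2, hg2⟩ := S.exists_conj_eq hxP hx hw.1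
  by_cases h2 : g2 ∈ centralizer (S.W : Set X)
  · exact ⟨g2, w, hw, hw1, hg2, h2⟩
  refine ⟨g1 * g2, g1 * w * g1⁻¹ * z, mul_mem (S.W_normal.conj_mem w hw g1) hz, ?_, ?_,
    S.mul_mem_centralizer_W h1 h2⟩
  · intro h
    rcases S.W_cases hz hz1 hzc hw g1 with h' | h' <;> rw [h'] at h
    · refine hwz ?_
      rw [eq_inv_of_mul_eq_one_left h, inv_eq_of_mul_eq_one_right (by rw [← pow_two, hz.2])]
    · rw [mul_assoc, ← pow_two, hz.2, mul_one] at h
      exact hw1 h
  · calc g1 * g2 * x * (g1 * g2)⁻¹ = g1 * (g2 * x * g2⁻¹) * g1⁻¹ := by group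
      _ = g1 * w * g1⁻¹ * (g1 * x * g1⁻¹) := by rw [hg2]; group
      _ = _ := by rw [hg1]; group

/-- The derived subgroup of the middle maximal subgroup: it contains `τ`, lies in `dK`, and `a` moves its
elements by even powers of `τ`. -/
theorem mid_derived [Finite X] :
    S.τ ∈ ⁅S.Mid, S.Mid⁆ ∧ ⁅S.Mid, S.Mid⁆ ≤ dK X ∧
      ∀ v ∈ dK X, ∃ i : ℤ, S.a * v * S.a⁻¹ = S.τ ^ (2 * i) * v := by
  have hdK : ∀ v ∈ dK X, ∃ i : ℤ, S.a * v * S.a⁻¹ = S.τ ^ (2 * i) * v := by
    intro v hv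
    obtain ⟨p, hp, r, hr, rfl⟩ := mem_sup_of_normal_right.1 (S.step_le.2.2 hv)
    obtain ⟨q, rfl⟩ := mem_zpowers_iff.1 hp
    obtain ⟨e, he, rfl⟩ := S.exists_sq hr
    obtain ⟨i, hi⟩ := S.exists_comm_a he
    refine ⟨i, ?_⟩
    calc S.a * (S.t ^ q * e ^ 2) * S.a⁻¹ = (S.a * S.t * S.a⁻¹) ^ q * (S.a * e * S.a⁻¹) ^ 2 := by
          rw [conj_zpow, conj_pow]; group
      _ = S.t ^ q * ((S.τ ^ i) ^ 2 * e ^ 2) := by
          rw [S.conj_t, hi, (show Commute (S.τ ^ i) e from S.comm _ (zpow_mem S.τ_mem i) _ he).mul_pow]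
      _ = _ := by
          rw [← mul_assoc, S.comm _ (zpow_mem S.t_mem q) _ (pow_mem (zpow_mem S.τ_mem i) 2), mul_assoc,
            ← zpow_natCast (S.τ ^ i), ← zpow_mul, mul_comm i]
          rfl
  have ha2 : S.a ^ 2 ∈ S.Mid := S.Phi_le_Mid (mem_sup_left (mem_zpowers _))
  have hb : S.b ∈ S.Mid := mem_sup_left (mem_zpowers _)
  have hc : S.c ∈ S.Mid := S.Phi_le_Mid (S.commutator_le_Phi S.c_mem)
  have h1 : S.τ * S.c ^ 2 ∈ ⁅S.Mid, S.Mid⁆ := by
    have h := commutator_mem_commutator ha2 hb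
    rwa [show ⁅S.a ^ 2, S.b⁆ = S.τ * S.c ^ 2 by
      rw [τ, c]; simp only [commutatorElement_def, pow_two]; group] at h
  obtain ⟨j, hj⟩ := hdK _ S.sq_b
  have h2 : S.c ^ 2 * ⁅S.b, S.c⁆ = S.τ ^ (2 * j) := by
    have e1 : S.a * S.b ^ 2 * S.a⁻¹ = S.c * (⁅S.b, S.c⁆ * S.c) * S.b ^ 2 := by
      rw [c]; simp only [commutatorElement_def, pow_two]; group
    rw [e1] at hj
    rw [← mul_right_cancel hj, ← mul_assoc, S.comm S.c S.c_mem _
      (commutator_mem_commutator (mem_top S.b) (mem_top S.c)), mul_assoc, pow_two,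
      S.comm _ (mul_mem S.c_mem S.c_mem) _ (commutator_mem_commutator (mem_top S.b) (mem_top S.c))]
  have h3 : S.τ ^ (1 + 2 * j) ∈ ⁅S.Mid, S.Mid⁆ := by
    have := mul_mem h1 (commutator_mem_commutator hb hc)
    rwa [mul_assoc, h2, ← zpow_one_add] at this
  refine ⟨zpowers_le.2 h3 (mem_zpowers_zpow_odd S.isTwo S.τ ⟨j, by ring⟩), ?_, hdK⟩
  -- `Mid` is abelian modulo `dK`
  refine commutator_le.2 fun u hu v hv => (QuotientGroup.eq_one_iff _).1 ?_
  show ⁅(u : X ⧸ dK X), (v : X ⧸ dK X)⁆ = 1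
  refine commutatorElement_eq_one_iff_mul_comm.2 ?_
  have hab : Commute (S.a ^ 2 : X ⧸ dK X) (S.b : X ⧸ dK X) := by
    refine commute_sq ?_ ?_
    · exact mk_dK_sq (commutator_mem_commutator (mem_top S.a) (mem_top S.b))
    · exact mk_dK_central (commutator_mem_commutator (mem_top S.a) (mem_top S.b)) _
  have hgenM : ∀ g ∈ S.Mid, ∀ q : X ⧸ dK X, Commute q (S.a ^ 2 : X ⧸ dK X) →
      Commute q (S.b : X ⧸ dK X) → Commute q (g : X ⧸ dK X) := by
    intro g hg q hq1 hq2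
    obtain ⟨p, hp, r, hr, rfl⟩ := mem_sup_of_normal_right.1 hg
    obtain ⟨n, rfl⟩ := mem_zpowers_iff.1 hp
    obtain ⟨k, d, hd, rfl⟩ := S.exists_Phi hr
    rw [QuotientGroup.mk_mul, QuotientGroup.mk_mul, QuotientGroup.mk_zpow, QuotientGroup.mk_zpow,
      zpow_mul (S.a : X ⧸ dK X), zpow_two, ← pow_two]
    exact (hq2.zpow_right n).mul_right ((hq1.zpow_right k).mul_right (mk_dK_central hd q).symm)
  exact (hgenM v hv _ (hgenM u hu _ (Commute.refl _) hab).symm
    (hgenM u hu _ hab.symm (Commute.refl _)).symm).eq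

end NData

end Cfsg.Agent.Lib.Bicyclic
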