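import Cfsg.Agent.Lib.Bicyclic.Criterion

/-!
Bicyclic 2-groups that are not metacyclic: generators `a`, `b` with `b ^ 2` and `a ^ (2 ^ m)` in
`⁅X', X⁆ (X')²` and `X/X' ≅ C_{2^m} × C_2`.
-/

set_option autoImplicit false
set_option linter.style.haveILetI false

namespace Cfsg.Agent.Lib.Bicyclic

open Subgroup
open scoped commutatorElement

variable {X : Type*} [Group X]

/-- Itô: the derived subgroup of a product of two cyclic groups is commutative. -/
theorem commutator_comm {x y : X} (hb : ∀ g : X, ∃ i j : ℤ, g = x ^ i * y ^ j) :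
    ∀ u ∈ commutator X, ∀ v ∈ commutator X, u * v = v * u := by
  have hb' : ∀ g : X, ∃ j i : ℤ, g = y ^ j * x ^ i := by
    intro g
    obtain ⟨i, j, h⟩ := hb g⁻¹
    exact ⟨-j, -i, by rw [zpow_neg, zpow_neg, ← mul_inv_rev, ← h, inv_inv]⟩
  set T : Set X := {g | ∃ i j : ℤ, ⁅x ^ i, y ^ j⁆ = g} with hT
  have hx : ∀ k l : ℤ, ⁅x ^ k, x ^ l⁆ = 1 := fun k l =>
    commutatorElement_eq_one_iff_mul_comm.2 ((Commute.refl x).zpow_zpow k l)
  have hy : ∀ k l : ℤ, ⁅y ^ k, y ^ l⁆ = 1 := fun k l =>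
    commutatorElement_eq_one_iff_mul_comm.2 ((Commute.refl y).zpow_zpow k l)
  -- conjugates of the generating commutators
  have hA : ∀ k i j : ℤ, ∀ p q : ℤ, x ^ k * y ^ j * (x ^ k)⁻¹ = y ^ p * x ^ q →
      x ^ k * ⁅x ^ i, y ^ j⁆ * (x ^ k)⁻¹ = ⁅x ^ i, y ^ p⁆ := by
    intro k i j p q h
    rw [conjugate_commutatorElement, show x ^ k * x ^ i * (x ^ k)⁻¹ = x ^ i by
      rw [← zpow_neg, ← zpow_add, ← zpow_add]; congr 1; ring, h]
    calc ⁅x ^ i, y ^ p * x ^ q⁆ = ⁅x ^ i, y ^ p⁆ * (y ^ p * ⁅x ^ i, x ^ q⁆ * (y ^ p)⁻¹) := by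
          simp only [commutatorElement_def]; group
      _ = _ := by rw [hx]; group
  have hB : ∀ l i j : ℤ, ∀ p q : ℤ, y ^ l * x ^ i * (y ^ l)⁻¹ = x ^ p * y ^ q →
      y ^ l * ⁅x ^ i, y ^ j⁆ * (y ^ l)⁻¹ = ⁅x ^ p, y ^ j⁆ := by
    intro l i j p q h
    rw [conjugate_commutatorElement, show y ^ l * y ^ j * (y ^ l)⁻¹ = y ^ j by
      rw [← zpow_neg, ← zpow_add, ← zpow_add]; congr 1; ring, h]
    calc ⁅x ^ p * y ^ q, y ^ j⁆ = x ^ p * ⁅y ^ q, y ^ j⁆ * (x ^ p)⁻¹ * ⁅x ^ p, y ^ j⁆ := by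
          simp only [commutatorElement_def]; group
      _ = _ := by rw [hy]; group
  have hTT : ∀ u ∈ T, ∀ v ∈ T, Commute u v := by
    rintro _ ⟨k, l, rfl⟩ _ ⟨i, j, rfl⟩
    -- the two conjugations agree
    have key : ∀ k l : ℤ, y ^ l * (x ^ k * ⁅x ^ i, y ^ j⁆ * (x ^ k)⁻¹) * (y ^ l)⁻¹ =
        x ^ k * (y ^ l * ⁅x ^ i, y ^ j⁆ * (y ^ l)⁻¹) * (x ^ k)⁻¹ := by
      intro k l
      obtain ⟨p, q, h1⟩ := hb' (x ^ k * y ^ j * (x ^ k)⁻¹)
      obtain ⟨r, s, h2⟩ := hb (y ^ l * x ^ i * (y ^ l)⁻¹)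
      rw [hA k i j p q h1, hB l i p r s h2, hB l i j r s h2, hA k r j p q h1]
    have h := key (-k) (-l)
    set z := ⁅x ^ i, y ^ j⁆
    rw [zpow_neg, zpow_neg, inv_inv, inv_inv] at h
    have h' : ⁅x ^ k, y ^ l⁆ * z = z * ⁅x ^ k, y ^ l⁆ := by
      calc ⁅x ^ k, y ^ l⁆ * z
          = x ^ k * y ^ l * ((x ^ k)⁻¹ * ((y ^ l)⁻¹ * z * y ^ l) * x ^ k) *
              ((x ^ k)⁻¹ * (y ^ l)⁻¹) := by rw [commutatorElement_def]; group
        _ = z * ⁅x ^ k, y ^ l⁆ := by rw [← h, commutatorElement_def]; group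
    exact h'
  haveI hn : (closure T).Normal := by
    refine ⟨fun n hn g => ?_⟩
    obtain ⟨k, l, rfl⟩ := hb g
    have h1 : ∀ n ∈ closure T, y ^ l * n * (y ^ l)⁻¹ ∈ closure T := by
      intro n hn
      induction hn using closure_induction with
      | mem v hv =>
        obtain ⟨i, j, rfl⟩ := hv
        obtain ⟨r, s, h2⟩ := hb (y ^ l * x ^ i * (y ^ l)⁻¹)
        rw [hB l i j r s h2]
        exact subset_closure ⟨r, j, rfl⟩
      | one => simp
      | mul p q _ _ hp hq =>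
        rw [show y ^ l * (p * q) * (y ^ l)⁻¹ = y ^ l * p * (y ^ l)⁻¹ * (y ^ l * q * (y ^ l)⁻¹) by group]
        exact mul_mem hp hq
      | inv p _ hp =>
        rw [show y ^ l * p⁻¹ * (y ^ l)⁻¹ = (y ^ l * p * (y ^ l)⁻¹)⁻¹ by group]
        exact inv_mem hp
    have h2 : ∀ n ∈ closure T, x ^ k * n * (x ^ k)⁻¹ ∈ closure T := by
      intro n hn
      induction hn using closure_induction with
      | mem v hv =>
        obtain ⟨i, j, rfl⟩ := hv
        obtain ⟨p, q, h1⟩ := hb' (x ^ k * y ^ j * (x ^ k)⁻¹)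
        rw [hA k i j p q h1]
        exact subset_closure ⟨i, p, rfl⟩
      | one => simp
      | mul p q _ _ hp hq =>
        rw [show x ^ k * (p * q) * (x ^ k)⁻¹ = x ^ k * p * (x ^ k)⁻¹ * (x ^ k * q * (x ^ k)⁻¹) by group]
        exact mul_mem hp hq
      | inv p _ hp =>
        rw [show x ^ k * p⁻¹ * (x ^ k)⁻¹ = (x ^ k * p * (x ^ k)⁻¹)⁻¹ by group]
        exact inv_mem hp
    have := h2 _ (h1 n hn)
    rwa [show x ^ k * y ^ l * n * (x ^ k * y ^ l)⁻¹ = x ^ k * (y ^ l * n * (y ^ l)⁻¹) * (x ^ k)⁻¹ by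
      group]
  have hxy : closure ({x, y} : Set X) = ⊤ := eq_top_iff.2 fun g _ => by
    obtain ⟨i, j, rfl⟩ := hb g
    exact mul_mem (zpow_mem (subset_closure (by simp)) i) (zpow_mem (subset_closure (by simp)) j)
  have hle : commutator X ≤ closure T :=
    commutator_le_of_gens hxy _ (subset_closure ⟨1, 1, by simp⟩)
  intro u hu v hv
  have hc : closure T ≤ centralizer (closure T : Set X) := by
    rw [centralizer_closure]
    refine (closure_le _).2 fun s hs => ?_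
    rw [SetLike.mem_coe, mem_centralizer_iff]
    exact fun w hw => (hTT w hw s hs).eq
  exact (mem_centralizer_iff.1 (hc (hle hu)) v (hle hv)).symm

/-- Normal form of a bicyclic nonmetacyclic 2-group. -/
structure Data (X : Type*) [Group X] where
  /-- a generator of order at least `2 ^ m` -/
  a : X
  /-- a generator with square in `dK` -/
  b : X
  /-- the exponent of the derived factor group -/
  m : ℕ
  two_le : 2 ≤ m
  gen : closure {a, b} = ⊤
  prod : ∀ g : X, ∃ i j : ℤ, g = a ^ i * (a⁻¹ * b) ^ j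
  sq_b : b ^ 2 ∈ dK X
  pow_a : a ^ 2 ^ m ∈ dK X
  parity : ∀ i j : ℤ, a ^ i * b ^ j ∈ commutator X → (2 ^ m : ℤ) ∣ i ∧ (2 : ℤ) ∣ j
  not_mem : ⁅a, b⁆ ∉ dK X

theorem not_metacyclic_not_cyclic_quotient [Finite X] (hX : IsPGroup 2 X)
    (hm : ¬ Cfsg.IsMetacyclic X) : ¬ IsCyclic (X ⧸ commutator X) := by
  intro h
  haveI := PGroups.isCyclic_of_quotient_le_frattini (commutator X) (PGroups.commutator_le_frattini hX)
  exact hm ⟨⊥, inferInstance, inferInstance,
    isCyclic_of_surjective (QuotientGroup.mk' (⊥ : Subgroup X)) (QuotientGroup.mk'_surjective _)⟩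

theorem cyclic_quotient_of_mem [Finite X] (hX : IsPGroup 2 X) {x y : X} (hxy : closure {x, y} = ⊤)
    {i j : ℤ} (h : x ^ i * y ^ j ∈ commutator X) (hi : Odd i) : IsCyclic (X ⧸ commutator X) := by
  set D := commutator X
  refine ⟨⟨(y : X ⧸ D), fun q => ?_⟩⟩
  have hx : (x : X ⧸ D) ∈ zpowers (y : X ⧸ D) := by
    refine zpowers_le.2 ?_ (mem_zpowers_zpow_odd (hX.to_quotient D) (x : X ⧸ D) hi)
    have h1 : (x : X ⧸ D) ^ i * (y : X ⧸ D) ^ j = 1 := by
      rw [← QuotientGroup.mk_zpow, ← QuotientGroup.mk_zpow, ← QuotientGroup.mk_mul]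
      exact (QuotientGroup.eq_one_iff _).2 h
    rw [mul_eq_one_iff_eq_inv.1 h1]
    exact inv_mem (zpow_mem (mem_zpowers _) _)
  have htop : (closure ({x, y} : Set X)).map (QuotientGroup.mk' D) ≤ zpowers (y : X ⧸ D) := by
    rw [MonoidHom.map_closure]
    refine (closure_le _).2 ?_
    rintro _ ⟨v, hv, rfl⟩
    simp only [Set.mem_insert_iff, Set.mem_singleton_iff] at hv
    rcases hv with rfl | rfl
    · exact hx
    · exact mem_zpowers _
  rw [hxy, Subgroup.map_top_of_surjective _ (QuotientGroup.mk'_surjective _)] at htop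
  exact htop (mem_top q)

/-- The normal form exists. -/
theorem exists_data [Finite X] (hX : IsPGroup 2 X) (hb : ∃ x y : X, ∀ g : X, ∃ i j : ℤ, g = x ^ i * y ^ j)
    (hm : ¬ Cfsg.IsMetacyclic X) : Nonempty (Data X) := by
  classical
  obtain ⟨x₀, y₀, hb⟩ := hb
  have hnc := not_metacyclic_not_cyclic_quotient hX hm
  have hgen : ∀ {x y : X}, (∀ g : X, ∃ i j : ℤ, g = x ^ i * y ^ j) → closure ({x, y} : Set X) = ⊤ := by
    intro x y h
    refine eq_top_iff.2 fun g _ => ?_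
    obtain ⟨i, j, rfl⟩ := h g
    exact mul_mem (zpow_mem (subset_closure (by simp)) i) (zpow_mem (subset_closure (by simp)) j)
  obtain ⟨i, j, hij⟩ := hb ⁅x₀, y₀⁆
  have hDm : ⁅x₀, y₀⁆ ∈ commutator X := commutator_mem_commutator (mem_top _) (mem_top _)
  have hie : Even i := Int.not_odd_iff_even.1 fun h => hnc (cyclic_quotient_of_mem hX (hgen hb) (hij ▸ hDm) h)
  have hje : Even j := by
    refine Int.not_odd_iff_even.1 fun h => hnc ?_
    refine cyclic_quotient_of_mem hX (x := y₀) (y := x₀) (by rw [Set.pair_comm]; exact hgen hb)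
      (i := j) (j := i) ?_ h
    have h1 := (inferInstance : (commutator X).Normal).conj_mem _ (hij ▸ hDm) (x₀ ^ i)⁻¹
    simpa [mul_assoc] using h1
  obtain ⟨p, rfl⟩ := hie
  obtain ⟨q, rfl⟩ := hje
  have hd0 : ((⁅x₀, y₀⁆ : X) : X ⧸ dK X) = (x₀ : X ⧸ dK X) ^ (2 * p) * (y₀ : X ⧸ dK X) ^ (2 * q) := by
    rw [hij, QuotientGroup.mk_mul, QuotientGroup.mk_zpow, QuotientGroup.mk_zpow, two_mul, two_mul]
  have hodd : Odd p ∧ Odd q := by
    by_contra h
    rw [not_and_or, Int.not_odd_iff_even, Int.not_odd_iff_even] at h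
    exact hm (isMetacyclic_of_even hX (hgen hb) p q hd0 h)
  -- renormalised generators
  set x := x₀ ^ p with hx
  set y := y₀ ^ q with hy
  have hb' : ∀ g : X, ∃ i j : ℤ, g = x ^ i * y ^ j := by
    intro g
    obtain ⟨i, j, rfl⟩ := hb g
    obtain ⟨u, hu⟩ := mem_zpowers_iff.1 (mem_zpowers_zpow_odd hX x₀ hodd.1)
    obtain ⟨v, hv⟩ := mem_zpowers_iff.1 (mem_zpowers_zpow_odd hX y₀ hodd.2)
    exact ⟨u * i, v * j, by rw [hx, hy, zpow_mul _ u i, zpow_mul _ v j, hu, hv]⟩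
  set Q := X ⧸ dK X
  set d : Q := ((⁅x₀, y₀⁆ : X) : Q) with hdd
  have hc : ∀ g, Commute d g := mk_dK_central hDm
  have hd2 : d ^ 2 = 1 := mk_dK_sq hDm
  have hdodd : ∀ {k : ℤ}, Odd k → d ^ k = d := by
    rintro k ⟨l, rfl⟩
    rw [zpow_add, zpow_mul, zpow_two, ← pow_two, hd2, one_zpow, one_mul, zpow_one]
  have hswap0 : (x₀ : Q) * (y₀ : Q) = d * (y₀ : Q) * (x₀ : Q) := by
    rw [hdd, ← QuotientGroup.mk_mul, ← QuotientGroup.mk_mul, ← QuotientGroup.mk_mul]
    congr 1; group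
  have hswap : (x : Q) * (y : Q) = d * (y : Q) * (x : Q) := by
    rw [hx, hy, QuotientGroup.mk_zpow, QuotientGroup.mk_zpow,
      zpow_mul_zpow_swap hswap0 hc p q, hdodd (hodd.1.mul hodd.2), mul_assoc]
  have hdxy : d = (x : Q) ^ (2 : ℤ) * (y : Q) ^ (2 : ℤ) := by
    rw [hd0, hx, hy, QuotientGroup.mk_zpow, QuotientGroup.mk_zpow, ← zpow_mul, ← zpow_mul, mul_comm p,
      mul_comm q]
  have hdi : d * d = 1 := by rw [← pow_two, hd2]
  set a := x with ha
  set b := x * y with hbdef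
  have hgenab : closure ({a, b} : Set X) = ⊤ := by
    refine eq_top_iff.2 (hgen hb' ▸ (closure_le _).2 ?_)
    intro v hv
    simp only [Set.mem_insert_iff, Set.mem_singleton_iff] at hv
    rw [SetLike.mem_coe]
    rcases hv with hv | hv <;> rw [hv]
    · exact subset_closure (by simp [ha])
    · have h1 : a⁻¹ * b ∈ closure ({a, b} : Set X) :=
        mul_mem (inv_mem (subset_closure (by simp))) (subset_closure (by simp))
      simpa [ha, hbdef] using h1
  have hyx : (y : Q) * (x : Q) = d * ((x : Q) * (y : Q)) := by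
    rw [hswap, ← mul_assoc, ← mul_assoc, hdi, one_mul]
  have hsqb : b ^ 2 ∈ dK X := by
    refine (QuotientGroup.eq_one_iff _).1 ?_
    rw [hbdef, QuotientGroup.mk_pow, QuotientGroup.mk_mul, pow_two]
    calc (x : Q) * (y : Q) * ((x : Q) * (y : Q))
        = (x : Q) * ((y : Q) * (x : Q)) * (y : Q) := by group
      _ = d * ((x : Q) ^ (2 : ℤ) * (y : Q) ^ (2 : ℤ)) := by
          rw [hyx, ← mul_assoc (x : Q), ← (hc (x : Q)).eq, zpow_two, zpow_two]; group
      _ = 1 := by rw [← hdxy, hdi]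
  have hcab : ((⁅a, b⁆ : X) : Q) = d := by
    have h1 : ((⁅a, b⁆ : X) : Q) =
        (x : Q) * ((x : Q) * (y : Q)) * (x : Q)⁻¹ * ((x : Q) * (y : Q))⁻¹ := rfl
    rw [h1, hswap, ← mul_assoc (x : Q), ← mul_assoc (x : Q), ← (hc (x : Q)).eq]
    have h2 : (x : Q) * (y : Q) = d * (y : Q) * (x : Q) := hswap
    calc d * (x : Q) * (y : Q) * (x : Q) * (x : Q)⁻¹ * (d * (y : Q) * (x : Q))⁻¹
        = d * ((x : Q) * (y : Q)) * (d * (y : Q) * (x : Q))⁻¹ := by group
      _ = d := by rw [h2]; group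
  have hnot : ⁅a, b⁆ ∉ dK X := by
    intro h
    refine hm (isMetacyclic_of_power hX hgenab hgenab 0 ?_)
    rw [mul_zero, zpow_zero]
    exact (QuotientGroup.eq_one_iff _).2 h
  have hncq := hnc
  -- the order of `a` modulo the derived subgroup
  obtain ⟨M, hM⟩ := IsPGroup.iff_orderOf.1 (hX.to_quotient (commutator X)) (a : X ⧸ commutator X)
  haveI hcommQ : IsMulCommutative (X ⧸ commutator X) :=
    Normal.quotient_commutative_iff_commutator_le.2 le_rfl
  have hpar : ∀ i j : ℤ, a ^ i * b ^ j ∈ commutator X → (2 ^ M : ℤ) ∣ i ∧ (2 : ℤ) ∣ j := by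
    intro i j h
    have hj : Even j := by
      refine Int.not_odd_iff_even.1 fun ho => hncq ?_
      refine cyclic_quotient_of_mem hX (x := b) (y := a) (by rw [Set.pair_comm]; exact hgenab)
        (i := j) (j := i) ?_ ho
      have h1 := (inferInstance : (commutator X).Normal).conj_mem _ h (a ^ i)⁻¹
      simpa [mul_assoc] using h1
    refine ⟨?_, even_iff_two_dvd.1 hj⟩
    obtain ⟨k, rfl⟩ := hj
    have h1 : (a : X ⧸ commutator X) ^ i = 1 := by
      rw [← QuotientGroup.mk_zpow, QuotientGroup.eq_one_iff]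
      refine (mul_mem_cancel_right ?_).1 h
      rw [← two_mul, zpow_mul, zpow_two, ← pow_two]
      exact zpow_mem (dK_le hsqb) k
    have h2 := orderOf_dvd_iff_zpow_eq_one.2 h1
    rw [hM] at h2
    exact_mod_cast h2
  have hDgen : commutator X ≤ zpowers ⁅a, b⁆ ⊔ dK X := by
    haveI : (zpowers ⁅a, b⁆ ⊔ dK X).Normal := by
      refine ⟨fun v hv g => ?_⟩
      have hvD : v ∈ commutator X :=
        sup_le (zpowers_le.2 (commutator_mem_commutator (mem_top a) (mem_top b))) dK_le hv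
      rw [show g * v * g⁻¹ = ⁅v, g⁆⁻¹ * v by group]
      exact mul_mem (inv_mem (mem_sup_right (comm_mem_dK hvD g))) hv
    exact commutator_le_of_gens hgenab _ (mem_sup_left (mem_zpowers _))
  have haD : a ^ 2 ^ M ∈ commutator X := by
    rw [← QuotientGroup.eq_one_iff, QuotientGroup.mk_pow, ← hM, pow_orderOf_eq_one]
  -- the power is trivial modulo `dK`
  obtain ⟨k, hk⟩ : ∃ k : ℤ, (a : Q) ^ 2 ^ M = d ^ k := by
    obtain ⟨u, hu, r, hr, hur⟩ := mem_sup_of_normal_right.1 (hDgen haD)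
    obtain ⟨k, rfl⟩ := mem_zpowers_iff.1 hu
    refine ⟨k, ?_⟩
    rw [← QuotientGroup.mk_pow, ← hur, QuotientGroup.mk_mul, (QuotientGroup.eq_one_iff r).2 hr,
      mul_one, QuotientGroup.mk_zpow, hcab]
  have hM1 : 2 ≤ M := by
    by_contra hlt
    have h01 : M = 0 ∨ M = 1 := by omega
    rcases h01 with rfl | rfl
    · refine hncq (cyclic_quotient_of_mem hX hgenab (i := 1) (j := 0) ?_ odd_one)
      simpa using haD
    · rcases Int.even_or_odd k with ⟨l, rfl⟩ | hodd'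
      · -- then `y ^ 2` is the commutator
        refine hm (isMetacyclic_of_power hX (hgen hb') (z := y) (w := x)
          (by rw [Set.pair_comm]; exact hgen hb') 1 ?_)
        have hx2 : (x : Q) ^ (2 : ℤ) = 1 := by
          rw [show (2 : ℤ) = ((2 ^ 1 : ℕ) : ℤ) by norm_num, zpow_natCast, ← ha, hk, ← two_mul,
            zpow_mul, zpow_two, ← pow_two, hd2, one_zpow]
        have h3 : ((⁅x, y⁆ : X) : Q) = d := by
          have : ((⁅x, y⁆ : X) : Q) = (x : Q) * (y : Q) * (x : Q)⁻¹ * (y : Q)⁻¹ := rfl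
          rw [this]
          show (a : Q) * (y : Q) * (a : Q)⁻¹ * (y : Q)⁻¹ = d
          rw [hswap]; group
        rw [h3, mul_one, hdxy, hx2, one_mul]
      · refine hm (isMetacyclic_of_power hX hgenab (z := a) (w := b) hgenab 1 ?_)
        rw [hcab, mul_one, show (2 : ℤ) = ((2 ^ 1 : ℕ) : ℤ) by norm_num, zpow_natCast, hk,
          hdodd hodd']
  refine ⟨⟨a, b, M, hM1, hgenab, fun g => ?_, hsqb, ?_, hpar, hnot⟩⟩
  · obtain ⟨i, j, rfl⟩ := hb' g
    exact ⟨i, j, by rw [ha, hbdef, inv_mul_cancel_left]⟩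
  · refine (QuotientGroup.eq_one_iff _).1 ?_
    rw [QuotientGroup.mk_pow, hk]
    rcases Int.even_or_odd k with ⟨l, rfl⟩ | hodd'
    · rw [← two_mul, zpow_mul, zpow_two, ← pow_two, hd2, one_zpow]
    · refine absurd ?_ hm
      refine isMetacyclic_of_power hX hgenab (z := a) (w := b) hgenab (2 ^ (M - 1) : ℕ) ?_
      rw [hcab, ← hdodd hodd', ← hk, show (2 : ℤ) * ((2 ^ (M - 1) : ℕ) : ℤ) = ((2 ^ M : ℕ) : ℤ) by
        push_cast; rw [← pow_succ', Nat.sub_add_cancel (by omega)], zpow_natCast]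

end Cfsg.Agent.Lib.Bicyclic
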